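import Cfsg.Agent.H17.Herm
import Cfsg.Agent.H7.Herm
import Cfsg.Agent.S0828

set_option autoImplicit false
set_option linter.unusedSectionVars false
set_option linter.unusedSimpArgs false

namespace Cfsg.Agent.H18

open Cfsg Polynomial

section TraceFiber
variable {F : Type*} [Field F] [Fintype F] {q : ℕ}

theorem card_isRoot_le (p : F[X]) (hp : p ≠ 0) :
    Nat.card {t : F // p.IsRoot t} ≤ p.natDegree := by
  classical
  have h1 : Nat.card {t : F // p.IsRoot t} = p.roots.toFinset.card := by
    rw [← Nat.card_eq_finsetCard]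
    exact Nat.card_congr (Equiv.subtypeEquivRight (fun t => by simp [hp]))
  rw [h1]
  exact (Multiset.toFinset_card_le _).trans (Polynomial.card_roots' p)

theorem card_trace_ker_le (hq : 2 ≤ q) : Nat.card {t : F // t + t ^ q = 0} ≤ q := by
  have hp : (X ^ q + X : F[X]) ≠ 0 := by
    intro h
    have := congrArg (fun p : F[X] => p.coeff q) h
    simp only [Polynomial.coeff_add, Polynomial.coeff_sub, Polynomial.coeff_X, Polynomial.coeff_X_pow, Polynomial.coeff_zero, if_true] at this
    rw [if_neg (by omega)] at this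
    simp at this
  have hdeg : (X ^ q + X : F[X]).natDegree = q := by
    rw [Polynomial.natDegree_add_eq_left_of_natDegree_lt]
    · simp
    · simp; omega
  have := card_isRoot_le (X ^ q + X : F[X]) hp
  rw [hdeg] at this
  refine le_trans (le_of_eq ?_) this
  exact Nat.card_congr (Equiv.subtypeEquivRight (fun t => by simp [Polynomial.IsRoot, add_comm]))

theorem card_fix_le (hq : 2 ≤ q) : Nat.card {t : F // t ^ q = t} ≤ q := by
  have hp : (X ^ q - X : F[X]) ≠ 0 := by
    intro h
    have := congrArg (fun p : F[X] => p.coeff q) h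
    simp only [Polynomial.coeff_add, Polynomial.coeff_sub, Polynomial.coeff_X, Polynomial.coeff_X_pow, Polynomial.coeff_zero, if_true] at this
    rw [if_neg (by omega)] at this
    simp at this
  have hdeg : (X ^ q - X : F[X]).natDegree = q := by
    rw [Polynomial.natDegree_sub_eq_left_of_natDegree_lt]
    · simp
    · simp; omega
  have := card_isRoot_le (X ^ q - X : F[X]) hp
  rw [hdeg] at this
  refine le_trans (le_of_eq ?_) this
  exact Nat.card_congr (Equiv.subtypeEquivRight (fun t => by simp [Polynomial.IsRoot, sub_eq_zero]))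

/-- the trace-like additive map `t ↦ t + t^q` -/
noncomputable def trHom (hF : Fintype.card F = q ^ 2) : F →+ F where
  toFun t := t + t ^ q
  map_zero' := by
    have hq := Cfsg.Agent.H17.two_le_of_card_sq hF
    simp [zero_pow (by omega : q ≠ 0)]
  map_add' a b := by
    rw [Cfsg.Agent.H17.frob_add hF]; ring

theorem trHom_apply (hF : Fintype.card F = q ^ 2) (t : F) : trHom hF t = t + t ^ q := rfl

theorem card_trace_fiber (hF : Fintype.card F = q ^ 2) (c : F) (hc : c ^ q = c) :
    Nat.card {t : F // t + t ^ q = c} = q := by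
  have hq := Cfsg.Agent.H17.two_le_of_card_sq hF
  have h1 : Nat.card (trHom hF).ker ≤ q := by
    refine le_trans (le_of_eq ?_) (card_trace_ker_le (F := F) hq)
    exact Nat.card_congr (Equiv.subtypeEquivRight (fun t => by
      rw [AddMonoidHom.mem_ker, trHom_apply]))
  have hsub : ((trHom hF).range : Set F) ⊆ {t : F | t ^ q = t} := by
    rintro _ ⟨t, rfl⟩
    show (t + t ^ q) ^ q = t + t ^ q
    rw [Cfsg.Agent.H17.frob_add hF, Cfsg.Agent.H17.frob_frob hF]; ring
  have h2' : ({t : F | t ^ q = t} : Set F).ncard ≤ q := by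
    rw [← Nat.card_coe_set_eq]
    exact card_fix_le (F := F) hq
  have h2 : Nat.card (trHom hF).range ≤ q := by
    have : Nat.card (trHom hF).range = ((trHom hF).range : Set F).ncard := by
      rw [← Nat.card_coe_set_eq]; rfl
    rw [this]
    exact (Set.ncard_le_ncard hsub (Set.toFinite _)).trans h2'
  have h3 : Nat.card (trHom hF).ker * Nat.card (trHom hF).range = q ^ 2 := by
    rw [← AddSubgroup.index_ker, AddSubgroup.card_mul_index, Nat.card_eq_fintype_card, hF]
  have h4 : Nat.card (trHom hF).ker = q ∧ Nat.card (trHom hF).range = q := by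
    constructor
    · by_contra hne
      have hlt : Nat.card (trHom hF).ker < q := lt_of_le_of_ne h1 hne
      have : Nat.card (trHom hF).ker * Nat.card (trHom hF).range < q * q :=
        Nat.mul_lt_mul_of_lt_of_le hlt h2 (by omega)
      rw [h3] at this
      nlinarith
    · by_contra hne
      have hlt : Nat.card (trHom hF).range < q := lt_of_le_of_ne h2 hne
      have : Nat.card (trHom hF).ker * Nat.card (trHom hF).range < q * q :=
        Nat.mul_lt_mul_of_le_of_lt h1 hlt (by omega)
      rw [h3] at this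
      nlinarith
  have heq : ((trHom hF).range : Set F) = {t : F | t ^ q = t} := by
    apply Set.eq_of_subset_of_ncard_le hsub _ (Set.toFinite _)
    have : Nat.card (trHom hF).range = ((trHom hF).range : Set F).ncard := by
      rw [← Nat.card_coe_set_eq]; rfl
    rw [← this, h4.2]
    exact h2'
  have hc' : c ∈ ((trHom hF).range : Set F) := by
    rw [heq]; exact hc
  obtain ⟨t₀, ht₀⟩ := hc'
  rw [trHom_apply] at ht₀
  refine (Nat.card_congr ?_).trans h4.1
  refine
    { toFun := fun t => ⟨t.1 - t₀, ?_⟩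
      invFun := fun s => ⟨s.1 + t₀, ?_⟩
      left_inv := fun t => Subtype.ext (by simp)
      right_inv := fun s => Subtype.ext (by simp) }
  · rw [AddMonoidHom.mem_ker, map_sub, trHom_apply, trHom_apply, t.2, ht₀, sub_self]
  · have := s.2
    rw [AddMonoidHom.mem_ker, trHom_apply] at this
    rw [Cfsg.Agent.H17.frob_add hF]
    linear_combination this + ht₀

end TraceFiber

section Counting

theorem card_eq_sum_fiber {α β : Type*} [Finite α] [Fintype β] (p : α → Prop) (f : α → β) :
    Nat.card {x // p x} = ∑ c, Nat.card {x // p x ∧ f x = c} := by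
  rw [Nat.card_congr (Equiv.sigmaFiberEquiv (fun x : {x // p x} => f x.1)).symm, Nat.card_sigma]
  refine Finset.sum_congr rfl (fun c _ => ?_)
  exact Nat.card_congr (Equiv.subtypeSubtypeEquivSubtypeInter p (fun x => f x = c))

theorem card_split {α : Type*} [Finite α] (p r : α → Prop) :
    Nat.card {x // p x} = Nat.card {x // p x ∧ r x} + Nat.card {x // p x ∧ ¬ r x} := by
  classical
  rw [← Nat.card_sum]
  refine Nat.card_congr ?_
  refine (Equiv.sumCompl (fun x : {x // p x} => r x.1)).symm.trans ?_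
  exact Equiv.sumCongr (Equiv.subtypeSubtypeEquivSubtypeInter p r)
    (Equiv.subtypeSubtypeEquivSubtypeInter p (fun x => ¬ r x))

end Counting

section HermLines
variable {F : Type*} [Field F] [Fintype F] {q : ℕ} (n : ℕ)

/-- `u ↦ h(u, v)` as a linear functional -/
noncomputable def hermFunc (q : ℕ) (v : Fin n → F) : (Fin n → F) →ₗ[F] F where
  toFun u := hermForm n F q u v
  map_add' u u' := Cfsg.Agent.H17.hermForm_add_left n u u' v
  map_smul' a u := Cfsg.Agent.H17.hermForm_smul_left n a u v

theorem hermFunc_apply (v u : Fin n → F) : hermFunc n q v u = hermForm n F q u v := rfl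

theorem exists_herm_one (v : Fin n → F) (hv : v ≠ 0) :
    ∃ u₀ : Fin n → F, hermForm n F q u₀ v = 1 := by
  obtain ⟨i, hi⟩ : ∃ i, v i ≠ 0 := by
    by_contra hcon
    simp only [not_exists, not_not] at hcon
    exact hv (funext hcon)
  refine ⟨((v i) ^ q)⁻¹ • Pi.single i 1, ?_⟩
  rw [Cfsg.Agent.H17.hermForm_smul_left, Cfsg.Agent.H17.hermForm_single_left,
    inv_mul_cancel₀ (pow_ne_zero _ hi)]

theorem herm_sub_smul (hF : Fintype.card F = q ^ 2) (u v : Fin n → F) (t : F)
    (hv0 : hermForm n F q v v = 0) :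
    hermForm n F q (u + t • v) (u + t • v) =
      hermForm n F q u u + t ^ q * hermForm n F q u v + t * (hermForm n F q u v) ^ q := by
  rw [Cfsg.Agent.H17.hermForm_add_left, Cfsg.Agent.H17.hermForm_add_right n hF,
    Cfsg.Agent.H17.hermForm_add_right n hF, Cfsg.Agent.H17.hermForm_smul_left,
    Cfsg.Agent.H17.hermForm_smul_left, Cfsg.Agent.H17.hermForm_smul_right,
    Cfsg.Agent.H17.hermForm_smul_right, hv0, Cfsg.Agent.H17.hermForm_conj n hF u v]
  ring

theorem herm_add_smul_left (u v : Fin n → F) (t : F) (hv0 : hermForm n F q v v = 0) :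
    hermForm n F q (u + t • v) v = hermForm n F q u v := by
  rw [Cfsg.Agent.H17.hermForm_add_left, Cfsg.Agent.H17.hermForm_smul_left, hv0]
  ring

theorem card_herm_one (hF : Fintype.card F = q ^ 2) (v : Fin n → F) (hv : v ≠ 0) :
    Nat.card {u : Fin n → F // hermForm n F q u v = 1} = (q ^ 2) ^ (n - 1) := by
  obtain ⟨u₀, hu₀⟩ := exists_herm_one n v hv
  have h1 := LinearMap.finrank_range_add_finrank_ker (hermFunc n q v)
  have h2 : LinearMap.range (hermFunc n q v) = ⊤ := by
    rw [LinearMap.range_eq_top]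
    intro c
    exact ⟨c • u₀, by rw [map_smul, hermFunc_apply, hu₀, smul_eq_mul, mul_one]⟩
  rw [h2, finrank_top, Module.finrank_self, Module.finrank_fintype_fun_eq_card,
    Fintype.card_fin] at h1
  have h3 : Nat.card (LinearMap.ker (hermFunc n q v)) = (q ^ 2) ^ (n - 1) := by
    rw [Module.natCard_eq_pow_finrank (K := F) (V := LinearMap.ker (hermFunc n q v)),
      Nat.card_eq_fintype_card, hF]
    congr 1
    omega
  rw [← h3]
  refine Nat.card_congr ?_
  refine
    { toFun := fun u => ⟨u.1 - u₀, ?_⟩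
      invFun := fun s => ⟨s.1 + u₀, ?_⟩
      left_inv := fun t => Subtype.ext (by simp)
      right_inv := fun s => Subtype.ext (by simp) }
  · rw [LinearMap.mem_ker, map_sub, hermFunc_apply, hermFunc_apply, u.2, hu₀, sub_self]
  · have := s.2
    rw [LinearMap.mem_ker, hermFunc_apply] at this
    rw [Cfsg.Agent.H17.hermForm_add_left, this, hu₀, zero_add]

/-- (S1) isotropic vectors with `h(u, v) = 1` -/
theorem card_iso_one (hF : Fintype.card F = q ^ 2) (v : Fin n → F) (hv : v ≠ 0)
    (hv0 : hermForm n F q v v = 0) :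
    Nat.card {u : Fin n → F // hermForm n F q u u = 0 ∧ hermForm n F q u v = 1} * q =
      (q ^ 2) ^ (n - 1) := by
  have hq := Cfsg.Agent.H17.two_le_of_card_sq hF
  have key := Cfsg.Agent.S0828.double_count' (A := Fin n → F) (B := F)
    (fun u => hermForm n F q u v = 1) (fun _ => True)
    (fun u t => t + t ^ q = hermForm n F q u u) q
    (Nat.card {u : Fin n → F // hermForm n F q u u = 0 ∧ hermForm n F q u v = 1}) ?_ ?_
  · rw [card_herm_one n hF v hv] at key
    have h1 : Nat.card {_t : F // True} = q ^ 2 := by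
      rw [← hF, ← Nat.card_eq_fintype_card]
      exact Nat.card_congr (Equiv.subtypeUnivEquiv (fun _ => trivial))
    rw [h1] at key
    apply Nat.eq_of_mul_eq_mul_right (show 0 < q by omega)
    rw [key]; ring
  · intro u hu
    have := card_trace_fiber hF (hermForm n F q u u) (Cfsg.Agent.H17.hermForm_conj n hF u u)
    exact (Nat.card_congr (Equiv.subtypeEquivRight (fun t => by simp))).trans this
  · intro t _
    refine Nat.card_congr ?_
    refine
      { toFun := fun u => ⟨u.1 + (-t) • v, ?_, ?_⟩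
        invFun := fun u => ⟨u.1 + t • v, ?_, ?_⟩
        left_inv := fun u => Subtype.ext (by simp)
        right_inv := fun u => Subtype.ext (by simp) }
    · rw [herm_sub_smul n hF _ _ _ hv0, u.2.1, ← u.2.2, Cfsg.Agent.H17.frob_neg hF]
      ring
    · rw [herm_add_smul_left n _ _ _ hv0, u.2.1]
    · rw [herm_add_smul_left n _ _ _ hv0, u.2.2]
    · rw [herm_sub_smul n hF _ _ _ hv0, u.2.1, u.2.2]
      ring

/-- (S2) -/
theorem card_iso_split (hF : Fintype.card F = q ^ 2) (v : Fin n → F) :
    Nat.card {u : Fin n → F // hermForm n F q u u = 0} =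
      Nat.card {u : Fin n → F // hermForm n F q u u = 0 ∧ hermForm n F q u v = 0} +
      (q ^ 2 - 1) *
        Nat.card {u : Fin n → F // hermForm n F q u u = 0 ∧ hermForm n F q u v = 1} := by
  classical
  rw [card_eq_sum_fiber (fun u : Fin n → F => hermForm n F q u u = 0)
    (fun u => hermForm n F q u v), ← Finset.add_sum_erase Finset.univ _ (Finset.mem_univ (0 : F))]
  congr 1
  have : ∀ c ∈ Finset.univ.erase (0 : F),
      Nat.card {u : Fin n → F // hermForm n F q u u = 0 ∧ hermForm n F q u v = c} =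
      Nat.card {u : Fin n → F // hermForm n F q u u = 0 ∧ hermForm n F q u v = 1} := by
    intro c hc
    have hc0 : c ≠ 0 := Finset.ne_of_mem_erase hc
    refine Nat.card_congr ?_
    refine
      { toFun := fun u => ⟨c⁻¹ • u.1, ?_, ?_⟩
        invFun := fun u => ⟨c • u.1, ?_, ?_⟩
        left_inv := fun u => Subtype.ext (by simp [smul_smul, hc0])
        right_inv := fun u => Subtype.ext (by simp [smul_smul, hc0]) }
    · rw [Cfsg.Agent.H17.hermForm_smul_left, Cfsg.Agent.H17.hermForm_smul_right, u.2.1]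
      ring
    · rw [Cfsg.Agent.H17.hermForm_smul_left, u.2.2, inv_mul_cancel₀ hc0]
    · rw [Cfsg.Agent.H17.hermForm_smul_left, Cfsg.Agent.H17.hermForm_smul_right, u.2.1]
      ring
    · rw [Cfsg.Agent.H17.hermForm_smul_left, u.2.2, mul_one]
  rw [Finset.sum_congr rfl this, Finset.sum_const, Finset.card_erase_of_mem (Finset.mem_univ _),
    Finset.card_univ, hF, smul_eq_mul]

theorem herm_swap_zero (hF : Fintype.card F = q ^ 2) (u v : Fin n → F)
    (huv : hermForm n F q u v = 0) : hermForm n F q v u = 0 := by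
  have hq := Cfsg.Agent.H17.two_le_of_card_sq hF
  rw [← Cfsg.Agent.H17.hermForm_conj n hF u v, huv, zero_pow (by omega)]

theorem herm_span_pair_ti (hF : Fintype.card F = q ^ 2) (v u : Fin n → F)
    (hv0 : hermForm n F q v v = 0) (hu0 : hermForm n F q u u = 0)
    (huv : hermForm n F q u v = 0) :
    ∀ x ∈ Submodule.span F {v, u}, ∀ y ∈ Submodule.span F {v, u}, hermForm n F q x y = 0 := by
  intro x hx y hy
  rw [Submodule.mem_span_pair] at hx hy
  obtain ⟨a, b, rfl⟩ := hx
  obtain ⟨c, d, rfl⟩ := hy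
  have hvu := herm_swap_zero n hF u v huv
  rw [Cfsg.Agent.H17.hermForm_add_left, Cfsg.Agent.H17.hermForm_add_right n hF,
    Cfsg.Agent.H17.hermForm_add_right n hF, Cfsg.Agent.H17.hermForm_smul_left,
    Cfsg.Agent.H17.hermForm_smul_left, Cfsg.Agent.H17.hermForm_smul_left,
    Cfsg.Agent.H17.hermForm_smul_left, Cfsg.Agent.H17.hermForm_smul_right,
    Cfsg.Agent.H17.hermForm_smul_right, Cfsg.Agent.H17.hermForm_smul_right,
    Cfsg.Agent.H17.hermForm_smul_right, hv0, hu0, huv, hvu]
  ring

/-- (S3) -/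
theorem card_iso_perp_split (hF : Fintype.card F = q ^ 2) (v : Fin n → F) (hv : v ≠ 0)
    (hv0 : hermForm n F q v v = 0) :
    Nat.card {u : Fin n → F // hermForm n F q u u = 0 ∧ hermForm n F q u v = 0} =
      q ^ 2 + Nat.card {u : Fin n → F // (hermForm n F q u u = 0 ∧ hermForm n F q u v = 0) ∧
        u ∉ Submodule.span F {v}} := by
  rw [card_split (fun u : Fin n → F => hermForm n F q u u = 0 ∧ hermForm n F q u v = 0)
    (fun u => u ∈ Submodule.span F {v})]
  congr 1
  have h1 : Nat.card (Submodule.span F {v}) = q ^ 2 := by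
    rw [Module.natCard_eq_pow_finrank (K := F) (V := Submodule.span F {v}),
      finrank_span_singleton hv, pow_one, Nat.card_eq_fintype_card, hF]
  rw [← h1]
  refine Nat.card_congr (Equiv.subtypeEquivRight (fun u => ?_))
  constructor
  · exact fun h => h.2
  · intro h
    refine ⟨?_, h⟩
    rw [Submodule.mem_span_singleton] at h
    obtain ⟨a, rfl⟩ := h
    constructor
    · rw [Cfsg.Agent.H17.hermForm_smul_left, Cfsg.Agent.H17.hermForm_smul_right, hv0]
      ring
    · rw [Cfsg.Agent.H17.hermForm_smul_left, hv0, mul_zero]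

/-- (S4) t.i. 2-spaces through an isotropic vector -/
theorem herm_count_through (hF : Fintype.card F = q ^ 2) (v : Fin n → F) (hv : v ≠ 0)
    (hv0 : hermForm n F q v v = 0) :
    Nat.card {W : Submodule F (Fin n → F) // Module.finrank F W = 2 ∧ v ∈ W ∧
        ∀ u ∈ W, ∀ w ∈ W, hermForm n F q u w = 0} * ((q ^ 2) ^ 2 - q ^ 2) =
      Nat.card {u : Fin n → F // (hermForm n F q u u = 0 ∧ hermForm n F q u v = 0) ∧
        u ∉ Submodule.span F {v}} := by
  have key := Cfsg.Agent.S0828.double_count' (A := Fin n → F) (B := Submodule F (Fin n → F))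
    (fun u => (hermForm n F q u u = 0 ∧ hermForm n F q u v = 0) ∧ u ∉ Submodule.span F {v})
    (fun W => Module.finrank F W = 2 ∧ v ∈ W ∧ ∀ u ∈ W, ∀ w ∈ W, hermForm n F q u w = 0)
    (fun u W => u ∈ W) 1 ((q ^ 2) ^ 2 - q ^ 2) ?_ ?_
  · rw [← key, mul_one]
  · rintro u ⟨⟨hu0, huv⟩, hu2⟩
    rw [Nat.card_eq_one_iff_unique]
    constructor
    · constructor
      rintro ⟨W, ⟨hW, hvW, -⟩, huW⟩ ⟨W', ⟨hW', hvW', -⟩, huW'⟩
      apply Subtype.ext
      show W = W'
      rw [Cfsg.Agent.S0828.eq_span_pair W hW v u hv hvW huW hu2,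
        Cfsg.Agent.S0828.eq_span_pair W' hW' v u hv hvW' huW' hu2]
    · exact ⟨⟨Submodule.span F {v, u}, ⟨Cfsg.Agent.S0828.span_pair_finrank v u hv hu2,
        Submodule.subset_span (by simp), herm_span_pair_ti n hF v u hv0 hu0 huv⟩,
        Submodule.subset_span (by simp)⟩⟩
  · rintro W ⟨hW, hvW, hti⟩
    have hle' : Submodule.span F {v} ≤ W := by
      rw [Submodule.span_singleton_le_iff_mem]
      exact hvW
    have := Cfsg.Agent.S0828.card_sub_diff W _ hle'
    rw [hW, finrank_span_singleton hv, pow_one, hF] at this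
    rw [← this]
    refine Nat.card_congr (Equiv.subtypeEquivRight (fun u => ?_))
    constructor
    · rintro ⟨⟨-, h2⟩, h3⟩
      exact ⟨h3, h2⟩
    · rintro ⟨h3, h2⟩
      exact ⟨⟨⟨hti u h3 u h3, hti u h3 v hvW⟩, h2⟩, h3⟩

/-- (S5) double count of incident (isotropic point, t.i. line) pairs -/
theorem herm_count_all (hF : Fintype.card F = q ^ 2) (N : ℕ)
    (hN : ∀ v : Fin n → F, v ≠ 0 → hermForm n F q v v = 0 →
      Nat.card {W : Submodule F (Fin n → F) // Module.finrank F W = 2 ∧ v ∈ W ∧
        ∀ u ∈ W, ∀ w ∈ W, hermForm n F q u w = 0} = N) :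
    Nat.card {v : Fin n → F // v ≠ 0 ∧ hermForm n F q v v = 0} * N =
      Nat.card {W : Submodule F (Fin n → F) // Module.finrank F W = 2 ∧
        ∀ u ∈ W, ∀ w ∈ W, hermForm n F q u w = 0} * ((q ^ 2) ^ 2 - 1) := by
  apply Cfsg.Agent.S0828.double_count' (A := Fin n → F) (B := Submodule F (Fin n → F))
    (fun v => v ≠ 0 ∧ hermForm n F q v v = 0)
    (fun W => Module.finrank F W = 2 ∧ ∀ u ∈ W, ∀ w ∈ W, hermForm n F q u w = 0)
    (fun u W => u ∈ W) N ((q ^ 2) ^ 2 - 1)
  · rintro v ⟨hv, hv0⟩
    rw [← hN v hv hv0]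
    exact Nat.card_congr (Equiv.subtypeEquivRight (fun W => by tauto))
  · rintro W ⟨hW, hti⟩
    have := Cfsg.Agent.S0828.card_sub_nonzero (F := F) W
    rw [hW, hF] at this
    rw [← this]
    refine Nat.card_congr (Equiv.subtypeEquivRight (fun u => ?_))
    constructor
    · rintro ⟨⟨h1, -⟩, h3⟩
      exact ⟨h1, h3⟩
    · rintro ⟨h1, h3⟩
      exact ⟨⟨h1, hti u h3 u h3⟩, h3⟩

theorem card_iso_nonzero :
    Nat.card {v : Fin n → F // hermForm n F q v v = 0} =
      1 + Nat.card {v : Fin n → F // v ≠ 0 ∧ hermForm n F q v v = 0} := by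
  rw [card_split (fun u : Fin n → F => hermForm n F q u u = 0) (fun u => u = 0)]
  congr 1
  · rw [Nat.card_eq_one_iff_unique]
    constructor
    · constructor
      rintro ⟨a, -, rfl⟩ ⟨b, -, rfl⟩
      rfl
    · exact ⟨⟨0, Cfsg.Agent.H17.hermForm_zero_left n 0, rfl⟩⟩
  · exact Nat.card_congr (Equiv.subtypeEquivRight (fun u => by tauto))

end HermLines

end Cfsg.Agent.H18
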