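import Cfsg.Agent.H87.CenDefs

set_option autoImplicit false

/-!
`S5201-COMM`: in the configuration `CCfg`, the commutator subgroup of `C_S(T)` lies in `T`.
-/

namespace Cfsg.Agent.H18.Cen

open Cfsg Cfsg.FusionSystem Cfsg.Agent.H86 Cfsg.Agent.H87

universe u

variable {Ω : Type u} [Group Ω] {S T : Subgroup Ω}

/-- A pure group identity: central corrections do not change a commutator. -/
lemma comm_corr {G : Type*} [Group G] (c c' z z' : G) (h1 : z * c' = c' * z) (h2 : z' * c = c * z')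
    (h3 : z' * z = z * z') :
    (c * z) * (c' * z') * (c * z)⁻¹ * (c' * z')⁻¹ = c * c' * c⁻¹ * c'⁻¹ := by
  have e1 : (c * z) * (c' * z') = c * c' * (z * z') := by
    calc (c * z) * (c' * z') = c * (z * c') * z' := by group
      _ = c * (c' * z) * z' := by rw [h1]
      _ = c * c' * (z * z') := by group
  have e2 : (c' * z') * (c * z) = c' * c * (z * z') := by
    calc (c' * z') * (c * z) = c' * (z' * c) * z := by group
      _ = c' * (c * z') * z := by rw [h2]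
      _ = c' * c * (z' * z) := by group
      _ = c' * c * (z * z') := by rw [h3]
  calc (c * z) * (c' * z') * (c * z)⁻¹ * (c' * z')⁻¹
      = ((c * z) * (c' * z')) * ((c' * z') * (c * z))⁻¹ := by group
    _ = (c * c' * (z * z')) * (c' * c * (z * z'))⁻¹ := by rw [e1, e2]
    _ = c * c' * c⁻¹ * c'⁻¹ := by group

theorem comm_mem [Finite S] {p : ℕ} [Fact p.Prime] (hS : IsPGroup p S) {F : FusionSystem S}
    {E : FusionSystem T} {D : FusionSystem (T ⊔ centralizerIn S T)} (hC : CCfg p F E D)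
    (hL : ∀ Q : Subgroup Ω, E.IsCentric Q → ∀ α ∈ E.autGroup Q,
      ∃ a : Ω → Ω, Mor F (Q ⊔ centralizerIn S T) a ∧ (∀ x ∈ Q, a x = autFun Q α x) ∧
        ∀ c ∈ centralizerIn S T, c⁻¹ * a c ∈ T)
    (hCen : ∀ Y : Subgroup Ω, Y ≤ centralizerIn S T →
      (∀ Q : Subgroup Ω, E.IsCentric Q → ∀ α ∈ E.autGroup Q,
        ∃ a : Ω → Ω, Mor F (Q ⊔ Y) a ∧ (∀ x ∈ Q, a x = autFun Q α x) ∧ ∀ y ∈ Y, a y = y) →
      Y ≤ T) :
    ∀ c ∈ centralizerIn S T, ∀ c' ∈ centralizerIn S T, c * c' * c⁻¹ * c'⁻¹ ∈ T := by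
  intro c₀ hc₀ c₀' hc₀'
  obtain ⟨C, hCdef⟩ : ∃ C, C = centralizerIn S T := ⟨_, rfl⟩
  rw [← hCdef] at hL hCen hc₀ hc₀'
  have hCT : ∀ c ∈ C, ∀ x ∈ T, x * c = c * x := by
    intro c hc
    rw [hCdef] at hc
    exact (mem_centralizerIn_iff.1 hc).2
  obtain ⟨Y, hYdef⟩ : ∃ Y : Subgroup Ω,
      Y = Subgroup.closure {y | ∃ c ∈ C, ∃ c' ∈ C, y = c * c' * c⁻¹ * c'⁻¹} := ⟨_, rfl⟩
  have hYC : Y ≤ C := by
    rw [hYdef, Subgroup.closure_le]
    rintro y ⟨c, hc, c', hc', rfl⟩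
    exact C.mul_mem (C.mul_mem (C.mul_mem hc hc') (C.inv_mem hc)) (C.inv_mem hc')
  have hYT : Y ≤ T := by
    apply hCen Y hYC
    intro Q hQ α hα
    obtain ⟨a, ha, haQ, haC⟩ := hL Q hQ α hα
    have hQT : Q ≤ T := hQ.1
    have hcentQ : centralizerIn T Q ≤ Q := hQ.2 Q (isConj_refl E hQ.1)
    have key : ∀ c ∈ C, c⁻¹ * a c ∈ Q ∧ ∀ x ∈ Q, x * (c⁻¹ * a c) = (c⁻¹ * a c) * x := by
      intro c hc
      have hcQC : c ∈ Q ⊔ C := (le_sup_right : C ≤ Q ⊔ C) hc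
      have hac : ∀ x ∈ Q, x * a c = a c * x := by
        intro x hx
        have hx' : autFun Q α⁻¹ x ∈ Q := autFun_mem _ hx
        have hxQC : autFun Q α⁻¹ x ∈ Q ⊔ C := (le_sup_left : Q ≤ Q ⊔ C) hx'
        have e1 : a (autFun Q α⁻¹ x) = x := by rw [haQ _ hx', autFun_apply_inv α hx]
        have e2 := ha.map_mul hxQC hcQC
        have e3 := ha.map_mul hcQC hxQC
        rw [hCT c hc _ (hQT hx'), e3, e1] at e2
        exact e2.symm
      have hz : ∀ x ∈ Q, x * (c⁻¹ * a c) = (c⁻¹ * a c) * x := by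
        intro x hx
        have h1 := hCT c hc x (hQT hx)
        have h2 := hac x hx
        have h3 : x * c⁻¹ = c⁻¹ * x := by
          calc x * c⁻¹ = c⁻¹ * (c * x) * c⁻¹ := by group
            _ = c⁻¹ * (x * c) * c⁻¹ := by rw [h1]
            _ = c⁻¹ * x := by group
        calc x * (c⁻¹ * a c) = (x * c⁻¹) * a c := by group
          _ = c⁻¹ * (x * a c) := by rw [h3]; group
          _ = c⁻¹ * (a c * x) := by rw [h2]
          _ = (c⁻¹ * a c) * x := by group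
      refine ⟨hcentQ ?_, hz⟩
      rw [mem_centralizerIn_iff]
      exact ⟨haC c hc, hz⟩
    have hfixc : ∀ c ∈ C, ∀ c' ∈ C, a (c * c' * c⁻¹ * c'⁻¹) = c * c' * c⁻¹ * c'⁻¹ := by
      intro c hc c' hc'
      have hcQC : c ∈ Q ⊔ C := (le_sup_right : C ≤ Q ⊔ C) hc
      have hcQC' : c' ∈ Q ⊔ C := (le_sup_right : C ≤ Q ⊔ C) hc'
      obtain ⟨hzQ, hzc⟩ := key c hc
      obtain ⟨hzQ', hzc'⟩ := key c' hc'
      have ea : a c = c * (c⁻¹ * a c) := by group
      have ea' : a c' = c' * (c'⁻¹ * a c') := by group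
      rw [ha.map_mul ((Q ⊔ C).mul_mem ((Q ⊔ C).mul_mem hcQC hcQC') ((Q ⊔ C).inv_mem hcQC))
          ((Q ⊔ C).inv_mem hcQC'),
        ha.map_mul ((Q ⊔ C).mul_mem hcQC hcQC') ((Q ⊔ C).inv_mem hcQC),
        ha.map_mul hcQC hcQC', ha.map_inv hcQC, ha.map_inv hcQC']
      rw [ea, ea']
      exact comm_corr c c' (c⁻¹ * a c) (c'⁻¹ * a c') (hCT c' hc' _ (hQT hzQ))
        (hCT c hc _ (hQT hzQ')) (hzc _ hzQ')
    have hfix : ∀ y ∈ Y, a y = y := by
      intro y hy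
      have hYQC : Y ≤ Q ⊔ C := hYC.trans le_sup_right
      rw [hYdef] at hy
      induction hy using Subgroup.closure_induction with
      | mem y hy =>
        obtain ⟨c, hc, c', hc', rfl⟩ := hy
        exact hfixc c hc c' hc'
      | one => exact ha.map_one
      | mul x y hx hy ihx ihy =>
        rw [← hYdef] at hx hy
        rw [ha.map_mul (hYQC hx) (hYQC hy), ihx, ihy]
      | inv x hx ih =>
        rw [← hYdef] at hx
        rw [ha.map_inv (hYQC hx), ih]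
    exact ⟨a, ha.restrict (sup_le_sup_left hYC Q), haQ, hfix⟩
  apply hYT
  rw [hYdef]
  exact Subgroup.subset_closure ⟨c₀, hc₀, c₀', hc₀', rfl⟩

example [Finite S] {p : ℕ} [Fact p.Prime] (hS : IsPGroup p S) {F : FusionSystem S}
    {E : FusionSystem T} {D : FusionSystem (T ⊔ centralizerIn S T)} (hC : CCfg p F E D)
    (hL : ∀ Q : Subgroup Ω, E.IsCentric Q → ∀ α ∈ E.autGroup Q,
      ∃ a : Ω → Ω, Mor F (Q ⊔ centralizerIn S T) a ∧ (∀ x ∈ Q, a x = autFun Q α x) ∧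
        ∀ c ∈ centralizerIn S T, c⁻¹ * a c ∈ T)
    (hCen : ∀ Y : Subgroup Ω, Y ≤ centralizerIn S T →
      (∀ Q : Subgroup Ω, E.IsCentric Q → ∀ α ∈ E.autGroup Q,
        ∃ a : Ω → Ω, Mor F (Q ⊔ Y) a ∧ (∀ x ∈ Q, a x = autFun Q α x) ∧ ∀ y ∈ Y, a y = y) →
      Y ≤ T) :
    ∀ c ∈ centralizerIn S T, ∀ c' ∈ centralizerIn S T, c * c' * c⁻¹ * c'⁻¹ ∈ T :=
  comm_mem hS hC hL hCen

end Cfsg.Agent.H18.Cen
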