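import Mathlib
import Cfsg.Agent.H29.Dk2

/-!
# Class decomposition in a group where commuting is transitive modulo a central subgroup (helper18)

Builds on `Cfsg.Agent.H29.Dk2` (`Cen`, `Yb`, `Nb`, `Ob`).
-/

set_option autoImplicit false
set_option linter.unusedSectionVars false
set_option linter.unusedVariables false

namespace Cfsg.Agent.H18.Dk

open Cfsg.Agent.H29.Dk

section CA

variable {G : Type*} [Group G] [Finite G] {L Zs : Subgroup G}
variable (hZc : ∀ ζ ∈ Zs, ∀ g : G, ζ * g = g * ζ)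
  (hCA : ∀ x y w : G, x ∉ Zs → x * y = y * x → x * w = w * x → y * w = w * y)

include hZc hCA in
/-- A union of classes is a disjoint union of the classes of finitely many representatives. -/
theorem exists_reps_aux : ∀ (n : ℕ) (W : Set G), W.ncard = n →
    (∀ x ∈ W, x ∈ L ∧ x ∉ Zs ∧ Ob L Zs x ⊆ W) →
    ∃ T : Finset G, (∀ x ∈ T, x ∈ W) ∧ (∀ x ∈ T, ∀ y ∈ T, x ≠ y → y ∉ Ob L Zs x) ∧
      (∀ y ∈ W, ∃ x ∈ T, y ∈ Ob L Zs x) ∧ ∑ x ∈ T, (Ob L Zs x).ncard = W.ncard := by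
  classical
  intro n
  induction n using Nat.strong_induction_on with
  | _ n ih =>
    intro W hn hW
    by_cases hWe : W = ∅
    · refine ⟨∅, by simp, by simp, ?_, ?_⟩
      · intro y hy; rw [hWe] at hy; exact absurd hy (Set.notMem_empty y)
      · rw [hWe]; simp
    · obtain ⟨x, hx⟩ := Set.nonempty_iff_ne_empty.2 hWe
      obtain ⟨hxL, hxZ, hxW⟩ := hW x hx
      have hW' : ∀ y ∈ W \ Ob L Zs x, y ∈ L ∧ y ∉ Zs ∧ Ob L Zs y ⊆ W \ Ob L Zs x := by
        intro y hy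
        obtain ⟨hyL, hyZ, hyW⟩ := hW y hy.1
        refine ⟨hyL, hyZ, ?_⟩
        intro w hw
        refine ⟨hyW hw, ?_⟩
        intro hwx
        have hd := ob_disjoint hZc hCA hxZ hyZ hy.2 hyL
        exact Set.disjoint_left.1 hd hw hwx
      have hlt : (W \ Ob L Zs x).ncard < n := by
        rw [← hn]
        apply Set.ncard_lt_ncard _ (Set.toFinite W)
        refine ⟨Set.sdiff_subset, ?_⟩
        intro hsub
        exact (hsub hx).2 (self_mem_ob hxL hxZ)
      obtain ⟨T', hT1, hT2, hT3, hT4⟩ := ih _ hlt (W \ Ob L Zs x) rfl hW'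
      have hxT : x ∉ T' := fun h => (hT1 x h).2 (self_mem_ob hxL hxZ)
      refine ⟨insert x T', ?_, ?_, ?_, ?_⟩
      · intro y hy
        rcases Finset.mem_insert.1 hy with rfl | hy
        · exact hx
        · exact (hT1 y hy).1
      · intro a ha b hb hab
        rcases Finset.mem_insert.1 ha with hax | ha' <;> rcases Finset.mem_insert.1 hb with hbx | hb'
        · exact absurd (hax.trans hbx.symm) hab
        · rw [hax]; exact (hT1 b hb').2
        · intro hxa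
          rw [hbx] at hxa
          have haZ : a ∉ Zs := (hW a (hT1 a ha').1).2.1
          have haL : a ∈ L := (hW a (hT1 a ha').1).1
          have e := ob_eq_of_mem hZc hCA haZ hxa
          apply (hT1 a ha').2
          rw [e]
          exact self_mem_ob haL haZ
        · exact hT2 a ha' b hb' hab
      · intro y hy
        by_cases hyx : y ∈ Ob L Zs x
        · exact ⟨x, Finset.mem_insert_self _ _, hyx⟩
        · obtain ⟨a, ha, hya⟩ := hT3 y ⟨hy, hyx⟩
          exact ⟨a, Finset.mem_insert_of_mem ha, hya⟩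
      · rw [Finset.sum_insert hxT, hT4, add_comm]
        exact Set.ncard_sdiff_add_ncard_of_subset hxW (Set.toFinite W)

/-- The class decomposition of the noncentral elements of `L`. -/
theorem class_sum (L Zs : Subgroup G) (hZc : ∀ ζ ∈ Zs, ∀ g : G, ζ * g = g * ζ)
    (hCA : ∀ x y w : G, x ∉ Zs → x * y = y * x → x * w = w * x → y * w = w * y) :
    ∃ T : Finset G, (∀ x ∈ T, x ∈ L ∧ x ∉ Zs) ∧ (∀ x ∈ T, ∀ y ∈ T, x ≠ y → y ∉ Ob L Zs x) ∧
      (∀ y ∈ L, y ∉ Zs → ∃ x ∈ T, y ∈ Ob L Zs x) ∧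
      ∑ x ∈ T, (Ob L Zs x).ncard + Nat.card (L ⊓ Zs : Subgroup G) = Nat.card L := by
  have hW : ∀ x ∈ (L : Set G) \ (Zs : Set G), x ∈ L ∧ x ∉ Zs ∧
      Ob L Zs x ⊆ (L : Set G) \ (Zs : Set G) := by
    intro x hx
    refine ⟨hx.1, hx.2, ?_⟩
    intro w hw
    exact ob_subset hZc hw
  obtain ⟨T, hT1, hT2, hT3, hT4⟩ := exists_reps_aux hZc hCA _ _ rfl hW
  refine ⟨T, fun x hx => hT1 x hx, hT2, fun y hyL hyZ => hT3 y ⟨hyL, hyZ⟩, ?_⟩
  rw [hT4]
  have e : (L : Set G) \ (Zs : Set G) = (L : Set G) \ ((L ⊓ Zs : Subgroup G) : Set G) := by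
    ext y
    simp only [Set.mem_sdiff, SetLike.mem_coe, Subgroup.mem_inf]
    tauto
  rw [e]
  have hsub : ((L ⊓ Zs : Subgroup G) : Set G) ⊆ (L : Set G) := by
    intro y hy; exact hy.1
  have := Set.ncard_sdiff_add_ncard_of_subset hsub (Set.toFinite (L : Set G))
  exact this

/-- Cardinality of conjugate subgroups. -/
theorem card_eq_of_conj (A B : Subgroup G) (g : G) (h : ∀ k, k ∈ A ↔ g⁻¹ * k * g ∈ B) :
    Nat.card A = Nat.card B := by
  apply Nat.card_congr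
  refine ⟨fun k => ⟨g⁻¹ * k.1 * g, (h k.1).1 k.2⟩, fun k => ⟨g * k.1 * g⁻¹, (h _).2 (by
    have : g⁻¹ * (g * k.1 * g⁻¹) * g = k.1 := by group
    rw [this]; exact k.2)⟩, ?_, ?_⟩
  · intro k; apply Subtype.ext; simp only; group
  · intro k; apply Subtype.ext; simp only; group

include hZc hCA in
theorem cen_conj {x : G} (hx : x ∉ Zs) {g y : G} (hg : g ∈ L) (hy : y ∈ Yb L Zs x) (k : G) :
    k ∈ Cen L (g * y * g⁻¹) ↔ g⁻¹ * k * g ∈ Cen L x := by
  rw [mem_Cen, mem_Cen]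
  have hkL : k ∈ L ↔ g⁻¹ * k * g ∈ L := by
    constructor
    · intro h; exact L.mul_mem (L.mul_mem (L.inv_mem hg) h) hg
    · intro h
      have : k = g * (g⁻¹ * k * g) * g⁻¹ := by group
      rw [this]; exact L.mul_mem (L.mul_mem hg h) (L.inv_mem hg)
  have hc : (g * y * g⁻¹) * k = k * (g * y * g⁻¹) ↔ x * (g⁻¹ * k * g) = (g⁻¹ * k * g) * x := by
    rw [comm_iff_of_comm hCA hx hy.2.2 hy.2.1]
    constructor
    · intro hh
      calc y * (g⁻¹ * k * g) = g⁻¹ * ((g * y * g⁻¹) * k) * g := by group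
        _ = g⁻¹ * (k * (g * y * g⁻¹)) * g := by rw [hh]
        _ = (g⁻¹ * k * g) * y := by group
    · intro hh
      calc (g * y * g⁻¹) * k = g * (y * (g⁻¹ * k * g)) * g⁻¹ := by group
        _ = g * ((g⁻¹ * k * g) * y) * g⁻¹ := by rw [hh]
        _ = k * (g * y * g⁻¹) := by group
  rw [hkL, hc]

include hZc hCA in
theorem nb_conj_iff {x : G} (hx : x ∉ Zs) {g y : G} (hg : g ∈ L) (hy : y ∈ Yb L Zs x) (k : G) :
    k ∈ Nb L (g * y * g⁻¹) ↔ g⁻¹ * k * g ∈ Nb L x := by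
  have hkL : k ∈ L ↔ g⁻¹ * k * g ∈ L := by
    constructor
    · intro h; exact L.mul_mem (L.mul_mem (L.inv_mem hg) h) hg
    · intro h
      have : k = g * (g⁻¹ * k * g) * g⁻¹ := by group
      rw [this]; exact L.mul_mem (L.mul_mem hg h) (L.inv_mem hg)
  unfold Nb
  rw [Subgroup.mem_inf, Subgroup.mem_inf, Subgroup.mem_normalizer_iff, Subgroup.mem_normalizer_iff,
    ← hkL]
  constructor
  · rintro ⟨hL, hn⟩
    refine ⟨hL, fun m => ?_⟩
    have h1 := hn (g * m * g⁻¹)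
    rw [cen_conj hZc hCA hx hg hy, cen_conj hZc hCA hx hg hy] at h1
    have e1 : g⁻¹ * (g * m * g⁻¹) * g = m := by group
    have e2 : g⁻¹ * (k * (g * m * g⁻¹) * k⁻¹) * g = g⁻¹ * k * g * m * (g⁻¹ * k * g)⁻¹ := by group
    rw [e1, e2] at h1
    exact h1
  · rintro ⟨hL, hn⟩
    refine ⟨hL, fun m => ?_⟩
    have h1 := hn (g⁻¹ * m * g)
    rw [cen_conj hZc hCA hx hg hy, cen_conj hZc hCA hx hg hy]
    have e2 : g⁻¹ * (k * m * k⁻¹) * g = g⁻¹ * k * g * (g⁻¹ * m * g) * (g⁻¹ * k * g)⁻¹ := by group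
    rw [e2]
    exact h1

include hZc hCA in
/-- Centraliser and normaliser orders are constant on a class. -/
theorem card_of_mem_ob {x y : G} (hx : x ∉ Zs) (hy : y ∈ Ob L Zs x) :
    Nat.card (Cen L y) = Nat.card (Cen L x) ∧ Nat.card (Nb L y) = Nat.card (Nb L x) := by
  obtain ⟨g, hg, c, hc, rfl⟩ := hy
  exact ⟨card_eq_of_conj _ _ g (cen_conj hZc hCA hx hg hc),
    card_eq_of_conj _ _ g (nb_conj_iff hZc hCA hx hg hc)⟩

end CA

end Cfsg.Agent.H18.Dk
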