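import Mathlib
import Cfsg.Agent.H29.Dk3

/-!
# Semisimple elements of `SL(2, F)`: eigenvalue homomorphism, centralisers, normalisers (helper18)

Characteristic-free facts used for Dickson's classification of the subgroups of `PSL(2, q)`.
-/

set_option autoImplicit false
set_option linter.unusedSectionVars false
set_option linter.unusedVariables false
set_option linter.deprecated false
set_option linter.unusedSimpArgs false

namespace Cfsg.Agent.H18.Dk

open Matrix Cfsg.Agent.H65.SL2 Cfsg.Agent.H29.Dk

variable {F : Type*} [Field F]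

/-- Two commuting elements with the same trace `t`, `t ^ 2 ≠ 4`, are equal or inverse
(any characteristic). -/
theorem eq_or_eq_inv_of_commute' (u s : Matrix.SpecialLinearGroup (Fin 2) F)
    (hc : u * s = s * u) (ht : tr u = tr s) (hD : tr s ^ 2 ≠ 4) : u = s ∨ u = s⁻¹ := by
  by_cases h2 : (2 : F) = 0
  · have e00 := congrArg (fun M : Matrix.SpecialLinearGroup (Fin 2) F => M.1 0 0) hc
    have e01 := congrArg (fun M : Matrix.SpecialLinearGroup (Fin 2) F => M.1 0 1) hc
    have e10 := congrArg (fun M : Matrix.SpecialLinearGroup (Fin 2) F => M.1 1 0) hc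
    have e11 := congrArg (fun M : Matrix.SpecialLinearGroup (Fin 2) F => M.1 1 1) hc
    simp only [mul00, mul01, mul10, mul11] at e00 e01 e10 e11
    have hdu := det_eq u
    have hds := det_eq s
    unfold tr at ht hD
    have h4 : (4 : F) = 0 := by linear_combination 2 * h2
    rw [h4] at hD
    have hD' : s.1 0 0 + s.1 1 1 ≠ 0 := fun h => hD (by rw [h]; ring)
    have key : (u.1 0 0 = s.1 0 0 ∧ u.1 0 1 = s.1 0 1 ∧ u.1 1 0 = s.1 1 0 ∧ u.1 1 1 = s.1 1 1) ∨
        (u.1 0 0 = s.1 1 1 ∧ u.1 0 1 = - s.1 0 1 ∧ u.1 1 0 = - s.1 1 0 ∧ u.1 1 1 = s.1 0 0) := by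
      generalize u.1 0 0 = u0 at *
      generalize u.1 0 1 = u1 at *
      generalize u.1 1 0 = u2 at *
      generalize u.1 1 1 = u3 at *
      generalize s.1 0 0 = s0 at *
      generalize s.1 0 1 = s1 at *
      generalize s.1 1 0 = s2 at *
      generalize s.1 1 1 = s3 at *
      grind
    rcases key with ⟨h00, h01, h10, h11⟩ | ⟨h00, h01, h10, h11⟩
    · left
      exact ext4 h00 h01 h10 h11
    · right
      apply ext4 <;> simp only [inv00, inv01, inv10, inv11] <;> assumption
  · exact eq_or_eq_inv_of_commute h2 u s hc ht hD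

/-! ### The action on pairs over the algebraic closure -/

/-- The action of `g ∈ SL(2, F)` on pairs over the algebraic closure. -/
noncomputable def act (g : Matrix.SpecialLinearGroup (Fin 2) F)
    (v : AlgebraicClosure F × AlgebraicClosure F) : AlgebraicClosure F × AlgebraicClosure F :=
  (algebraMap F (AlgebraicClosure F) (g.1 0 0) * v.1 + algebraMap F (AlgebraicClosure F) (g.1 0 1) * v.2,
   algebraMap F (AlgebraicClosure F) (g.1 1 0) * v.1 + algebraMap F (AlgebraicClosure F) (g.1 1 1) * v.2)

theorem act_mul (g h : Matrix.SpecialLinearGroup (Fin 2) F)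
    (v : AlgebraicClosure F × AlgebraicClosure F) : act (g * h) v = act g (act h v) := by
  unfold act
  rw [mul00, mul01, mul10, mul11]
  simp only [map_add, map_mul]
  apply Prod.ext <;> simp only <;> ring

theorem act_one (v : AlgebraicClosure F × AlgebraicClosure F) :
    act (1 : Matrix.SpecialLinearGroup (Fin 2) F) v = v := by
  unfold act
  rw [one00, one01, one10, one11]
  simp

theorem act_smul (g : Matrix.SpecialLinearGroup (Fin 2) F) (μ : AlgebraicClosure F)
    (v : AlgebraicClosure F × AlgebraicClosure F) : act g (μ • v) = μ • act g v := by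
  unfold act
  apply Prod.ext <;> simp only [Prod.smul_fst, Prod.smul_snd, smul_eq_mul] <;> ring

/-- The kernel of a nonzero `2 × 2` system is at most a line. -/
theorem ker_line {K : Type*} [Field K] (a b c d : K) (hM : ¬ (a = 0 ∧ b = 0 ∧ c = 0 ∧ d = 0))
    (v w : K × K) (hv : v ≠ 0) (e0 : a * v.1 + b * v.2 = 0) (e1 : c * v.1 + d * v.2 = 0)
    (f0 : a * w.1 + b * w.2 = 0) (f1 : c * w.1 + d * w.2 = 0) :
    ∃ μ : K, w = μ • v := by
  have hδ : w.1 * v.2 - w.2 * v.1 = 0 := by
    by_contra hne
    apply hM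
    refine ⟨?_, ?_, ?_, ?_⟩
    · have : a * (w.1 * v.2 - w.2 * v.1) = 0 := by linear_combination v.2 * f0 - w.2 * e0
      exact (mul_eq_zero.1 this).resolve_right hne
    · have : b * (w.1 * v.2 - w.2 * v.1) = 0 := by linear_combination w.1 * e0 - v.1 * f0
      exact (mul_eq_zero.1 this).resolve_right hne
    · have : c * (w.1 * v.2 - w.2 * v.1) = 0 := by linear_combination v.2 * f1 - w.2 * e1
      exact (mul_eq_zero.1 this).resolve_right hne
    · have : d * (w.1 * v.2 - w.2 * v.1) = 0 := by linear_combination w.1 * e1 - v.1 * f1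
      exact (mul_eq_zero.1 this).resolve_right hne
  by_cases h1 : v.1 = 0
  · have h2 : v.2 ≠ 0 := by
      intro h2
      apply hv
      exact Prod.ext h1 h2
    refine ⟨w.2 / v.2, ?_⟩
    apply Prod.ext
    · simp only [Prod.smul_fst, smul_eq_mul]
      rw [h1, mul_zero]
      rw [h1, mul_zero, sub_zero] at hδ
      exact (mul_eq_zero.1 hδ).resolve_right h2
    · simp only [Prod.smul_snd, smul_eq_mul]
      field_simp
  · refine ⟨w.1 / v.1, ?_⟩
    apply Prod.ext
    · simp only [Prod.smul_fst, smul_eq_mul]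
      field_simp
    · simp only [Prod.smul_snd, smul_eq_mul]
      field_simp
      linear_combination -hδ

open Classical in
/-- The eigenvalue of `c` on the line spanned by `v`. -/
noncomputable def eigv (v : AlgebraicClosure F × AlgebraicClosure F)
    (c : Matrix.SpecialLinearGroup (Fin 2) F) : AlgebraicClosure F :=
  if v.1 ≠ 0 then (act c v).1 / v.1 else (act c v).2 / v.2

theorem eigv_unique {v : AlgebraicClosure F × AlgebraicClosure F} (hv : v ≠ 0)
    {c : Matrix.SpecialLinearGroup (Fin 2) F} {μ : AlgebraicClosure F} (h : act c v = μ • v) :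
    eigv v c = μ := by
  unfold eigv
  by_cases h1 : v.1 = 0
  · have h2 : v.2 ≠ 0 := fun h2 => hv (Prod.ext h1 h2)
    rw [if_neg (not_not.2 h1), h]
    simp only [Prod.smul_snd, smul_eq_mul]
    field_simp
  · rw [if_pos h1, h]
    simp only [Prod.smul_fst, smul_eq_mul]
    field_simp

/-- An eigenvalue of `c` (on a nonzero vector) is a root of the characteristic polynomial. -/
theorem charpoly_of_act {v : AlgebraicClosure F × AlgebraicClosure F} (hv : v ≠ 0)
    {c : Matrix.SpecialLinearGroup (Fin 2) F} {μ : AlgebraicClosure F} (h : act c v = μ • v) :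
    μ ^ 2 - algebraMap F (AlgebraicClosure F) (tr c) * μ + 1 = 0 := by
  have e0 := congrArg Prod.fst h
  have e1 := congrArg Prod.snd h
  simp only [act, Prod.smul_fst, Prod.smul_snd, smul_eq_mul] at e0 e1
  have hd := congrArg (algebraMap F (AlgebraicClosure F)) (det_eq c)
  simp only [map_sub, map_mul, map_one] at hd
  unfold tr
  simp only [map_add]
  by_cases h1 : v.1 = 0
  · have h2 : v.2 ≠ 0 := fun h2 => hv (Prod.ext h1 h2)
    have : (μ ^ 2 - (algebraMap F (AlgebraicClosure F) (c.1 0 0) +
        algebraMap F (AlgebraicClosure F) (c.1 1 1)) * μ + 1) * v.2 = 0 := by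
      rw [h1] at e0 e1
      linear_combination (-(algebraMap F (AlgebraicClosure F) (c.1 1 0))) * e0 +
        (algebraMap F (AlgebraicClosure F) (c.1 0 0) - μ) * e1 - v.2 * hd
    exact (mul_eq_zero.1 this).resolve_right h2
  · have : (μ ^ 2 - (algebraMap F (AlgebraicClosure F) (c.1 0 0) +
        algebraMap F (AlgebraicClosure F) (c.1 1 1)) * μ + 1) * v.1 = 0 := by
      linear_combination (algebraMap F (AlgebraicClosure F) (c.1 1 1) - μ) * e0 -
        (algebraMap F (AlgebraicClosure F) (c.1 0 1)) * e1 - v.1 * hd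
    exact (mul_eq_zero.1 this).resolve_right h1

/-- Every element of `SL(2, F)` has an eigenvector over the algebraic closure. -/
theorem exists_eig (x : Matrix.SpecialLinearGroup (Fin 2) F) :
    ∃ (lam : AlgebraicClosure F) (v : AlgebraicClosure F × AlgebraicClosure F), v ≠ 0 ∧
      act x v = lam • v := by
  obtain ⟨lam, hlam⟩ := IsAlgClosed.exists_root
    (Polynomial.C (1 : AlgebraicClosure F) * Polynomial.X ^ 2 +
      Polynomial.C (-(algebraMap F (AlgebraicClosure F) (tr x))) * Polynomial.X +
      Polynomial.C (1 : AlgebraicClosure F))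
    (by rw [Polynomial.degree_quadratic one_ne_zero]; norm_num)
  simp only [Polynomial.IsRoot, Polynomial.eval_add, Polynomial.eval_mul, Polynomial.eval_C,
    Polynomial.eval_pow, Polynomial.eval_X] at hlam
  have hd := congrArg (algebraMap F (AlgebraicClosure F)) (det_eq x)
  simp only [map_sub, map_mul, map_one] at hd
  unfold tr at hlam
  simp only [map_add] at hlam
  refine ⟨lam, ?_⟩
  by_cases hA : ((algebraMap F (AlgebraicClosure F) (x.1 0 1), lam - algebraMap F (AlgebraicClosure F) (x.1 0 0)) :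
      AlgebraicClosure F × AlgebraicClosure F) ≠ 0
  · refine ⟨_, hA, ?_⟩
    unfold act
    apply Prod.ext
    · simp only [Prod.smul_fst, smul_eq_mul]; ring
    · simp only [Prod.smul_snd, smul_eq_mul]; linear_combination -hlam - hd
  · by_cases hB : ((lam - algebraMap F (AlgebraicClosure F) (x.1 1 1), algebraMap F (AlgebraicClosure F) (x.1 1 0)) :
        AlgebraicClosure F × AlgebraicClosure F) ≠ 0
    · refine ⟨_, hB, ?_⟩
      unfold act
      apply Prod.ext
      · simp only [Prod.smul_fst, smul_eq_mul]; linear_combination -hlam - hd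
      · simp only [Prod.smul_snd, smul_eq_mul]; ring
    · rw [not_not, Prod.mk_eq_zero] at hA hB
      refine ⟨(1, 0), by simp, ?_⟩
      unfold act
      apply Prod.ext
      · simp only [Prod.smul_fst, smul_eq_mul]; linear_combination -hA.2
      · simp only [Prod.smul_snd, smul_eq_mul]; linear_combination hB.2

/-! ### The eigenvalue homomorphism on the centraliser of a semisimple element -/

theorem act_of_comm {x : Matrix.SpecialLinearGroup (Fin 2) F} (htr : tr x ^ 2 ≠ 4)
    {lam : AlgebraicClosure F} {v : AlgebraicClosure F × AlgebraicClosure F} (hv : v ≠ 0)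
    (hx : act x v = lam • v) {c : Matrix.SpecialLinearGroup (Fin 2) F} (hc : x * c = c * x) :
    act c v = eigv v c • v := by
  have hinj := (algebraMap F (AlgebraicClosure F)).injective
  have e0 := congrArg Prod.fst hx
  have e1 := congrArg Prod.snd hx
  have hw : act x (act c v) = lam • act c v := by
    rw [← act_mul, hc, act_mul, hx, act_smul]
  have f0 := congrArg Prod.fst hw
  have f1 := congrArg Prod.snd hw
  simp only [act, Prod.smul_fst, Prod.smul_snd, smul_eq_mul] at e0 e1 f0 f1
  have hM : ¬ (algebraMap F (AlgebraicClosure F) (x.1 0 0) - lam = 0 ∧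
      algebraMap F (AlgebraicClosure F) (x.1 0 1) = 0 ∧
      algebraMap F (AlgebraicClosure F) (x.1 1 0) = 0 ∧
      algebraMap F (AlgebraicClosure F) (x.1 1 1) - lam = 0) := by
    rintro ⟨h00, h01, h10, h11⟩
    apply htr
    have h01' : x.1 0 1 = 0 := by
      apply hinj; rw [h01, map_zero]
    have h10' : x.1 1 0 = 0 := by
      apply hinj; rw [h10, map_zero]
    have heq : x.1 0 0 = x.1 1 1 := by
      apply hinj
      rw [sub_eq_zero] at h00 h11
      rw [h00, h11]
    have hd := det_eq x
    rw [h01', zero_mul, sub_zero, heq] at hd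
    unfold tr
    rw [heq]
    linear_combination 4 * hd
  obtain ⟨μ, hμ⟩ := ker_line _ _ _ _ hM v (act c v) hv
    (by linear_combination e0) (by linear_combination e1)
    (by simp only [act]; linear_combination f0) (by simp only [act]; linear_combination f1)
  rw [eigv_unique hv hμ, hμ]

/-- The eigenvalue homomorphism. -/
noncomputable def eigHom {x : Matrix.SpecialLinearGroup (Fin 2) F} (htr : tr x ^ 2 ≠ 4)
    {lam : AlgebraicClosure F} {v : AlgebraicClosure F × AlgebraicClosure F} (hv : v ≠ 0)
    (hx : act x v = lam • v) :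
    ↥(Subgroup.centralizer ({x} : Set (Matrix.SpecialLinearGroup (Fin 2) F))) →* AlgebraicClosure F where
  toFun c := eigv v c.1
  map_one' := eigv_unique hv (by rw [Subgroup.coe_one, act_one, one_smul])
  map_mul' c c' := by
    apply eigv_unique hv
    have hc := Subgroup.mem_centralizer_iff.1 c.2 x (Set.mem_singleton x)
    have hc' := Subgroup.mem_centralizer_iff.1 c'.2 x (Set.mem_singleton x)
    rw [Subgroup.coe_mul, act_mul, act_of_comm htr hv hx hc', act_smul, act_of_comm htr hv hx hc,
      smul_smul, mul_comm]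

theorem eig_one {x : Matrix.SpecialLinearGroup (Fin 2) F} (htr : tr x ^ 2 ≠ 4)
    {lam : AlgebraicClosure F} {v : AlgebraicClosure F × AlgebraicClosure F} (hv : v ≠ 0)
    (hx : act x v = lam • v) {c : Matrix.SpecialLinearGroup (Fin 2) F} (hc : x * c = c * x)
    (h1 : eigv v c = 1) : c = 1 := by
  have hinj := (algebraMap F (AlgebraicClosure F)).injective
  have h := act_of_comm htr hv hx hc
  rw [h1] at h
  have hp := charpoly_of_act hv h
  have htc : tr c = 2 := by
    apply hinj
    rw [map_ofNat]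
    linear_combination -hp
  by_contra hc1
  exact htr (tr_sq_of_commute_unipotent c x htc hc1 hc.symm)

theorem eigHom_injective {x : Matrix.SpecialLinearGroup (Fin 2) F} (htr : tr x ^ 2 ≠ 4)
    {lam : AlgebraicClosure F} {v : AlgebraicClosure F × AlgebraicClosure F} (hv : v ≠ 0)
    (hx : act x v = lam • v) : Function.Injective (eigHom htr hv hx) := by
  intro c c' h
  have h1 : eigHom htr hv hx (c⁻¹ * c') = 1 := by
    rw [map_mul, ← h, ← map_mul, inv_mul_cancel, map_one]
  have hcc := Subgroup.mem_centralizer_iff.1 (c⁻¹ * c').2 x (Set.mem_singleton x)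
  have := eig_one htr hv hx hcc h1
  have h2 : c⁻¹ * c' = 1 := Subtype.ext this
  exact (inv_mul_eq_one.1 h2)

/-- The centraliser of a semisimple element of `SL(2, F)` is cyclic. -/
theorem cen_isCyclic [Finite F] {x : Matrix.SpecialLinearGroup (Fin 2) F} (htr : tr x ^ 2 ≠ 4) :
    IsCyclic ↥(Subgroup.centralizer ({x} : Set (Matrix.SpecialLinearGroup (Fin 2) F))) := by
  obtain ⟨lam, v, hv, hx⟩ := exists_eig x
  exact isCyclic_of_subgroup_isDomain (eigHom htr hv hx) (eigHom_injective htr hv hx)

/-- The order of the centraliser of a semisimple element divides `q - 1` or `q + 1`. -/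
theorem cen_card_dvd [Fintype F] {x : Matrix.SpecialLinearGroup (Fin 2) F} (htr : tr x ^ 2 ≠ 4) :
    Nat.card ↥(Subgroup.centralizer ({x} : Set (Matrix.SpecialLinearGroup (Fin 2) F))) ∣ Fintype.card F - 1 ∨
    Nat.card ↥(Subgroup.centralizer ({x} : Set (Matrix.SpecialLinearGroup (Fin 2) F))) ∣ Fintype.card F + 1 := by
  obtain ⟨lam, v, hv, hx⟩ := exists_eig x
  have := cen_isCyclic htr
  obtain ⟨c₀, hc₀⟩ := IsCyclic.exists_generator
    (α := ↥(Subgroup.centralizer ({x} : Set (Matrix.SpecialLinearGroup (Fin 2) F))))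
  have hord : orderOf c₀ = Nat.card ↥(Subgroup.centralizer ({x} : Set (Matrix.SpecialLinearGroup (Fin 2) F))) :=
    orderOf_eq_card_of_forall_mem_zpowers hc₀
  have hcc := Subgroup.mem_centralizer_iff.1 c₀.2 x (Set.mem_singleton x)
  have hact := act_of_comm htr hv hx hcc
  set μ := eigv v c₀.1 with hμdef
  have hμ := charpoly_of_act hv hact
  set p := ringChar F with hp
  have : CharP F p := ringChar.charP F
  have : Fact p.Prime := ⟨CharP.char_is_prime F p⟩
  have : CharP (AlgebraicClosure F) p :=
    charP_of_injective_algebraMap (algebraMap F (AlgebraicClosure F)).injective p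
  obtain ⟨n, hn⟩ := FiniteField.card F p
  have hν : (μ ^ Fintype.card F) ^ 2 - algebraMap F (AlgebraicClosure F) (tr c₀.1) * μ ^ Fintype.card F + 1 = 0 := by
    have h : (μ ^ 2 - algebraMap F (AlgebraicClosure F) (tr c₀.1) * μ + 1) ^ Fintype.card F = 0 := by
      rw [hμ, zero_pow Fintype.card_ne_zero]
    have ht : algebraMap F (AlgebraicClosure F) (tr c₀.1) ^ Fintype.card F
        = algebraMap F (AlgebraicClosure F) (tr c₀.1) := by
      rw [← map_pow, FiniteField.pow_card]
    rw [← h]
    conv_rhs => rw [hn.2, add_pow_char_pow, sub_pow_char_pow, mul_pow, one_pow, ← hn.2, ht]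
    ring
  have hμ0 : μ ≠ 0 := by
    intro h0
    rw [h0] at hμ
    simp at hμ
  have hfac : (μ ^ Fintype.card F - μ) *
      (μ ^ Fintype.card F + μ - algebraMap F (AlgebraicClosure F) (tr c₀.1)) = 0 := by
    linear_combination hν - hμ
  have hq : Fintype.card F = (Fintype.card F - 1) + 1 := by
    have := Fintype.card_pos (α := F)
    omega
  have hpow : ∀ k : ℕ, μ ^ k = 1 → orderOf c₀ ∣ k := by
    intro k hk
    apply orderOf_dvd_of_pow_eq_one
    apply eigHom_injective htr hv hx
    rw [map_pow, map_one]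
    exact hk
  rcases mul_eq_zero.1 hfac with h | h
  · left
    rw [← hord]
    apply hpow
    have h' : (μ ^ (Fintype.card F - 1) - 1) * μ = 0 := by
      have e : μ ^ Fintype.card F = μ ^ (Fintype.card F - 1) * μ := by
        conv_lhs => rw [hq]
        rw [pow_succ]
      linear_combination h - e
    have := (mul_eq_zero.1 h').resolve_right hμ0
    exact sub_eq_zero.1 this
  · right
    rw [← hord]
    apply hpow
    rw [pow_succ]
    linear_combination μ * h - hμ

/-! ### The centre -/

theorem neg_one_mem_Ze : (-1 : Matrix.SpecialLinearGroup (Fin 2) F) ∈ (Ze : Subgroup _) := by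
  rw [mem_Ze]
  simp

theorem Ze_mul_self {ζ : Matrix.SpecialLinearGroup (Fin 2) F} (hζ : ζ ∈ (Ze : Subgroup _)) :
    ζ * ζ = 1 := by
  rw [mem_Ze] at hζ
  obtain ⟨h10, h01, h00⟩ := hζ
  have hd := det_eq ζ
  rw [h01, zero_mul, sub_zero, ← h00] at hd
  apply ext4 <;> simp only [mul00, mul01, mul10, mul11, one00, one01, one10, one11, h10, h01, ← h00]
  · linear_combination hd
  · ring
  · ring
  · linear_combination hd

theorem Ze_eq_center :
    (Ze : Subgroup (Matrix.SpecialLinearGroup (Fin 2) F)) =
      Subgroup.center (Matrix.SpecialLinearGroup (Fin 2) F) := by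
  ext g
  constructor
  · intro hg
    rw [Subgroup.mem_center_iff]
    intro h
    exact (Ze_comm hg h).symm
  · intro hg
    rw [Subgroup.mem_center_iff] at hg
    have h1 := hg (uT 1)
    have h2 := hg (lT 1)
    have e01 := congrArg (fun M : Matrix.SpecialLinearGroup (Fin 2) F => M.1 0 1) h1
    have e00 := congrArg (fun M : Matrix.SpecialLinearGroup (Fin 2) F => M.1 0 0) h1
    have f10 := congrArg (fun M : Matrix.SpecialLinearGroup (Fin 2) F => M.1 1 0) h2
    have f00 := congrArg (fun M : Matrix.SpecialLinearGroup (Fin 2) F => M.1 0 0) h2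
    simp only [mul00, mul01, mul10, mul11] at e00 e01 f10 f00
    simp at e00 e01 f10 f00
    rw [mem_Ze]
    refine ⟨?_, ?_, ?_⟩
    · exact e00
    · exact f00
    · linear_combination -e01

/-- A noncentral element commuting with a semisimple element is semisimple. -/
theorem tr_sq_ne_of_comm {x c : Matrix.SpecialLinearGroup (Fin 2) F} (htr : tr x ^ 2 ≠ 4)
    (hc : x * c = c * x) (hcZ : c ∉ (Ze : Subgroup _)) : tr c ^ 2 ≠ 4 := by
  intro h
  have h2 : (tr c - 2) * (tr c + 2) = 0 := by linear_combination h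
  rcases mul_eq_zero.1 h2 with h | h
  · have htc : tr c = 2 := by linear_combination h
    have hc1 : c ≠ 1 := by
      rintro rfl
      exact hcZ (Subgroup.one_mem _)
    exact htr (tr_sq_of_commute_unipotent c x htc hc1 hc.symm)
  · have htc : tr (-c) = 2 := by
      unfold tr at h ⊢
      rw [neg00, neg11]
      linear_combination -h
    have hc1 : -c ≠ 1 := by
      intro h1
      apply hcZ
      have : c = -1 := by rw [← h1, neg_neg]
      rw [this]
      exact neg_one_mem_Ze
    have hcomm : -c * x = x * -c := by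
      rw [neg_mul, mul_neg, hc]
    exact htr (tr_sq_of_commute_unipotent (-c) x htc hc1 hcomm)

/-! ### Normalisers of centralisers of semisimple elements in a subgroup -/

section Norm

variable [Finite F] (L : Subgroup (Matrix.SpecialLinearGroup (Fin 2) F))

theorem not_mem_Ze_of_tr {x : Matrix.SpecialLinearGroup (Fin 2) F} (htr : tr x ^ 2 ≠ 4) :
    x ∉ (Ze : Subgroup _) := fun h => htr (tr_sq_of_mem_UZ (Ze_le_UZ h))

theorem cen_le_nb (x : Matrix.SpecialLinearGroup (Fin 2) F) : Cen L x ≤ Nb L x := by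
  intro g hg
  exact Subgroup.mem_inf.2 ⟨(mem_Cen.1 hg).1, Subgroup.le_normalizer hg⟩

theorem nb_conj {x g : Matrix.SpecialLinearGroup (Fin 2) F} (hx : x ∈ L) (htr : tr x ^ 2 ≠ 4)
    (hg : g ∈ Nb L x) : g * x * g⁻¹ = x ∨ g * x * g⁻¹ = x⁻¹ := by
  have hbn : g ∈ Subgroup.normalizer (Cen L x : Set (Matrix.SpecialLinearGroup (Fin 2) F)) := hg.2
  rw [Subgroup.mem_normalizer_iff] at hbn
  have hxC : x ∈ Cen L x := mem_Cen.2 ⟨hx, rfl⟩
  have := (hbn x).1 hxC
  rw [mem_Cen] at this
  exact eq_or_eq_inv_of_commute' (g * x * g⁻¹) x this.2.symm (tr_conj g x) htr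

theorem cen_of_conj {x g : Matrix.SpecialLinearGroup (Fin 2) F} (hg : g ∈ Nb L x)
    (h : g * x * g⁻¹ = x) : g ∈ Cen L x := by
  rw [mem_Cen]
  refine ⟨hg.1, ?_⟩
  calc x * g = (g * x * g⁻¹) * g := by rw [h]
    _ = g * x := by group

theorem nb_inv {x g : Matrix.SpecialLinearGroup (Fin 2) F} (hx : x ∈ L) (htr : tr x ^ 2 ≠ 4)
    (hg : g ∈ Nb L x) (hgC : g ∉ Cen L x) : g * x * g⁻¹ = x⁻¹ := by
  rcases nb_conj L hx htr hg with h | h
  · exact absurd (cen_of_conj L hg h) hgC
  · exact h

theorem nb_card' {x : Matrix.SpecialLinearGroup (Fin 2) F} (hx : x ∈ L)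
    (htr : tr x ^ 2 ≠ 4) :
    Nat.card (Nb L x) = Nat.card (Cen L x) ∨ Nat.card (Nb L x) = 2 * Nat.card (Cen L x) := by
  have hle : Cen L x ≤ Nb L x := cen_le_nb L x
  by_cases hsub : Nb L x ≤ Cen L x
  · left; rw [le_antisymm hsub hle]
  · right
    obtain ⟨a, ha, haC⟩ := SetLike.not_le_iff_exists.1 hsub
    have hainv : a * x * a⁻¹ = x⁻¹ := nb_inv L hx htr ha haC
    have hcov : (Nb L x : Set (Matrix.SpecialLinearGroup (Fin 2) F)) ⊆
        (Cen L x : Set _) ∪ (fun c => a * c) '' (Cen L x : Set _) := by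
      intro b hb
      rcases nb_conj L hx htr hb with h | h
      · left; exact cen_of_conj L hb h
      · right
        refine ⟨a⁻¹ * b, ?_, by group⟩
        show a⁻¹ * b ∈ Cen L x
        rw [mem_Cen]
        refine ⟨L.mul_mem (L.inv_mem ha.1) hb.1, ?_⟩
        have e1 : a⁻¹ * x⁻¹ * a = x := by
          rw [← hainv]; group
        calc x * (a⁻¹ * b) = (a⁻¹ * x⁻¹ * a) * (a⁻¹ * b) := by rw [e1]
          _ = a⁻¹ * x⁻¹ * b := by group
          _ = a⁻¹ * (b * x * b⁻¹) * b := by rw [h]
          _ = (a⁻¹ * b) * x := by group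
    have hcard : Nat.card (Nb L x) ≤ 2 * Nat.card (Cen L x) := by
      have h1 := Set.ncard_le_ncard hcov (Set.toFinite _)
      have h2 := Set.ncard_union_le (Cen L x : Set (Matrix.SpecialLinearGroup (Fin 2) F))
        ((fun c => a * c) '' (Cen L x : Set _))
      have h3 := Set.ncard_image_le (f := fun c => a * c)
        (s := (Cen L x : Set (Matrix.SpecialLinearGroup (Fin 2) F))) (Set.toFinite _)
      have e1 : (Nb L x : Set (Matrix.SpecialLinearGroup (Fin 2) F)).ncard = Nat.card (Nb L x) := rfl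
      have e2 : (Cen L x : Set (Matrix.SpecialLinearGroup (Fin 2) F)).ncard = Nat.card (Cen L x) := rfl
      omega
    have hdvd := Subgroup.card_dvd_of_le hle
    have hne : Nat.card (Nb L x) ≠ Nat.card (Cen L x) := by
      intro h
      apply hsub
      rw [Subgroup.eq_of_le_of_card_ge hle h.le]
    obtain ⟨k, hk⟩ := hdvd
    have hpos : 0 < Nat.card (Cen L x) := Nat.card_pos
    have hk2 : k = 2 := by
      rcases Nat.lt_or_ge k 3 with h | h
      · interval_cases k
        · have hpos' : 0 < Nat.card (Nb L x) := Nat.card_pos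
          rw [hk] at hpos'
          simp at hpos'
        · exfalso
          apply hne
          rw [hk]; simp
        · rfl
      · nlinarith
    rw [hk, hk2]; ring

theorem nb_inv_all {x g c : Matrix.SpecialLinearGroup (Fin 2) F} (hx : x ∈ L)
    (htr : tr x ^ 2 ≠ 4) (hg : g ∈ Nb L x) (hgC : g ∉ Cen L x) (hc : c ∈ Cen L x) :
    g * c * g⁻¹ = c⁻¹ := by
  have hxZ := not_mem_Ze_of_tr htr
  have hcx : x * c = c * x := (mem_Cen.1 hc).2
  by_cases hcZ : c ∈ (Ze : Subgroup _)
  · have h1 : g * c * g⁻¹ = c := by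
      rw [← Ze_comm hcZ g]; group
    have h2 : c⁻¹ = c := inv_eq_of_mul_eq_one_left (Ze_mul_self hcZ)
    rw [h1, h2]
  · have htrc := tr_sq_ne_of_comm htr hcx hcZ
    have hbn : g ∈ Subgroup.normalizer (Cen L x : Set (Matrix.SpecialLinearGroup (Fin 2) F)) := hg.2
    rw [Subgroup.mem_normalizer_iff] at hbn
    have hgc := (mem_Cen.1 ((hbn c).1 hc)).2
    have hcomm : (g * c * g⁻¹) * c = c * (g * c * g⁻¹) := comm_trans hxZ hgc hcx
    rcases eq_or_eq_inv_of_commute' (g * c * g⁻¹) c hcomm (tr_conj g c) htrc with h | h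
    · exfalso
      apply hgC
      rw [mem_Cen]
      refine ⟨hg.1, ?_⟩
      have hcg : c * g = g * c := by
        calc c * g = (g * c * g⁻¹) * g := by rw [h]
          _ = g * c := by group
      exact (comm_trans hcZ hcg hcx.symm).symm
    · exact h

theorem nb_sq {x g : Matrix.SpecialLinearGroup (Fin 2) F} (hx : x ∈ L)
    (htr : tr x ^ 2 ≠ 4) (hg : g ∈ Nb L x) (hgC : g ∉ Cen L x) : g * g ∈ (Ze : Subgroup _) := by
  have hinv := nb_inv L hx htr hg hgC
  have hgx : g * x = x⁻¹ * g := by
    calc g * x = (g * x * g⁻¹) * g := by group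
      _ = x⁻¹ * g := by rw [hinv]
  have hgx' : g * x⁻¹ = x * g := by
    have : g * x⁻¹ * g⁻¹ = x := by
      have : g * x⁻¹ * g⁻¹ = (g * x * g⁻¹)⁻¹ := by group
      rw [this, hinv, inv_inv]
    calc g * x⁻¹ = (g * x⁻¹ * g⁻¹) * g := by group
      _ = x * g := by rw [this]
  have hcomm : x * (g * g) = (g * g) * x := by
    calc x * (g * g) = (x * g) * g := by group
      _ = (g * x⁻¹) * g := by rw [hgx']
      _ = g * (x⁻¹ * g) := by group
      _ = g * (g * x) := by rw [hgx]
      _ = (g * g) * x := by group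
  have hggC : g * g ∈ Cen L x := mem_Cen.2 ⟨L.mul_mem hg.1 hg.1, hcomm⟩
  have h1 := nb_inv_all L hx htr hg hgC hggC
  have h2 : g * (g * g) * g⁻¹ = g * g := by group
  rw [h2] at h1
  have h3 : (g * g) * (g * g) = 1 := by
    nth_rewrite 1 [h1]
    exact inv_mul_cancel _
  by_contra hZ
  have htr2 := tr_sq_ne_of_comm htr hcomm hZ
  apply htr2
  have h4 := tr_mul_self (g * g)
  rw [h3] at h4
  have h5 : tr (1 : Matrix.SpecialLinearGroup (Fin 2) F) = 2 := by
    unfold tr
    rw [one00, one11]; norm_num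
  rw [h5] at h4
  linear_combination -h4

theorem nb_mul_mem {x g g' : Matrix.SpecialLinearGroup (Fin 2) F} (hx : x ∈ L)
    (htr : tr x ^ 2 ≠ 4) (hg : g ∈ Nb L x) (hgC : g ∉ Cen L x) (hg' : g' ∈ Nb L x)
    (hgC' : g' ∉ Cen L x) : g * g' ∈ Cen L x := by
  have h1 := nb_inv L hx htr hg hgC
  have h2 := nb_inv L hx htr hg' hgC'
  rw [mem_Cen]
  refine ⟨L.mul_mem hg.1 hg'.1, ?_⟩
  have h3 : (g * g') * x * (g * g')⁻¹ = x := by
    calc (g * g') * x * (g * g')⁻¹ = g * (g' * x * g'⁻¹) * g⁻¹ := by group
      _ = g * x⁻¹ * g⁻¹ := by rw [h2]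
      _ = (g * x * g⁻¹)⁻¹ := by group
      _ = x := by rw [h1, inv_inv]
  calc x * (g * g') = ((g * g') * x * (g * g')⁻¹) * (g * g') := by rw [h3]
    _ = (g * g') * x := by group

end Norm

end Cfsg.Agent.H18.Dk
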