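import Mathlib
import Cfsg.Agent.H18.DkCls

/-!
# Recognition of `A₄`, `S₄`, `A₅` modulo a central subgroup (helper18)
-/

set_option autoImplicit false
set_option linter.unusedSectionVars false
set_option linter.unusedVariables false

namespace Cfsg.Agent.H18.Dk

open Cfsg.Agent.H29.Dk

/-! ### Abstract permutation representations -/

theorem perm_embed {X : Type*} [Group X] [Finite X] (N Z : Subgroup X) [Z.Normal]
    (hcore : N.normalCore = Z) (m : ℕ) (hm : N.index = m) :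
    ∃ f : X ⧸ Z →* Equiv.Perm (Fin m), Function.Injective f := by
  classical
  have hker : Z = (MulAction.toPermHom X (X ⧸ N)).ker := by
    rw [← hcore, Subgroup.normalCore_eq_ker]
  have e : (X ⧸ N) ≃ Fin m := Finite.equivFinOfCardEq hm
  refine ⟨(e.permCongrHom.toMonoidHom.comp
    (QuotientGroup.kerLift (MulAction.toPermHom X (X ⧸ N)))).comp
    (QuotientGroup.quotientMulEquivOfEq hker).toMonoidHom, ?_⟩
  rw [MonoidHom.coe_comp, MonoidHom.coe_comp]
  exact (e.permCongrHom.injective.comp (QuotientGroup.kerLift_injective _)).comp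
    (QuotientGroup.quotientMulEquivOfEq hker).injective

theorem rec_sym {X : Type*} [Group X] [Finite X] (N Z : Subgroup X) [Z.Normal]
    (hcore : N.normalCore = Z) (m : ℕ) (hm : N.index = m)
    (hcard : Nat.card (X ⧸ Z) = m.factorial) : Nonempty (X ⧸ Z ≃* Equiv.Perm (Fin m)) := by
  obtain ⟨f, hf⟩ := perm_embed N Z hcore m hm
  have hP : Nat.card (Equiv.Perm (Fin m)) = m.factorial := by
    rw [Nat.card_eq_fintype_card, Fintype.card_perm, Fintype.card_fin]
  have hb : Function.Bijective f := hf.bijective_of_nat_card_le (by rw [hP, hcard])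
  exact ⟨MulEquiv.ofBijective f hb⟩

theorem rec_alt {X : Type*} [Group X] [Finite X] (N Z : Subgroup X) [Z.Normal]
    (hcore : N.normalCore = Z) (m : ℕ) (hm : N.index = m)
    (hcard : 2 * Nat.card (X ⧸ Z) = m.factorial) :
    Nonempty (X ⧸ Z ≃* alternatingGroup (Fin m)) := by
  obtain ⟨f, hf⟩ := perm_embed N Z hcore m hm
  have hP : Nat.card (Equiv.Perm (Fin m)) = m.factorial := by
    rw [Nat.card_eq_fintype_card, Fintype.card_perm, Fintype.card_fin]
  have e1 : X ⧸ Z ≃* f.range := MonoidHom.ofInjective hf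
  have hc : Nat.card f.range = Nat.card (X ⧸ Z) := (Nat.card_congr e1.toEquiv).symm
  have hidx : f.range.index = 2 := by
    have h1 := Subgroup.index_mul_card f.range
    rw [hP, hc, ← hcard] at h1
    have hpos : 0 < Nat.card (X ⧸ Z) := Nat.card_pos
    nlinarith
  have h2 := Equiv.Perm.eq_alternatingGroup_of_index_eq_two hidx
  exact ⟨e1.trans (MulEquiv.subgroupCongr h2)⟩

/-! ### The relative version inside an ambient group -/

section Rel

variable {G : Type*} [Group G] [Finite G]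

theorem normalCore_subgroupOf (L N Zs : Subgroup G) (hZc : ∀ ζ ∈ Zs, ∀ g : G, ζ * g = g * ζ)
    (hZN : Zs ≤ N) (hNL : N ≤ L)
    (hcore : ∀ k ∈ N, (∀ g ∈ L, g * k * g⁻¹ ∈ N) → k ∈ Zs) :
    (N.subgroupOf L).normalCore = Zs.subgroupOf L := by
  ext k
  constructor
  · intro hk
    rw [Subgroup.mem_subgroupOf]
    apply hcore
    · have := hk 1
      simpa [Subgroup.mem_subgroupOf] using this
    · intro g hg
      have := hk ⟨g, hg⟩
      simpa [Subgroup.mem_subgroupOf] using this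
  · intro hk b
    rw [Subgroup.mem_subgroupOf] at hk ⊢
    have e : ((b * k * b⁻¹ : ↥L) : G) = (k : G) := by
      simp only [Subgroup.coe_mul, Subgroup.coe_inv]
      rw [← hZc _ hk b.1]; group
    rw [e]
    exact hZN hk

theorem card_quot_subgroupOf (L Zs : Subgroup G) [Zs.Normal] (hZL : Zs ≤ L) :
    Nat.card (↥L ⧸ Zs.subgroupOf L) * Nat.card Zs = Nat.card L := by
  have h1 := Subgroup.card_eq_card_quotient_mul_card_subgroup (Zs.subgroupOf L)
  have h2 : Nat.card (Zs.subgroupOf L) = Nat.card Zs :=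
    Nat.card_congr (Subgroup.subgroupOfEquivOfLe hZL).toEquiv
  rw [h2] at h1
  exact h1.symm

theorem index_subgroupOf (L N : Subgroup G) (hNL : N ≤ L) (m : ℕ)
    (hidx : Nat.card L = m * Nat.card N) : (N.subgroupOf L).index = m := by
  have h1 := Subgroup.index_mul_card (N.subgroupOf L)
  have h2 : Nat.card (N.subgroupOf L) = Nat.card N :=
    Nat.card_congr (Subgroup.subgroupOfEquivOfLe hNL).toEquiv
  rw [h2, hidx] at h1
  have hpos : 0 < Nat.card N := Nat.card_pos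
  exact Nat.eq_of_mul_eq_mul_right hpos h1

theorem rec_sym_L (L N Zs : Subgroup G) [Zs.Normal] (hZc : ∀ ζ ∈ Zs, ∀ g : G, ζ * g = g * ζ)
    (hZN : Zs ≤ N) (hNL : N ≤ L)
    (hcore : ∀ k ∈ N, (∀ g ∈ L, g * k * g⁻¹ ∈ N) → k ∈ Zs) (m : ℕ)
    (hidx : Nat.card L = m * Nat.card N) (hcard : Nat.card L = m.factorial * Nat.card Zs) :
    Nonempty (↥L ⧸ Zs.subgroupOf L ≃* Equiv.Perm (Fin m)) := by
  apply rec_sym (N.subgroupOf L) (Zs.subgroupOf L) (normalCore_subgroupOf L N Zs hZc hZN hNL hcore)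
    m (index_subgroupOf L N hNL m hidx)
  have h1 := card_quot_subgroupOf L Zs (hZN.trans hNL)
  rw [hcard] at h1
  have hpos : 0 < Nat.card Zs := Nat.card_pos
  exact Nat.eq_of_mul_eq_mul_right hpos h1

theorem rec_alt_L (L N Zs : Subgroup G) [Zs.Normal] (hZc : ∀ ζ ∈ Zs, ∀ g : G, ζ * g = g * ζ)
    (hZN : Zs ≤ N) (hNL : N ≤ L)
    (hcore : ∀ k ∈ N, (∀ g ∈ L, g * k * g⁻¹ ∈ N) → k ∈ Zs) (m : ℕ)
    (hidx : Nat.card L = m * Nat.card N) (hcard : 2 * Nat.card L = m.factorial * Nat.card Zs) :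
    Nonempty (↥L ⧸ Zs.subgroupOf L ≃* alternatingGroup (Fin m)) := by
  apply rec_alt (N.subgroupOf L) (Zs.subgroupOf L) (normalCore_subgroupOf L N Zs hZc hZN hNL hcore)
    m (index_subgroupOf L N hNL m hidx)
  have h1 := card_quot_subgroupOf L Zs (hZN.trans hNL)
  have hpos : 0 < Nat.card Zs := Nat.card_pos
  have : 2 * Nat.card (↥L ⧸ Zs.subgroupOf L) * Nat.card Zs = m.factorial * Nat.card Zs := by
    rw [← hcard, ← h1]; ring
  exact Nat.eq_of_mul_eq_mul_right hpos this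

/-- The largest subset of `N` stable under conjugation by `L`, as a subgroup. -/
def coreIn (L N : Subgroup G) : Subgroup G where
  carrier := {k | k ∈ L ∧ ∀ g ∈ L, g * k * g⁻¹ ∈ N}
  mul_mem' := by
    rintro a b ⟨haL, ha⟩ ⟨hbL, hb⟩
    refine ⟨L.mul_mem haL hbL, fun g hg => ?_⟩
    have : g * (a * b) * g⁻¹ = (g * a * g⁻¹) * (g * b * g⁻¹) := by group
    rw [this]
    exact N.mul_mem (ha g hg) (hb g hg)
  one_mem' := ⟨L.one_mem, fun g hg => by simp⟩
  inv_mem' := by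
    rintro a ⟨haL, ha⟩
    refine ⟨L.inv_mem haL, fun g hg => ?_⟩
    have : g * a⁻¹ * g⁻¹ = (g * a * g⁻¹)⁻¹ := by group
    rw [this]
    exact N.inv_mem (ha g hg)

theorem mem_coreIn {L N : Subgroup G} {k : G} :
    k ∈ coreIn L N ↔ k ∈ L ∧ ∀ g ∈ L, g * k * g⁻¹ ∈ N := Iff.rfl

theorem coreIn_le (L N : Subgroup G) : coreIn L N ≤ N := by
  intro k hk
  have := hk.2 1 L.one_mem
  simpa using this

theorem coreIn_conj {L N : Subgroup G} {k g : G} (hk : k ∈ coreIn L N) (hg : g ∈ L) :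
    g * k * g⁻¹ ∈ coreIn L N := by
  refine ⟨L.mul_mem (L.mul_mem hg hk.1) (L.inv_mem hg), fun g' hg' => ?_⟩
  have : g' * (g * k * g⁻¹) * g'⁻¹ = (g' * g) * k * (g' * g)⁻¹ := by group
  rw [this]
  exact hk.2 _ (L.mul_mem hg' hg)

variable {L Zs : Subgroup G}
variable (hZc : ∀ ζ ∈ Zs, ∀ g : G, ζ * g = g * ζ)
  (hCA : ∀ x y w : G, x ∉ Zs → x * y = y * x → x * w = w * x → y * w = w * y)

include hZc hCA in
/-- If the core of `N` meets the centraliser of `x` outside the centre, and the centraliser has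
prime index over the centre, the whole class of `x` lies in `N`. -/
theorem core_absorb (N : Subgroup G) (hZN : Zs ≤ N) (hNL : N ≤ L) {k x : G}
    (hk : k ∈ coreIn L N) (hkZ : k ∉ Zs) (hkx : k ∈ Cen L x) (hx : x ∉ Zs) (r : ℕ) (hr : r.Prime)
    (hcen : Nat.card (Cen L x) = Nat.card Zs * r) :
    (Ob L Zs x).ncard + Nat.card Zs ≤ Nat.card N := by
  have hZL : Zs ≤ L := hZN.trans hNL
  have hZcore : Zs ≤ coreIn L N := by
    intro ζ hζ
    refine ⟨hZL hζ, fun g hg => ?_⟩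
    have : g * ζ * g⁻¹ = ζ := by rw [← hZc ζ hζ g]; group
    rw [this]; exact hZN hζ
  have hZcen : Zs ≤ Cen L x := by
    intro ζ hζ
    exact mem_Cen.2 ⟨hZL hζ, (hZc ζ hζ x).symm⟩
  have hZD : Zs ≤ coreIn L N ⊓ Cen L x := le_inf hZcore hZcen
  have hD1 := Subgroup.card_dvd_of_le hZD
  have hD2 := Subgroup.card_dvd_of_le (inf_le_right : coreIn L N ⊓ Cen L x ≤ Cen L x)
  obtain ⟨d, hd⟩ := hD1
  rw [hcen, hd] at hD2
  have hzpos : 0 < Nat.card Zs := Nat.card_pos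
  have hdr : d ∣ r := (Nat.mul_dvd_mul_iff_left hzpos).1 hD2
  have hcenle : Cen L x ≤ coreIn L N := by
    rcases (Nat.dvd_prime hr).1 hdr with h1 | h1
    · exfalso
      rw [h1, mul_one] at hd
      have := Subgroup.eq_of_le_of_card_ge hZD hd.le
      apply hkZ
      rw [this]
      exact ⟨hk, hkx⟩
    · rw [h1, ← hcen] at hd
      have := Subgroup.eq_of_le_of_card_ge (inf_le_right : coreIn L N ⊓ Cen L x ≤ Cen L x) hd.ge
      rw [← this]
      exact inf_le_left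
  have hsub : Ob L Zs x ⊆ ((coreIn L N : Subgroup G) : Set G) \ (Zs : Set G) := by
    intro w hw
    refine ⟨?_, (ob_subset hZc hw).2⟩
    obtain ⟨g, hg, y, hy, rfl⟩ := hw
    exact coreIn_conj (hcenle (mem_Cen.2 ⟨hy.1, hy.2.1⟩)) hg
  have h1 := Set.ncard_le_ncard hsub (Set.toFinite _)
  have h2 := Set.ncard_sdiff_add_ncard_of_subset (show (Zs : Set G) ⊆ (coreIn L N : Set G) from hZcore)
    (Set.toFinite _)
  have h3 := Subgroup.card_le_of_le (coreIn_le L N)
  have e1 : ((coreIn L N : Subgroup G) : Set G).ncard = Nat.card (coreIn L N) := rfl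
  have e2 : (Zs : Set G).ncard = Nat.card Zs := rfl
  omega

include hZc in
theorem yb_stable {x g y : G} (hg : g ∈ Nb L x) (hy : y ∈ Yb L Zs x) :
    g * y * g⁻¹ ∈ Yb L Zs x := by
  rw [mem_Yb] at hy ⊢
  have hgn : g ∈ Subgroup.normalizer (Cen L x : Set G) := hg.2
  rw [Subgroup.mem_normalizer_iff] at hgn
  have hyC : y ∈ Cen L x := mem_Cen.2 ⟨hy.1, hy.2.1⟩
  have := (hgn y).1 hyC
  rw [mem_Cen] at this
  refine ⟨this.1, this.2, ?_⟩
  rw [conj_mem_Zs_iff hZc]
  exact hy.2.2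

include hZc hCA in
theorem nb_of_yb {x g y : G} (hx : x ∉ Zs) (hg : g ∈ L) (hy : y ∈ Yb L Zs x)
    (hy' : g * y * g⁻¹ ∈ Yb L Zs x) : g ∈ Nb L x := by
  refine ⟨hg, ?_⟩
  show g ∈ Subgroup.normalizer (Cen L x : Set G)
  rw [Subgroup.mem_normalizer_iff]
  intro h
  have h1 := cen_conj hZc hCA hx hg hy (g * h * g⁻¹)
  have h2 := cen_conj hZc hCA hx L.one_mem hy' (g * h * g⁻¹)
  simp only [one_mul, inv_one, mul_one] at h2
  have e : g⁻¹ * (g * h * g⁻¹) * g = h := by group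
  rw [e] at h1
  exact h1.symm.trans h2

include hZc hCA in
theorem rec_A4 [Zs.Normal] (hZL : Zs ≤ L) {x : G} (hxL : x ∈ L) (hxZ : x ∉ Zs) (z : ℕ)
    (hz : Nat.card Zs = z) (hcen : Nat.card (Cen L x) = 3 * z) (hnb : Nat.card (Nb L x) = 3 * z)
    (hL : Nat.card L = 12 * z) : Nonempty (↥L ⧸ Zs.subgroupOf L ≃* alternatingGroup (Fin 4)) := by
  have hzpos : 0 < z := hz ▸ Nat.card_pos
  have hZcen : Zs ≤ Cen L x := fun ζ hζ => mem_Cen.2 ⟨hZL hζ, (hZc ζ hζ x).symm⟩
  have hcenL : Cen L x ≤ L := inf_le_left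
  refine rec_alt_L L (Cen L x) Zs hZc hZcen hcenL ?_ 4 ?_ ?_
  · intro k hk hconj
    by_contra hkZ
    have hkc : k ∈ coreIn L (Cen L x) := ⟨hcenL hk, hconj⟩
    have h1 := core_absorb hZc hCA (Cen L x) hZcen hcenL hkc hkZ hk hxZ 3 Nat.prime_three
      (by rw [hcen, hz]; ring)
    have h2 := ob_card hZc hCA (L := L) hxZ
    have h3 := yb_card (L := L) (Zs := Zs) x (zs_le_cen hZc x)
    have h4 : (L ⊓ Zs : Subgroup G) = Zs := inf_eq_right.2 hZL
    rw [h4] at h3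
    rw [h3, hnb, hL, hcen, hz] at h2
    rw [hcen, hz] at h1
    have e1 : 3 * z - z = 2 * z := by omega
    rw [e1] at h2
    have h5 : (Ob L Zs x).ncard = 8 * z := by
      have : (Ob L Zs x).ncard * (3 * z) = (8 * z) * (3 * z) := by rw [h2]; ring
      exact Nat.eq_of_mul_eq_mul_right (by positivity) this
    omega
  · rw [hL, hcen]; ring
  · rw [hL, hz]
    have : Nat.factorial 4 = 24 := by decide
    rw [this]; ring

include hZc hCA in
theorem rec_S4 [Zs.Normal] (hZL : Zs ≤ L) {x : G} (hxL : x ∈ L) (hxZ : x ∉ Zs) (z : ℕ)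
    (hz : Nat.card Zs = z) (hcen : Nat.card (Cen L x) = 3 * z) (hnb : Nat.card (Nb L x) = 6 * z)
    (hL : Nat.card L = 24 * z)
    (hinv : ∀ g ∈ Nb L x, g ∉ Cen L x → g * x * g⁻¹ = x⁻¹) (hx2 : x * x ∉ Zs) :
    Nonempty (↥L ⧸ Zs.subgroupOf L ≃* Equiv.Perm (Fin 4)) := by
  have hzpos : 0 < z := hz ▸ Nat.card_pos
  have hZcen : Zs ≤ Cen L x := fun ζ hζ => mem_Cen.2 ⟨hZL hζ, (hZc ζ hζ x).symm⟩
  have hcenL : Cen L x ≤ L := inf_le_left
  have hcennb : Cen L x ≤ Nb L x := fun g hg =>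
    Subgroup.mem_inf.2 ⟨(mem_Cen.1 hg).1, Subgroup.le_normalizer hg⟩
  have hnbL : Nb L x ≤ L := inf_le_left
  have key : ∀ k, k ∈ coreIn L (Nb L x) → k ∉ Zs → k ∈ Cen L x → False := by
    intro k hkc hkZ hk
    have h1 := core_absorb hZc hCA (Nb L x) (hZcen.trans hcennb) hnbL hkc hkZ hk hxZ 3
      Nat.prime_three (by rw [hcen, hz]; ring)
    have h2 := ob_card hZc hCA (L := L) hxZ
    have h3 := yb_card (L := L) (Zs := Zs) x (zs_le_cen hZc x)
    have h4 : (L ⊓ Zs : Subgroup G) = Zs := inf_eq_right.2 hZL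
    rw [h4] at h3
    rw [h3, hnb, hL, hcen, hz] at h2
    rw [hnb, hz] at h1
    have e1 : 3 * z - z = 2 * z := by omega
    rw [e1] at h2
    have h5 : (Ob L Zs x).ncard = 8 * z := by
      have : (Ob L Zs x).ncard * (6 * z) = (8 * z) * (6 * z) := by rw [h2]; ring
      exact Nat.eq_of_mul_eq_mul_right (by positivity) this
    omega
  refine rec_sym_L L (Nb L x) Zs hZc (hZcen.trans hcennb) hnbL ?_ 4 ?_ ?_
  · intro k hk hconj
    by_contra hkZ
    have hkc : k ∈ coreIn L (Nb L x) := ⟨hnbL hk, hconj⟩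
    by_cases hkC : k ∈ Cen L x
    · exact key k hkc hkZ hkC
    · have hi := hinv k hk hkC
      have hk' : x * k * x⁻¹ * k⁻¹ ∈ coreIn L (Nb L x) :=
        Subgroup.mul_mem _ (coreIn_conj hkc hxL) (Subgroup.inv_mem _ hkc)
      have e : x * k * x⁻¹ * k⁻¹ = x * x := by
        have : k * x⁻¹ * k⁻¹ = x := by
          have : k * x⁻¹ * k⁻¹ = (k * x * k⁻¹)⁻¹ := by group
          rw [this, hi, inv_inv]
        calc x * k * x⁻¹ * k⁻¹ = x * (k * x⁻¹ * k⁻¹) := by group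
          _ = x * x := by rw [this]
      rw [e] at hk'
      exact key (x * x) hk' hx2 (mem_Cen.2 ⟨L.mul_mem hxL hxL, (mul_assoc x x x).symm⟩)
  · rw [hL, hnb]; ring
  · rw [hL, hz]
    have : Nat.factorial 4 = 24 := by decide
    rw [this]

include hZc hCA in
/-- The normaliser of a "Klein four-group modulo the centre" has order `12 z`. -/
theorem exists_N12 (hZL : Zs ≤ L) {x : G} (hxL : x ∈ L) (hxZ : x ∉ Zs) (z : ℕ)
    (hz : Nat.card Zs = z) (hcen : Nat.card (Cen L x) = 2 * z) (hnb : Nat.card (Nb L x) = 4 * z)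
    (hsq : ∀ v ∈ Nb L x, v * v ∈ Zs)
    (hinvol : ∀ y ∈ L, y ∉ Zs → y * y ∈ Zs → y ∈ Ob L Zs x) :
    ∃ N : Subgroup G, Zs ≤ N ∧ N ≤ L ∧ Nat.card N = 12 * z := by
  have hzpos : 0 < z := hz ▸ Nat.card_pos
  have hZcen : Zs ≤ Cen L x := fun ζ hζ => mem_Cen.2 ⟨hZL hζ, (hZc ζ hζ x).symm⟩
  have hcennb : Cen L x ≤ Nb L x := fun g hg =>
    Subgroup.mem_inf.2 ⟨(mem_Cen.1 hg).1, Subgroup.le_normalizer hg⟩
  have hnbL : Nb L x ≤ L := inf_le_left
  -- Step A
  have hA : ∀ v ∈ Nb L x, ∀ y ∈ Nb L x, ∃ c ∈ Zs, v * y * v⁻¹ = c * y := by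
    intro v hv y hy
    have h1 := hsq (v * y) (Subgroup.mul_mem _ hv hy)
    have h2 := Zs.inv_mem (hsq v hv)
    have h3 := Zs.inv_mem (hsq y hy)
    refine ⟨(v * y) * (v * y) * (v * v)⁻¹ * (y * y)⁻¹, Zs.mul_mem (Zs.mul_mem h1 h2) h3, ?_⟩
    have e : y * (v * v)⁻¹ = (v * v)⁻¹ * y := (hZc _ h2 y).symm
    symm
    calc (v * y) * (v * y) * (v * v)⁻¹ * (y * y)⁻¹ * y
        = v * y * v * (y * (v * v)⁻¹) * y⁻¹ := by group
      _ = v * y * v * ((v * v)⁻¹ * y) * y⁻¹ := by rw [e]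
      _ = v * y * v⁻¹ := by group
  -- Step B
  have hB1 : ∀ w ∈ Nb L x, ∀ v ∈ Nb L x, ∀ h ∈ Cen L w, v * h * v⁻¹ ∈ Cen L w := by
    intro w hw v hv h hh
    obtain ⟨c, hc, hcw⟩ := hA v⁻¹ (Subgroup.inv_mem _ hv) w hw
    rw [inv_inv] at hcw
    rw [mem_Cen] at hh ⊢
    refine ⟨L.mul_mem (L.mul_mem (hnbL hv) hh.1) (L.inv_mem (hnbL hv)), ?_⟩
    have e1 : (c * w) * h = h * (c * w) := by
      calc (c * w) * h = c * (w * h) := by group
        _ = c * (h * w) := by rw [hh.2]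
        _ = (c * h) * w := by group
        _ = (h * c) * w := by rw [hZc c hc h]
        _ = h * (c * w) := by group
    rw [← hcw] at e1
    calc w * (v * h * v⁻¹) = v * ((v⁻¹ * w * v) * h) * v⁻¹ := by group
      _ = v * (h * (v⁻¹ * w * v)) * v⁻¹ := by rw [e1]
      _ = (v * h * v⁻¹) * w := by group
  have hB : ∀ w ∈ Nb L x, w ∉ Zs → Nb L w = Nb L x := by
    intro w hw hwZ
    have hwob := hinvol w (hnbL hw) hwZ (hsq w hw)
    have hcard := (card_of_mem_ob hZc hCA hxZ hwob).2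
    have hle : Nb L x ≤ Nb L w := by
      intro v hv
      refine ⟨hnbL hv, ?_⟩
      show v ∈ Subgroup.normalizer (Cen L w : Set G)
      rw [Subgroup.mem_normalizer_iff]
      intro h
      constructor
      · exact hB1 w hw v hv h
      · intro hh
        have := hB1 w hw v⁻¹ (Subgroup.inv_mem _ hv) _ hh
        have e : v⁻¹ * (v * h * v⁻¹) * v⁻¹⁻¹ = h := by group
        rw [e] at this
        exact this
    exact (Subgroup.eq_of_le_of_card_ge hle hcard.le).symm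
  -- Step C
  refine ⟨L ⊓ Subgroup.normalizer (Nb L x : Set G), ?_, inf_le_left, ?_⟩
  · intro ζ hζ
    exact ⟨hZL hζ, Subgroup.le_normalizer (hcennb (hZcen hζ))⟩
  have hVN : Nb L x ≤ L ⊓ Subgroup.normalizer (Nb L x : Set G) :=
    le_inf hnbL Subgroup.le_normalizer
  have hb := block_card (L ⊓ Subgroup.normalizer (Nb L x : Set G)) (Nb L x) (Yb L Zs x) hVN
    (fun g hg y hy => yb_stable hZc hg hy)
    (fun g hg y hy hy' => nb_of_yb hZc hCA hxZ hg.1 hy hy')
  have hO : ({w | ∃ g ∈ (L ⊓ Subgroup.normalizer (Nb L x : Set G) : Subgroup G),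
      ∃ y ∈ Yb L Zs x, w = g * y * g⁻¹} : Set G) = ((Nb L x : Subgroup G) : Set G) \ (Zs : Set G) := by
    ext w
    constructor
    · rintro ⟨g, hg, y, hy, rfl⟩
      have hyV : y ∈ Nb L x := hcennb (mem_Cen.2 ⟨hy.1, hy.2.1⟩)
      refine ⟨?_, ?_⟩
      · exact (Subgroup.mem_normalizer_iff.1 hg.2 y).1 hyV
      · show g * y * g⁻¹ ∉ Zs
        rw [conj_mem_Zs_iff hZc]
        exact hy.2.2
    · rintro ⟨hwV, hwZ⟩
      have hwZ' : w ∉ Zs := hwZ
      have hwV' : w ∈ Nb L x := hwV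
      obtain ⟨g, hg, y, hy, rfl⟩ := hinvol w (hnbL hwV') hwZ' (hsq w hwV')
      refine ⟨g, ⟨hg, ?_⟩, y, hy, rfl⟩
      show g ∈ Subgroup.normalizer (Nb L x : Set G)
      rw [Subgroup.mem_normalizer_iff'']
      intro h
      have h1 := nb_conj_iff hZc hCA hxZ hg hy h
      rw [hB _ hwV' hwZ'] at h1
      exact h1
  rw [hO] at hb
  have h2 := Set.ncard_sdiff_add_ncard_of_subset
    (show (Zs : Set G) ⊆ ((Nb L x : Subgroup G) : Set G) from hZcen.trans hcennb) (Set.toFinite _)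
  have e1 : ((Nb L x : Subgroup G) : Set G).ncard = Nat.card (Nb L x) := rfl
  have e2 : (Zs : Set G).ncard = Nat.card Zs := rfl
  have h3 := yb_card (L := L) (Zs := Zs) x (zs_le_cen hZc x)
  have h4 : (L ⊓ Zs : Subgroup G) = Zs := inf_eq_right.2 hZL
  rw [h4, hcen, hz] at h3
  rw [e1, e2, hnb, hz] at h2
  have h5 : (((Nb L x : Subgroup G) : Set G) \ (Zs : Set G)).ncard = 3 * z := by omega
  have h6 : (Yb L Zs x).ncard = z := by omega
  rw [h5, h6, hnb] at hb
  have : (12 * z) * z = Nat.card (L ⊓ Subgroup.normalizer (Nb L x : Set G) : Subgroup G) * z := by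
    rw [← hb]; ring
  exact (Nat.eq_of_mul_eq_mul_right hzpos this).symm

include hZc hCA in
theorem rec_A5 [Zs.Normal] (hZL : Zs ≤ L) (z : ℕ) (hz : Nat.card Zs = z)
    (hL : Nat.card L = 60 * z)
    (hcls : ∀ k ∈ L, k ∉ Zs → (Nat.card (Cen L k) = 2 * z ∧ Nat.card (Nb L k) = 4 * z) ∨
      (Nat.card (Cen L k) = 3 * z ∧ Nat.card (Nb L k) = 6 * z) ∨
      (Nat.card (Cen L k) = 5 * z ∧ Nat.card (Nb L k) = 10 * z))
    {x : G} (hxL : x ∈ L) (hxZ : x ∉ Zs) (hcen : Nat.card (Cen L x) = 2 * z)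
    (hnb : Nat.card (Nb L x) = 4 * z) (hsq : ∀ v ∈ Nb L x, v * v ∈ Zs)
    (hinvol : ∀ y ∈ L, y ∉ Zs → y * y ∈ Zs → y ∈ Ob L Zs x) :
    Nonempty (↥L ⧸ Zs.subgroupOf L ≃* alternatingGroup (Fin 5)) := by
  have hzpos : 0 < z := hz ▸ Nat.card_pos
  obtain ⟨N, hZN, hNL, hN⟩ := exists_N12 hZc hCA hZL hxL hxZ z hz hcen hnb hsq hinvol
  refine rec_alt_L L N Zs hZc hZN hNL ?_ 5 ?_ ?_
  · intro k hk hconj
    by_contra hkZ
    have hkL := hNL hk
    have hkc : k ∈ coreIn L N := ⟨hkL, hconj⟩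
    have hkk : k ∈ Cen L k := mem_Cen.2 ⟨hkL, rfl⟩
    have h2 := ob_card hZc hCA (L := L) hkZ
    have h3 := yb_card (L := L) (Zs := Zs) k (zs_le_cen hZc k)
    have h4 : (L ⊓ Zs : Subgroup G) = Zs := inf_eq_right.2 hZL
    rw [h4] at h3
    rcases hcls k hkL hkZ with ⟨hc, hn⟩ | ⟨hc, hn⟩ | ⟨hc, hn⟩
    · have h1 := core_absorb hZc hCA N hZN hNL hkc hkZ hkk hkZ 2 Nat.prime_two
        (by rw [hc, hz]; ring)
      rw [h3, hn, hL, hc, hz] at h2
      rw [hN, hz] at h1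
      have e1 : 2 * z - z = z := by omega
      rw [e1] at h2
      have h5 : (Ob L Zs k).ncard = 15 * z := by
        have : (Ob L Zs k).ncard * (4 * z) = (15 * z) * (4 * z) := by rw [h2]; ring
        exact Nat.eq_of_mul_eq_mul_right (by positivity) this
      omega
    · have h1 := core_absorb hZc hCA N hZN hNL hkc hkZ hkk hkZ 3 Nat.prime_three
        (by rw [hc, hz]; ring)
      rw [h3, hn, hL, hc, hz] at h2
      rw [hN, hz] at h1
      have e1 : 3 * z - z = 2 * z := by omega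
      rw [e1] at h2
      have h5 : (Ob L Zs k).ncard = 20 * z := by
        have : (Ob L Zs k).ncard * (6 * z) = (20 * z) * (6 * z) := by rw [h2]; ring
        exact Nat.eq_of_mul_eq_mul_right (by positivity) this
      omega
    · have h1 := core_absorb hZc hCA N hZN hNL hkc hkZ hkk hkZ 5 Nat.prime_five
        (by rw [hc, hz]; ring)
      rw [h3, hn, hL, hc, hz] at h2
      rw [hN, hz] at h1
      have e1 : 5 * z - z = 4 * z := by omega
      rw [e1] at h2
      have h5 : (Ob L Zs k).ncard = 24 * z := by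
        have : (Ob L Zs k).ncard * (10 * z) = (24 * z) * (10 * z) := by rw [h2]; ring
        exact Nat.eq_of_mul_eq_mul_right (by positivity) this
      omega
  · rw [hL, hN]; ring
  · rw [hL, hz]
    have : Nat.factorial 5 = 120 := by decide
    rw [this]; ring

end Rel

end Cfsg.Agent.H18.Dk
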