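import Mathlib
import Cfsg.Agent.H18.DkEig
import Cfsg.Agent.H18.DkRec
import Cfsg.Agent.H3.Dihedral
import Cfsg.Agent.H44.SL2Card

/-!
# Subgroups of `PSL(2, q)` through their preimages in `SL(2, q)` (helper18)

The projection `mkP`, the Dickson predicate `DkP`, and the "easy" conclusions: cyclic, dihedral,
Borel type.
-/

set_option autoImplicit false
set_option linter.unusedSectionVars false
set_option linter.unusedVariables false
set_option linter.deprecated false
set_option linter.unusedSimpArgs false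

namespace Cfsg.Agent.H18.Dk

open Matrix Cfsg.Agent.H65.SL2 Cfsg.Agent.H29.Dk

variable {F : Type*} [Field F]

instance Ze_normal : (Ze : Subgroup (Matrix.SpecialLinearGroup (Fin 2) F)).Normal := by
  rw [Ze_eq_center]; infer_instance

/-- The projection `SL(2, F) → PSL(2, F)`. -/
noncomputable def mkP (F : Type*) [Field F] :
    Matrix.SpecialLinearGroup (Fin 2) F →* Matrix.ProjectiveSpecialLinearGroup (Fin 2) F :=
  QuotientGroup.mk' (Subgroup.center (Matrix.SpecialLinearGroup (Fin 2) F))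

theorem mkP_surjective : Function.Surjective (mkP F) := QuotientGroup.mk'_surjective _

theorem mkP_ker : (mkP F).ker = Ze := by
  unfold mkP
  rw [QuotientGroup.ker_mk', Ze_eq_center]

theorem mkP_eq_one_iff {g : Matrix.SpecialLinearGroup (Fin 2) F} :
    mkP F g = 1 ↔ g ∈ (Ze : Subgroup _) := by
  rw [← MonoidHom.mem_ker, mkP_ker]

theorem mkP_eq_iff {g h : Matrix.SpecialLinearGroup (Fin 2) F} :
    mkP F g = mkP F h ↔ g⁻¹ * h ∈ (Ze : Subgroup _) := by
  rw [← mkP_eq_one_iff, map_mul, map_inv, inv_mul_eq_one]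

theorem mem_map_mkP {K : Subgroup (Matrix.SpecialLinearGroup (Fin 2) F)}
    (hZK : (Ze : Subgroup _) ≤ K) {g : Matrix.SpecialLinearGroup (Fin 2) F} :
    mkP F g ∈ K.map (mkP F) ↔ g ∈ K := by
  constructor
  · rintro ⟨k, hk, hkg⟩
    have h1 := mkP_eq_iff.1 hkg
    have h2 : g = k * (k⁻¹ * g) := by group
    rw [h2]; exact K.mul_mem hk (hZK h1)
  · intro hg; exact Subgroup.mem_map_of_mem _ hg

theorem Ze_le_comap (H : Subgroup (Matrix.ProjectiveSpecialLinearGroup (Fin 2) F)) :
    (Ze : Subgroup _) ≤ H.comap (mkP F) := by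
  intro g hg
  rw [Subgroup.mem_comap, mkP_eq_one_iff.2 hg]
  exact H.one_mem

theorem map_comap_mkP (H : Subgroup (Matrix.ProjectiveSpecialLinearGroup (Fin 2) F)) :
    (H.comap (mkP F)).map (mkP F) = H :=
  Subgroup.map_comap_eq_self_of_surjective mkP_surjective H

theorem bar_equiv (K : Subgroup (Matrix.SpecialLinearGroup (Fin 2) F)) :
    Nonempty (↥K ⧸ (Ze : Subgroup (Matrix.SpecialLinearGroup (Fin 2) F)).subgroupOf K ≃*
      ↥(K.map (mkP F))) := by
  have hker : ((mkP F).subgroupMap K).ker = (Ze : Subgroup _).subgroupOf K := by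
    ext x
    rw [MonoidHom.mem_ker, Subgroup.mem_subgroupOf, ← mkP_eq_one_iff]
    constructor
    · intro h
      have := congrArg Subtype.val h
      simpa using this
    · intro h
      apply Subtype.ext
      simpa using h
  exact ⟨(QuotientGroup.quotientMulEquivOfEq hker.symm).trans
    (QuotientGroup.quotientKerEquivOfSurjective _ ((mkP F).subgroupMap_surjective K))⟩

theorem card_map_mkP [Finite F] {K : Subgroup (Matrix.SpecialLinearGroup (Fin 2) F)}
    (hZK : (Ze : Subgroup _) ≤ K) :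
    Nat.card K = Nat.card (Ze : Subgroup (Matrix.SpecialLinearGroup (Fin 2) F)) *
      Nat.card (K.map (mkP F)) := by
  obtain ⟨e⟩ := bar_equiv K
  have h1 := card_quot_subgroupOf K Ze hZK
  rw [Nat.card_congr e.toEquiv] at h1
  rw [← h1, mul_comm]

theorem Ze_set : ((Ze : Subgroup (Matrix.SpecialLinearGroup (Fin 2) F)) :
    Set (Matrix.SpecialLinearGroup (Fin 2) F)) = {1, -1} := by
  ext g
  simp only [SetLike.mem_coe, Set.mem_insert_iff, Set.mem_singleton_iff]
  constructor
  · intro hg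
    rw [mem_Ze] at hg
    obtain ⟨h10, h01, h00⟩ := hg
    have hd := det_eq g
    rw [h01, zero_mul, sub_zero, ← h00] at hd
    have h3 : (g.1 0 0 - 1) * (g.1 0 0 + 1) = 0 := by linear_combination hd
    rcases mul_eq_zero.1 h3 with h | h
    · left
      apply ext4 <;> simp only [one00, one01, one10, one11, h10, h01]
      · linear_combination h
      · rw [← h00]; linear_combination h
    · right
      apply ext4 <;> simp only [neg00, neg01, neg10, neg11, one00, one01, one10, one11, h10, h01,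
        neg_zero]
      · linear_combination h
      · rw [← h00]; linear_combination h
  · rintro (rfl | rfl)
    · exact Subgroup.one_mem _
    · exact neg_one_mem_Ze

theorem mem_Ze_iff {g : Matrix.SpecialLinearGroup (Fin 2) F} :
    g ∈ (Ze : Subgroup _) ↔ g = 1 ∨ g = -1 := by
  have := Ze_set (F := F)
  rw [Set.ext_iff] at this
  simpa using this g

theorem card_Ze [Fintype F] : Nat.card (Ze : Subgroup (Matrix.SpecialLinearGroup (Fin 2) F)) =
    Nat.gcd 2 (Fintype.card F - 1) := by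
  have hcard : Nat.card (Ze : Subgroup (Matrix.SpecialLinearGroup (Fin 2) F)) =
      ({1, -1} : Set (Matrix.SpecialLinearGroup (Fin 2) F)).ncard := by
    rw [← Ze_set]; rfl
  rw [hcard]
  have hq : 2 ≤ Fintype.card F := Fintype.one_lt_card
  by_cases h : ringChar F = 2
  · have hch : CharP F 2 := ringChar.of_eq h
    have h2 : (2 : F) = 0 := CharTwo.two_eq_zero
    have hneg : (-1 : Matrix.SpecialLinearGroup (Fin 2) F) = 1 := by
      apply ext4 <;> simp only [neg00, neg01, neg10, neg11, one00, one01, one10, one11, neg_zero]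
      · linear_combination -h2
      · linear_combination -h2
    rw [hneg, Set.pair_eq_singleton, Set.ncard_singleton]
    have := FiniteField.even_card_of_char_two h
    have h3 : (Fintype.card F - 1) % 2 = 1 := by omega
    have h4 : Nat.gcd 2 (Fintype.card F - 1) = 1 :=
      Nat.coprime_two_left.2 (Nat.odd_iff.2 h3)
    rw [h4]
  · have h2 : (2 : F) ≠ 0 := Ring.two_ne_zero h
    rw [Set.ncard_pair (neg_one_ne_one h2).symm]
    have := FiniteField.odd_card_of_char_ne_two h
    have h3 : 2 ∣ Fintype.card F - 1 := by omega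
    exact (Nat.gcd_eq_left h3).symm

/-- The conclusion of Dickson's theorem for an abstract group `X`. -/
def DkP (F : Type*) [Field F] [Fintype F] (p : ℕ) [Fact p.Prime] (X : Type*) [Group X] : Prop :=
  (∃ k : ℕ, (k ∣ (Fintype.card F + 1) / Nat.gcd 2 (Fintype.card F - 1) ∨
      k ∣ (Fintype.card F - 1) / Nat.gcd 2 (Fintype.card F - 1)) ∧
      ((IsCyclic X ∧ Nat.card X = k) ∨ Nonempty (X ≃* DihedralGroup k))) ∨
  (∃ (P : Sylow p (Matrix.ProjectiveSpecialLinearGroup (Fin 2) F))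
      (K : Subgroup (Matrix.ProjectiveSpecialLinearGroup (Fin 2) F)),
      K ≤ Subgroup.normalizer ((P : Subgroup (Matrix.ProjectiveSpecialLinearGroup (Fin 2) F)) :
        Set (Matrix.ProjectiveSpecialLinearGroup (Fin 2) F)) ∧ Nonempty (X ≃* K)) ∨
  Nonempty (X ≃* alternatingGroup (Fin 4)) ∨ Nonempty (X ≃* Equiv.Perm (Fin 4)) ∨
  Nonempty (X ≃* alternatingGroup (Fin 5)) ∨
  (∃ (K : Type) (_ : Field K) (_ : Fintype K) (m : ℕ), Fintype.card K ^ m = Fintype.card F ∧
    (Nonempty (X ≃* Matrix.ProjectiveSpecialLinearGroup (Fin 2) K) ∨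
      Nonempty (X ≃* Matrix.ProjGenLinGroup (Fin 2) K)))

theorem DkP_congr [Fintype F] (p : ℕ) [Fact p.Prime] {X Y : Type*} [Group X] [Group Y]
    (e : X ≃* Y) (h : DkP F p X) : DkP F p Y := by
  rcases h with ⟨k, hk, h | ⟨⟨f⟩⟩⟩ | ⟨P, K, hK, ⟨f⟩⟩ | ⟨⟨f⟩⟩ | ⟨⟨f⟩⟩ | ⟨⟨f⟩⟩ |
    ⟨K, i1, i2, m, hm, ⟨⟨f⟩⟩ | ⟨⟨f⟩⟩⟩
  · left
    refine ⟨k, hk, Or.inl ⟨?_, ?_⟩⟩
    · have hc := h.1
      exact isCyclic_of_surjective e e.surjective
    · rw [← h.2]; exact Nat.card_congr e.symm.toEquiv
  · left; exact ⟨k, hk, Or.inr ⟨e.symm.trans f⟩⟩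
  · right; left; exact ⟨P, K, hK, ⟨e.symm.trans f⟩⟩
  · right; right; left; exact ⟨e.symm.trans f⟩
  · right; right; right; left; exact ⟨e.symm.trans f⟩
  · right; right; right; right; left; exact ⟨e.symm.trans f⟩
  · right; right; right; right; right; exact ⟨K, i1, i2, m, hm, Or.inl ⟨e.symm.trans f⟩⟩
  · right; right; right; right; right; exact ⟨K, i1, i2, m, hm, Or.inr ⟨e.symm.trans f⟩⟩


/-! ### The easy conclusions -/

theorem card_dvd_of_cen [Fintype F] {x : Matrix.SpecialLinearGroup (Fin 2) F}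
    (htr : tr x ^ 2 ≠ 4) {C : Subgroup (Matrix.SpecialLinearGroup (Fin 2) F)}
    (hZC : (Ze : Subgroup _) ≤ C)
    (hC : C ≤ Subgroup.centralizer ({x} : Set (Matrix.SpecialLinearGroup (Fin 2) F))) :
    Nat.card ↥(C.map (mkP F)) ∣ (Fintype.card F + 1) / Nat.gcd 2 (Fintype.card F - 1) ∨
      Nat.card ↥(C.map (mkP F)) ∣ (Fintype.card F - 1) / Nat.gcd 2 (Fintype.card F - 1) := by
  have hcard := card_map_mkP hZC
  rw [card_Ze] at hcard
  have hdvd : Nat.card C ∣ Nat.card (Subgroup.centralizer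
      ({x} : Set (Matrix.SpecialLinearGroup (Fin 2) F))) := Subgroup.card_dvd_of_le hC
  rcases cen_card_dvd htr with h | h
  · right
    apply Nat.dvd_div_of_mul_dvd
    rw [← hcard]
    exact hdvd.trans h
  · left
    apply Nat.dvd_div_of_mul_dvd
    rw [← hcard]
    exact hdvd.trans h

theorem isCyclic_of_le_cen [Finite F] {x : Matrix.SpecialLinearGroup (Fin 2) F}
    (htr : tr x ^ 2 ≠ 4) {C : Subgroup (Matrix.SpecialLinearGroup (Fin 2) F)}
    (hC : C ≤ Subgroup.centralizer ({x} : Set (Matrix.SpecialLinearGroup (Fin 2) F))) :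
    IsCyclic ↥C := by
  have h1 := cen_isCyclic htr
  have h2 : IsCyclic ↥(C.subgroupOf (Subgroup.centralizer
      ({x} : Set (Matrix.SpecialLinearGroup (Fin 2) F)))) := inferInstance
  exact isCyclic_of_surjective (Subgroup.subgroupOfEquivOfLe hC)
    (Subgroup.subgroupOfEquivOfLe hC).surjective

theorem dk_triv [Fintype F] (p : ℕ) [Fact p.Prime]
    (L : Subgroup (Matrix.SpecialLinearGroup (Fin 2) F)) (hL : L ≤ (Ze : Subgroup _)) :
    DkP F p ↥(L.map (mkP F)) := by
  left
  have hbot : L.map (mkP F) = ⊥ := by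
    rw [eq_bot_iff]
    rintro y ⟨g, hg, rfl⟩
    rw [Subgroup.mem_bot]
    exact mkP_eq_one_iff.2 (hL hg)
  refine ⟨1, Or.inl (one_dvd _), Or.inl ⟨?_, ?_⟩⟩
  · rw [hbot]; infer_instance
  · rw [hbot]; exact Subgroup.card_bot

theorem dk_cyc [Fintype F] (p : ℕ) [Fact p.Prime]
    (L : Subgroup (Matrix.SpecialLinearGroup (Fin 2) F)) (hZL : (Ze : Subgroup _) ≤ L)
    {x : Matrix.SpecialLinearGroup (Fin 2) F} (htr : tr x ^ 2 ≠ 4)
    (hL : L ≤ Subgroup.centralizer ({x} : Set (Matrix.SpecialLinearGroup (Fin 2) F))) :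
    DkP F p ↥(L.map (mkP F)) := by
  left
  have hcycL : IsCyclic ↥L := isCyclic_of_le_cen htr hL
  have hcyc : IsCyclic ↥(L.map (mkP F)) :=
    isCyclic_of_surjective ((mkP F).subgroupMap L) ((mkP F).subgroupMap_surjective L)
  exact ⟨Nat.card ↥(L.map (mkP F)), card_dvd_of_cen htr hZL hL, Or.inl ⟨hcyc, rfl⟩⟩

theorem dk_dih [Fintype F] (p : ℕ) [Fact p.Prime]
    (L : Subgroup (Matrix.SpecialLinearGroup (Fin 2) F)) (hZL : (Ze : Subgroup _) ≤ L)
    {x : Matrix.SpecialLinearGroup (Fin 2) F} (hx : x ∈ L) (htr : tr x ^ 2 ≠ 4)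
    (hN : L ≤ Nb L x) {τ : Matrix.SpecialLinearGroup (Fin 2) F} (hτ : τ ∈ L)
    (hτC : τ ∉ Cen L x) : DkP F p ↥(L.map (mkP F)) := by
  left
  have hCle : Cen L x ≤ Subgroup.centralizer
      ({x} : Set (Matrix.SpecialLinearGroup (Fin 2) F)) := inf_le_right
  have hCL : Cen L x ≤ L := inf_le_left
  have hZC : (Ze : Subgroup _) ≤ Cen L x := fun ζ hζ =>
    mem_Cen.2 ⟨hZL hζ, (Ze_comm hζ x).symm⟩
  have hcycC : IsCyclic ↥(Cen L x) := isCyclic_of_le_cen htr hCle
  obtain ⟨⟨ρ, hρC⟩, hgen⟩ := IsCyclic.exists_generator (α := ↥(Cen L x))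
  have hCeq : Cen L x = Subgroup.zpowers ρ := by
    apply le_antisymm
    · intro c hc
      obtain ⟨n, hn⟩ := Subgroup.mem_zpowers_iff.1 (hgen ⟨c, hc⟩)
      have := congrArg Subtype.val hn
      simp only [Subgroup.coe_zpow] at this
      rw [← this]
      exact Subgroup.zpow_mem_zpowers ρ n
    · rw [Subgroup.zpowers_le]; exact hρC
  have hcardC := card_map_mkP hZC
  have hcardL := card_map_mkP hZL
  have hzpos : 0 < Nat.card (Ze : Subgroup (Matrix.SpecialLinearGroup (Fin 2) F)) := Nat.card_pos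
  have hNL : Nb L x = L := le_antisymm inf_le_left hN
  have hcard2 : Nat.card L = 2 * Nat.card (Cen L x) := by
    rcases nb_card' L hx htr with h | h
    · exfalso
      apply hτC
      rw [hNL] at h
      have := Subgroup.eq_of_le_of_card_ge hCL h.le
      rw [this]; exact hτ
    · rw [hNL] at h; exact h
  have hcard : Nat.card ↥(L.map (mkP F)) = 2 * Nat.card ↥((Cen L x).map (mkP F)) := by
    rw [hcardC, hcardL] at hcard2
    have : Nat.card (Ze : Subgroup (Matrix.SpecialLinearGroup (Fin 2) F)) *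
        Nat.card ↥(L.map (mkP F)) = Nat.card (Ze : Subgroup (Matrix.SpecialLinearGroup (Fin 2) F)) *
        (2 * Nat.card ↥((Cen L x).map (mkP F))) := by rw [hcard2]; ring
    exact Nat.eq_of_mul_eq_mul_left hzpos this
  have hne : NeZero (Nat.card ↥((Cen L x).map (mkP F))) := ⟨Nat.card_pos.ne'⟩
  have hρL : ρ ∈ L := hCL hρC
  have hord : orderOf (⟨mkP F ρ, Subgroup.mem_map_of_mem _ hρL⟩ : ↥(L.map (mkP F))) =
      Nat.card ↥((Cen L x).map (mkP F)) := by
    rw [Subgroup.orderOf_mk, ← Nat.card_zpowers, ← MonoidHom.map_zpowers, ← hCeq]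
  have hτnot : (⟨mkP F τ, Subgroup.mem_map_of_mem _ hτ⟩ : ↥(L.map (mkP F))) ∉
      Subgroup.zpowers (⟨mkP F ρ, Subgroup.mem_map_of_mem _ hρL⟩ : ↥(L.map (mkP F))) := by
    intro h
    obtain ⟨n, hn⟩ := Subgroup.mem_zpowers_iff.1 h
    have h1 := congrArg Subtype.val hn
    simp only [Subgroup.coe_zpow] at h1
    rw [← map_zpow] at h1
    have h2 := mkP_eq_iff.1 h1
    apply hτC
    have h3 : τ = ρ ^ n * ((ρ ^ n)⁻¹ * τ) := by group
    rw [h3]
    exact (Cen L x).mul_mem ((Cen L x).zpow_mem hρC n) (hZC h2)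
  have hτ2 : (⟨mkP F τ, Subgroup.mem_map_of_mem _ hτ⟩ : ↥(L.map (mkP F))) *
      ⟨mkP F τ, Subgroup.mem_map_of_mem _ hτ⟩ = 1 := by
    apply Subtype.ext
    simp only [Subgroup.coe_mul, Subgroup.coe_one]
    rw [← map_mul]
    exact mkP_eq_one_iff.2 (nb_sq L hx htr (hN hτ) hτC)
  have hconj : (⟨mkP F τ, Subgroup.mem_map_of_mem _ hτ⟩ : ↥(L.map (mkP F))) *
      ⟨mkP F ρ, Subgroup.mem_map_of_mem _ hρL⟩ *
      (⟨mkP F τ, Subgroup.mem_map_of_mem _ hτ⟩ : ↥(L.map (mkP F)))⁻¹ =
      (⟨mkP F ρ, Subgroup.mem_map_of_mem _ hρL⟩ : ↥(L.map (mkP F)))⁻¹ := by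
    apply Subtype.ext
    simp only [Subgroup.coe_mul, Subgroup.coe_inv]
    rw [← map_inv, ← map_mul, ← map_mul, ← map_inv]
    exact congrArg (mkP F) (nb_inv_all L hx htr (hN hτ) hτC hρC)
  exact ⟨Nat.card ↥((Cen L x).map (mkP F)), card_dvd_of_cen htr hZC hCle, Or.inr
    (Cfsg.Agent.H3.dihedral_of_gens _ hcard _ _ hord hτnot hτ2 hconj)⟩

theorem card_Un [Fintype F] :
    Nat.card (Un : Subgroup (Matrix.SpecialLinearGroup (Fin 2) F)) = Fintype.card F := by
  rw [← Nat.card_eq_fintype_card]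
  apply Nat.card_congr
  refine ⟨fun g => g.1.1 0 1, fun a => ⟨uT a, uT_mem_Un a⟩, ?_, ?_⟩
  · intro g
    apply Subtype.ext
    exact (eq_uT_of_mem_Un g.2).symm
  · intro a
    simp

theorem card_PSL2_mul [Fintype F] :
    Nat.gcd 2 (Fintype.card F - 1) *
      Nat.card (Matrix.ProjectiveSpecialLinearGroup (Fin 2) F) =
      Fintype.card F * (Fintype.card F ^ 2 - 1) := by
  have h1 := card_map_mkP (F := F) (K := ⊤) le_top
  rw [Subgroup.map_top_of_surjective _ mkP_surjective, Subgroup.card_top, Subgroup.card_top,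
    card_Ze, Cfsg.Agent.H44.card_SL2] at h1
  exact h1.symm

theorem dk_borel [Fintype F] (p : ℕ) [Fact p.Prime] [CharP F p]
    (L : Subgroup (Matrix.SpecialLinearGroup (Fin 2) F)) (hLB : L ≤ (Bo : Subgroup _)) :
    DkP F p ↥(L.map (mkP F)) := by
  right; left
  have hUn : IsPGroup p ↥(Un : Subgroup (Matrix.SpecialLinearGroup (Fin 2) F)) := by
    intro g
    refine ⟨1, ?_⟩
    apply Subtype.ext
    simp only [pow_one, Subgroup.coe_pow, Subgroup.coe_one]
    exact pow_p_of_mem_Un g.2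
  have hU1 : IsPGroup p ↥((Un : Subgroup (Matrix.SpecialLinearGroup (Fin 2) F)).map (mkP F)) :=
    hUn.map (mkP F)
  have hcU : Nat.card ↥((Un : Subgroup (Matrix.SpecialLinearGroup (Fin 2) F)).map (mkP F)) =
      Fintype.card F := by
    rw [← card_Un]
    symm
    apply Nat.card_congr
    refine Equiv.ofBijective ((mkP F).subgroupMap Un) ⟨?_, (mkP F).subgroupMap_surjective _⟩
    rw [injective_iff_map_eq_one]
    intro u hu
    have h1 := congrArg Subtype.val hu
    simp only [MonoidHom.subgroupMap_apply_coe, Subgroup.coe_one] at h1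
    apply Subtype.ext
    exact eq_one_of_mem_Ze_Un (mkP_eq_one_iff.1 h1) u.2
  have hU2 : ¬ p ∣ ((Un : Subgroup (Matrix.SpecialLinearGroup (Fin 2) F)).map (mkP F)).index := by
    intro hdvd
    have h1 := Subgroup.index_mul_card
      ((Un : Subgroup (Matrix.SpecialLinearGroup (Fin 2) F)).map (mkP F))
    rw [hcU] at h1
    have h2 := card_PSL2_mul (F := F)
    rw [← h1] at h2
    have hq : 2 ≤ Fintype.card F := Fintype.one_lt_card
    have h3 : Nat.gcd 2 (Fintype.card F - 1) *
        ((Un : Subgroup (Matrix.SpecialLinearGroup (Fin 2) F)).map (mkP F)).index =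
        Fintype.card F ^ 2 - 1 := by
      have : Fintype.card F * (Nat.gcd 2 (Fintype.card F - 1) *
        ((Un : Subgroup (Matrix.SpecialLinearGroup (Fin 2) F)).map (mkP F)).index) =
        Fintype.card F * (Fintype.card F ^ 2 - 1) := by rw [← h2]; ring
      exact Nat.eq_of_mul_eq_mul_left (by omega) this
    have h4 : p ∣ Fintype.card F ^ 2 - 1 := by
      rw [← h3]; exact Dvd.dvd.mul_left hdvd _
    obtain ⟨n, -, hn⟩ := FiniteField.card F p
    have h5 : p ∣ Fintype.card F ^ 2 := by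
      rw [hn, ← pow_mul]
      exact dvd_pow_self p (by positivity)
    have h6 : p ∣ 1 := by
      have h7 : Fintype.card F ^ 2 = (Fintype.card F ^ 2 - 1) + 1 := by
        have : 0 < Fintype.card F ^ 2 := by positivity
        omega
      rw [h7] at h5
      exact (Nat.dvd_add_right h4).1 h5
    exact (Fact.out : p.Prime).one_lt.ne' (Nat.dvd_one.1 h6)
  refine ⟨hU1.toSylow hU2, L.map (mkP F), ?_, ⟨MulEquiv.refl _⟩⟩
  rintro y ⟨g, hg, rfl⟩
  have hgB := hLB hg
  rw [IsPGroup.toSylow_coe, Subgroup.mem_normalizer_iff]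
  intro h
  constructor
  · rintro ⟨u, hu, rfl⟩
    refine ⟨g * u * g⁻¹, conj_mem_Un hgB hu, ?_⟩
    simp only [map_mul, map_inv]
  · rintro ⟨u, hu, hue⟩
    refine ⟨g⁻¹ * u * g, ?_, ?_⟩
    · have := conj_mem_Un (Subgroup.inv_mem _ hgB) hu
      rwa [inv_inv] at this
    · simp only [map_mul, map_inv]
      rw [hue]; group

/-! ### Transport along automorphisms of `SL(2, F)` -/

theorem dk_transport [Fintype F] (p : ℕ) [Fact p.Prime]
    (e : Matrix.SpecialLinearGroup (Fin 2) F ≃* Matrix.SpecialLinearGroup (Fin 2) F)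
    (L : Subgroup (Matrix.SpecialLinearGroup (Fin 2) F))
    (h : DkP F p ↥((L.map e.toMonoidHom).map (mkP F))) : DkP F p ↥(L.map (mkP F)) := by
  have hc : (Subgroup.center (Matrix.SpecialLinearGroup (Fin 2) F)).map e.toMonoidHom =
      Subgroup.center (Matrix.SpecialLinearGroup (Fin 2) F) := by
    ext y
    constructor
    · rintro ⟨x, hx, rfl⟩
      have hx' : x ∈ Subgroup.center (Matrix.SpecialLinearGroup (Fin 2) F) := hx
      rw [Subgroup.mem_center_iff] at hx' ⊢
      intro g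
      have := congrArg e (hx' (e.symm g))
      simpa using this
    · intro hy
      have hy' := Subgroup.mem_center_iff.1 hy
      refine ⟨e.symm y, ?_, by simp⟩
      show e.symm y ∈ Subgroup.center (Matrix.SpecialLinearGroup (Fin 2) F)
      rw [Subgroup.mem_center_iff]
      intro g
      have := congrArg e.symm (hy' (e g))
      simpa using this
  let eb : Matrix.ProjectiveSpecialLinearGroup (Fin 2) F ≃*
      Matrix.ProjectiveSpecialLinearGroup (Fin 2) F := QuotientGroup.congr _ _ e hc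
  have heb : ∀ x, eb (mkP F x) = mkP F (e x) := fun x => rfl
  have hmap : (L.map (mkP F)).map eb.toMonoidHom = (L.map e.toMonoidHom).map (mkP F) := by
    rw [Subgroup.map_map, Subgroup.map_map]
    congr 1
  have e1 := (L.map (mkP F)).equivMapOfInjective eb.toMonoidHom eb.injective
  rw [hmap] at e1
  exact DkP_congr p e1.symm h

end Cfsg.Agent.H18.Dk
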