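import Mathlib
import Cfsg.Agent.H29.Dk4

/-!
# Arithmetic of the class equation for Dickson's theorem (helper18)
-/

set_option autoImplicit false
set_option linter.unusedVariables false

namespace Cfsg.Agent.H18.Dk

/-- The weight of a class is at least a quarter (a half if `f = 1`) of the group order. -/
theorem w_ge {h e f : ℕ} (he : 2 ≤ e) (hf : f = 1 ∨ f = 2) (hd : e * f ∣ h) :
    h ≤ 4 * (h / (e * f) * (e - 1)) ∧ (f = 1 → h ≤ 2 * (h / (e * f) * (e - 1))) := by
  obtain ⟨m, rfl⟩ := hd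
  obtain ⟨e', rfl⟩ : ∃ e', e = e' + 2 := ⟨e - 2, by omega⟩
  have hpos : 0 < (e' + 2) * f := by rcases hf with rfl | rfl <;> positivity
  rw [Nat.mul_div_cancel_left _ hpos]
  have e1 : e' + 2 - 1 = e' + 1 := by omega
  rw [e1]
  constructor
  · rcases hf with rfl | rfl <;> nlinarith [Nat.zero_le (m * e'), Nat.zero_le m]
  · intro hf1
    subst hf1
    nlinarith [Nat.zero_le (m * e'), Nat.zero_le m]

theorem w_eq {h e f m : ℕ} (he : 2 ≤ e) (hf : f = 1 ∨ f = 2) (hm : h = e * f * m) :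
    h / (e * f) * (e - 1) = m * (e - 1) := by
  have hpos : 0 < e * f := by rcases hf with rfl | rfl <;> positivity
  rw [hm, Nat.mul_div_cancel_left _ hpos]

theorem one_class (h e f m : ℕ) (he : 2 ≤ e) (hf : f = 1 ∨ f = 2) (hm : h = e * f * m)
    (hsum : m * (e - 1) + 1 = h) : f = 1 ∧ h = e := by
  obtain ⟨e', rfl⟩ : ∃ e', e = e' + 2 := ⟨e - 2, by omega⟩
  have e1 : e' + 2 - 1 = e' + 1 := by omega
  rw [e1] at hsum
  rcases hf with rfl | rfl
  · have hm1 : m = 1 := by nlinarith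
    subst hm1
    exact ⟨rfl, by omega⟩
  · exfalso
    have : m * e' + 3 * m = 1 := by nlinarith
    have hm1 : m ≤ 0 := by omega
    have : m = 0 := by omega
    subst this
    omega

/-- Two classes with `f = 1` and `f = 2`. -/
theorem two_12 (h ea ma eb mb : ℕ) (hea : 2 ≤ ea) (heb : 2 ≤ eb) (hma : h = ea * ma)
    (hmb : h = eb * 2 * mb) (hsum : ma * (ea - 1) + mb * (eb - 1) + 1 = h) :
    (ea = 2 ∧ h = 2 * eb) ∨ (ea = 3 ∧ h = 12) := by
  obtain ⟨a, rfl⟩ : ∃ a, ea = a + 2 := ⟨ea - 2, by omega⟩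
  obtain ⟨b, rfl⟩ : ∃ b, eb = b + 2 := ⟨eb - 2, by omega⟩
  have e1 : a + 2 - 1 = a + 1 := by omega
  have e2 : b + 2 - 1 = b + 1 := by omega
  rw [e1, e2] at hsum
  have hkey : mb * b + mb + 1 = ma := by nlinarith
  rcases Nat.lt_or_ge a 2 with ha | ha
  · interval_cases a
    · left
      refine ⟨rfl, ?_⟩
      have : mb = 1 := by nlinarith
      subst this
      omega
    · right
      refine ⟨rfl, ?_⟩
      have h3 : mb * b + 3 = mb := by nlinarith
      have hb : b = 0 := by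
        by_contra hb
        have : mb ≤ mb * b := Nat.le_mul_of_pos_right mb (Nat.pos_of_ne_zero hb)
        omega
      subst hb
      have : mb = 3 := by omega
      subst this
      omega
  · exfalso
    have h4 : 4 * ma ≤ a * ma + 2 * ma := by nlinarith
    nlinarith

theorem two_class (h ea fa ma eb fb mb : ℕ) (hea : 2 ≤ ea) (heb : 2 ≤ eb)
    (hfa : fa = 1 ∨ fa = 2) (hfb : fb = 1 ∨ fb = 2) (hma : h = ea * fa * ma)
    (hmb : h = eb * fb * mb) (hsum : ma * (ea - 1) + mb * (eb - 1) + 1 = h) :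
    (fa = 1 ∧ fb = 2 ∧ ((ea = 2 ∧ h = 2 * eb) ∨ (ea = 3 ∧ h = 12))) ∨
    (fa = 2 ∧ fb = 1 ∧ ((eb = 2 ∧ h = 2 * ea) ∨ (eb = 3 ∧ h = 12))) := by
  rcases hfa with rfl | rfl <;> rcases hfb with rfl | rfl
  · exfalso
    obtain ⟨a, rfl⟩ : ∃ a, ea = a + 2 := ⟨ea - 2, by omega⟩
    obtain ⟨b, rfl⟩ : ∃ b, eb = b + 2 := ⟨eb - 2, by omega⟩
    have e1 : a + 2 - 1 = a + 1 := by omega
    have e2 : b + 2 - 1 = b + 1 := by omega
    rw [e1, e2] at hsum
    nlinarith [Nat.zero_le (a * ma), Nat.zero_le (b * mb)]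
  · left
    exact ⟨rfl, rfl, two_12 h ea ma eb mb hea heb (by rw [hma]; ring) hmb hsum⟩
  · right
    exact ⟨rfl, rfl, two_12 h eb mb ea ma heb hea (by rw [hmb]; ring) hma (by omega)⟩
  · exfalso
    obtain ⟨a, rfl⟩ : ∃ a, ea = a + 2 := ⟨ea - 2, by omega⟩
    obtain ⟨b, rfl⟩ : ∃ b, eb = b + 2 := ⟨eb - 2, by omega⟩
    have e1 : a + 2 - 1 = a + 1 := by omega
    have e2 : b + 2 - 1 = b + 1 := by omega
    rw [e1, e2] at hsum
    have hma1 : 1 ≤ ma := by
      by_contra hc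
      have : ma = 0 := by omega
      subst this
      nlinarith
    have hmb1 : 1 ≤ mb := by
      by_contra hc
      have : mb = 0 := by omega
      subst this
      nlinarith
    nlinarith

theorem three_a2b3 (N ec ma mb mc : ℕ) (hNa : N = 2 * ma) (hNb : N = 3 * mb) (hNc : N = ec * mc)
    (hs : ma + 1 = mb + mc) (hec : 3 ≤ ec) :
    (ec = 3 ∧ N = 6) ∨ (ec = 4 ∧ N = 12) ∨ (ec = 5 ∧ N = 30) := by
  have h6 : 6 * mc = N + 6 := by omega
  have hle : ec ≤ 5 := by
    by_contra hc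
    have : 6 * mc ≤ ec * mc := Nat.mul_le_mul_right mc (by omega)
    omega
  interval_cases ec <;> omega

theorem three_a2 (N eb ec ma mb mc : ℕ) (heb : 2 ≤ eb) (hec : 2 ≤ ec) (hNa : N = 2 * ma)
    (hNb : N = eb * mb) (hNc : N = ec * mc) (hs : ma + 1 = mb + mc) :
    (mb = 1 ∨ mc = 1) ∨
    (eb = 3 ∧ ((ec = 3 ∧ N = 6) ∨ (ec = 4 ∧ N = 12) ∨ (ec = 5 ∧ N = 30))) ∨
    (ec = 3 ∧ ((eb = 3 ∧ N = 6) ∨ (eb = 4 ∧ N = 12) ∨ (eb = 5 ∧ N = 30))) := by
  by_cases hb2 : eb = 2
  · subst hb2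
    left; right; omega
  by_cases hc2 : ec = 2
  · subst hc2
    left; left; omega
  by_cases hb3 : eb = 3
  · subst hb3
    right; left
    exact ⟨rfl, three_a2b3 N ec ma mb mc hNa hNb hNc hs (by omega)⟩
  by_cases hc3 : ec = 3
  · subst hc3
    right; right
    exact ⟨rfl, three_a2b3 N eb ma mc mb hNa hNc hNb (by omega) (by omega)⟩
  exfalso
  have h1 : 4 * mb ≤ eb * mb := Nat.mul_le_mul_right mb (by omega)
  have h2 : 4 * mc ≤ ec * mc := Nat.mul_le_mul_right mc (by omega)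
  omega

theorem three_core (N ea eb ec ma mb mc : ℕ) (hea : 2 ≤ ea) (heb : 2 ≤ eb) (hec : 2 ≤ ec)
    (hNa : N = ea * ma) (hNb : N = eb * mb) (hNc : N = ec * mc) (hs : N + 1 = ma + mb + mc) :
    (ma = 1 ∨ mb = 1 ∨ mc = 1) ∨ (N = 6 ∧ (ea = 3 ∨ eb = 3 ∨ ec = 3)) ∨
    (N = 12 ∧ (ea = 3 ∨ eb = 3 ∨ ec = 3)) ∨
    (N = 30 ∧ ((ea = 2 ∧ eb = 3 ∧ ec = 5) ∨ (ea = 2 ∧ eb = 5 ∧ ec = 3) ∨
      (ea = 3 ∧ eb = 2 ∧ ec = 5) ∨ (ea = 3 ∧ eb = 5 ∧ ec = 2) ∨
      (ea = 5 ∧ eb = 2 ∧ ec = 3) ∨ (ea = 5 ∧ eb = 3 ∧ ec = 2))) := by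
  by_cases ha2 : ea = 2
  · subst ha2
    rcases three_a2 N eb ec ma mb mc heb hec hNa hNb hNc (by omega) with
      (h | h) | ⟨rfl, ⟨rfl, h⟩ | ⟨rfl, h⟩ | ⟨rfl, h⟩⟩ | ⟨rfl, ⟨rfl, h⟩ | ⟨rfl, h⟩ | ⟨rfl, h⟩⟩
    · exact Or.inl (Or.inr (Or.inl h))
    · exact Or.inl (Or.inr (Or.inr h))
    · exact Or.inr (Or.inl ⟨h, Or.inr (Or.inl rfl)⟩)
    · exact Or.inr (Or.inr (Or.inl ⟨h, Or.inr (Or.inl rfl)⟩))
    · exact Or.inr (Or.inr (Or.inr ⟨h, Or.inl ⟨rfl, rfl, rfl⟩⟩))
    · exact Or.inr (Or.inl ⟨h, Or.inr (Or.inl rfl)⟩)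
    · exact Or.inr (Or.inr (Or.inl ⟨h, Or.inr (Or.inr rfl)⟩))
    · exact Or.inr (Or.inr (Or.inr ⟨h, Or.inr (Or.inl ⟨rfl, rfl, rfl⟩)⟩))
  by_cases hb2 : eb = 2
  · subst hb2
    rcases three_a2 N ea ec mb ma mc hea hec hNb hNa hNc (by omega) with
      (h | h) | ⟨rfl, ⟨rfl, h⟩ | ⟨rfl, h⟩ | ⟨rfl, h⟩⟩ | ⟨rfl, ⟨rfl, h⟩ | ⟨rfl, h⟩ | ⟨rfl, h⟩⟩
    · exact Or.inl (Or.inl h)
    · exact Or.inl (Or.inr (Or.inr h))
    · exact Or.inr (Or.inl ⟨h, Or.inl rfl⟩)
    · exact Or.inr (Or.inr (Or.inl ⟨h, Or.inl rfl⟩))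
    · exact Or.inr (Or.inr (Or.inr ⟨h, Or.inr (Or.inr (Or.inl ⟨rfl, rfl, rfl⟩))⟩))
    · exact Or.inr (Or.inl ⟨h, Or.inl rfl⟩)
    · exact Or.inr (Or.inr (Or.inl ⟨h, Or.inr (Or.inr rfl)⟩))
    · exact Or.inr (Or.inr (Or.inr ⟨h, Or.inr (Or.inr (Or.inr (Or.inr (Or.inl ⟨rfl, rfl, rfl⟩))))⟩))
  by_cases hc2 : ec = 2
  · subst hc2
    rcases three_a2 N ea eb mc ma mb hea heb hNc hNa hNb (by omega) with
      (h | h) | ⟨rfl, ⟨rfl, h⟩ | ⟨rfl, h⟩ | ⟨rfl, h⟩⟩ | ⟨rfl, ⟨rfl, h⟩ | ⟨rfl, h⟩ | ⟨rfl, h⟩⟩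
    · exact Or.inl (Or.inl h)
    · exact Or.inl (Or.inr (Or.inl h))
    · exact Or.inr (Or.inl ⟨h, Or.inl rfl⟩)
    · exact Or.inr (Or.inr (Or.inl ⟨h, Or.inl rfl⟩))
    · exact Or.inr (Or.inr (Or.inr ⟨h, Or.inr (Or.inr (Or.inr (Or.inl ⟨rfl, rfl, rfl⟩)))⟩))
    · exact Or.inr (Or.inl ⟨h, Or.inl rfl⟩)
    · exact Or.inr (Or.inr (Or.inl ⟨h, Or.inr (Or.inl rfl)⟩))
    · exact Or.inr (Or.inr (Or.inr ⟨h, Or.inr (Or.inr (Or.inr (Or.inr (Or.inr ⟨rfl, rfl, rfl⟩))))⟩))
  exfalso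
  have h1 : 3 * ma ≤ ea * ma := Nat.mul_le_mul_right ma (by omega)
  have h2 : 3 * mb ≤ eb * mb := Nat.mul_le_mul_right mb (by omega)
  have h3 : 3 * mc ≤ ec * mc := Nat.mul_le_mul_right mc (by omega)
  omega

theorem mul_pred_add {m e : ℕ} (he : 2 ≤ e) : m * (e - 1) + m = e * m := by
  obtain ⟨e', rfl⟩ : ∃ e', e = e' + 1 := ⟨e - 1, by omega⟩
  rw [Nat.add_sub_cancel]; ring

theorem fin3_acb {ι : Type*} [DecidableEq ι] (a b c : ι) : ({a, b, c} : Finset ι) = {a, c, b} := by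
  ext t; simp only [Finset.mem_insert, Finset.mem_singleton]; tauto

theorem fin3_bac {ι : Type*} [DecidableEq ι] (a b c : ι) : ({a, b, c} : Finset ι) = {b, a, c} := by
  ext t; simp only [Finset.mem_insert, Finset.mem_singleton]; tauto

theorem fin3_cab {ι : Type*} [DecidableEq ι] (a b c : ι) : ({a, b, c} : Finset ι) = {c, a, b} := by
  ext t; simp only [Finset.mem_insert, Finset.mem_singleton]; tauto

theorem fin3_bca {ι : Type*} [DecidableEq ι] (a b c : ι) : ({a, b, c} : Finset ι) = {b, c, a} := by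
  ext t; simp only [Finset.mem_insert, Finset.mem_singleton]; tauto

theorem fin3_cba {ι : Type*} [DecidableEq ι] (a b c : ι) : ({a, b, c} : Finset ι) = {c, b, a} := by
  ext t; simp only [Finset.mem_insert, Finset.mem_singleton]; tauto

/-- The class equation when all classes are semisimple. -/
theorem numS {ι : Type*} [DecidableEq ι] (T : Finset ι) (e f : ι → ℕ) (h : ℕ) (h1 : 1 ≤ h)
    (he : ∀ i ∈ T, 2 ≤ e i) (hf : ∀ i ∈ T, f i = 1 ∨ f i = 2) (hd : ∀ i ∈ T, e i * f i ∣ h)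
    (hsum : ∑ i ∈ T, h / (e i * f i) * (e i - 1) + 1 = h) :
    (T = ∅ ∧ h = 1) ∨ (∃ i ∈ T, f i = 1 ∧ h = e i) ∨ (∃ i ∈ T, f i = 2 ∧ h = 2 * e i) ∨
    (h = 12 ∧ ∃ i ∈ T, e i = 3) ∨ (h = 24 ∧ ∃ i ∈ T, e i = 3 ∧ f i = 2) ∨
    (h = 60 ∧ ∃ i j k, T = {i, j, k} ∧ e i = 2 ∧ f i = 2 ∧ e j = 3 ∧ f j = 2 ∧
      e k = 5 ∧ f k = 2) := by
  have hcard : T.card ≤ 3 := by
    by_contra hc
    push Not at hc
    have h4 : ∑ i ∈ T, h ≤ ∑ i ∈ T, 4 * (h / (e i * f i) * (e i - 1)) :=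
      Finset.sum_le_sum (fun i hi => (w_ge (he i hi) (hf i hi) (hd i hi)).1)
    rw [Finset.sum_const, smul_eq_mul, ← Finset.mul_sum] at h4
    nlinarith
  rcases Nat.lt_or_ge T.card 1 with h0 | h0
  · have hc0 : T.card = 0 := by omega
    have : T = ∅ := Finset.card_eq_zero.1 hc0
    left
    subst this
    simp at hsum
    exact ⟨rfl, hsum.symm⟩
  rcases Nat.lt_or_ge T.card 2 with h0' | h0'
  · have hc1 : T.card = 1 := by omega
    obtain ⟨a, rfl⟩ := Finset.card_eq_one.1 hc1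
    rw [Finset.sum_singleton] at hsum
    have ha : a ∈ ({a} : Finset ι) := by simp
    obtain ⟨m, hm⟩ := hd a ha
    rw [w_eq (he a ha) (hf a ha) hm] at hsum
    have := one_class h (e a) (f a) m (he a ha) (hf a ha) hm hsum
    right; left
    exact ⟨a, ha, this.1, this.2⟩
  rcases Nat.lt_or_ge T.card 3 with h0'' | h0''
  · have hc2 : T.card = 2 := by omega
    obtain ⟨a, b, hab, rfl⟩ := Finset.card_eq_two.1 hc2
    rw [Finset.sum_pair hab] at hsum
    have ha : a ∈ ({a, b} : Finset ι) := by simp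
    have hb : b ∈ ({a, b} : Finset ι) := by simp
    obtain ⟨ma, hma⟩ := hd a ha
    obtain ⟨mb, hmb⟩ := hd b hb
    rw [w_eq (he a ha) (hf a ha) hma, w_eq (he b hb) (hf b hb) hmb] at hsum
    rcases two_class h (e a) (f a) ma (e b) (f b) mb (he a ha) (he b hb) (hf a ha) (hf b hb)
      hma hmb hsum with ⟨h1', h2', h3' | h3'⟩ | ⟨h1', h2', h3' | h3'⟩
    · right; right; left; exact ⟨b, hb, h2', h3'.2⟩
    · right; right; right; left; exact ⟨h3'.2, a, ha, h3'.1⟩
    · right; right; left; exact ⟨a, ha, h1', h3'.2⟩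
    · right; right; right; left; exact ⟨h3'.2, b, hb, h3'.1⟩
  · have hc3 : T.card = 3 := by omega
    obtain ⟨a, b, c, hab, hac, hbc, rfl⟩ := Finset.card_eq_three.1 hc3
    have ha : a ∈ ({a, b, c} : Finset ι) := by simp
    have hb : b ∈ ({a, b, c} : Finset ι) := by simp
    have hc : c ∈ ({a, b, c} : Finset ι) := by simp
    rw [Finset.sum_insert (by simp [hab, hac]), Finset.sum_pair hbc] at hsum
    obtain ⟨ma, hma⟩ := hd a ha
    obtain ⟨mb, hmb⟩ := hd b hb
    obtain ⟨mc, hmc⟩ := hd c hc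
    have wa := w_ge (he a ha) (hf a ha) (hd a ha)
    have wb := w_ge (he b hb) (hf b hb) (hd b hb)
    have wc := w_ge (he c hc) (hf c hc) (hd c hc)
    have hfa : f a = 2 := by
      rcases hf a ha with h | h
      · have := wa.2 h; omega
      · exact h
    have hfb : f b = 2 := by
      rcases hf b hb with h | h
      · have := wb.2 h; omega
      · exact h
    have hfc : f c = 2 := by
      rcases hf c hc with h | h
      · have := wc.2 h; omega
      · exact h
    rw [w_eq (he a ha) (hf a ha) hma, w_eq (he b hb) (hf b hb) hmb,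
      w_eq (he c hc) (hf c hc) hmc] at hsum
    rw [hfa] at hma
    rw [hfb] at hmb
    rw [hfc] at hmc
    have ea := mul_pred_add (m := ma) (he a ha)
    have eb := mul_pred_add (m := mb) (he b hb)
    have ec := mul_pred_add (m := mc) (he c hc)
    have hNa : h = 2 * (e a * ma) := by rw [hma]; ring
    have hNb : e a * ma = e b * mb := by
      have : 2 * (e a * ma) = 2 * (e b * mb) := by rw [← hNa, hmb]; ring
      omega
    have hNc : e a * ma = e c * mc := by
      have : 2 * (e a * ma) = 2 * (e c * mc) := by rw [← hNa, hmc]; ring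
      omega
    have hs : e a * ma + 1 = ma + mb + mc := by omega
    rcases three_core (e a * ma) (e a) (e b) (e c) ma mb mc (he a ha) (he b hb) (he c hc) rfl hNb hNc
      hs with (hm1 | hm1 | hm1) | ⟨hN, h3⟩ | ⟨hN, h3⟩ | ⟨hN, h3⟩
    · right; right; left
      refine ⟨a, ha, hfa, ?_⟩
      rw [hNa, hm1, mul_one]
    · right; right; left
      refine ⟨b, hb, hfb, ?_⟩
      rw [hNa, hNb, hm1, mul_one]
    · right; right; left
      refine ⟨c, hc, hfc, ?_⟩
      rw [hNa, hNc, hm1, mul_one]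
    · right; right; right; left
      refine ⟨by omega, ?_⟩
      rcases h3 with h3 | h3 | h3
      · exact ⟨a, ha, h3⟩
      · exact ⟨b, hb, h3⟩
      · exact ⟨c, hc, h3⟩
    · right; right; right; right; left
      refine ⟨by omega, ?_⟩
      rcases h3 with h3 | h3 | h3
      · exact ⟨a, ha, h3, hfa⟩
      · exact ⟨b, hb, h3, hfb⟩
      · exact ⟨c, hc, h3, hfc⟩
    · right; right; right; right; right
      refine ⟨by omega, ?_⟩
      rcases h3 with ⟨h2, h3, h5⟩ | ⟨h2, h5, h3⟩ | ⟨h3, h2, h5⟩ | ⟨h3, h5, h2⟩ | ⟨h5, h2, h3⟩ |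
        ⟨h5, h3, h2⟩
      · exact ⟨a, b, c, rfl, h2, hfa, h3, hfb, h5, hfc⟩
      · exact ⟨a, c, b, fin3_acb a b c, h2, hfa, h3, hfc, h5, hfb⟩
      · exact ⟨b, a, c, fin3_bac a b c, h2, hfb, h3, hfa, h5, hfc⟩
      · exact ⟨c, a, b, fin3_cab a b c, h2, hfc, h3, hfa, h5, hfb⟩
      · exact ⟨b, c, a, fin3_bca a b c, h2, hfb, h3, hfc, h5, hfa⟩
      · exact ⟨c, b, a, fin3_cba a b c, h2, hfc, h3, hfb, h5, hfa⟩

/-- Even-`q` Diophantine step. -/
theorem num_even (q t s e : ℕ) (hq : Even q) (ht : 2 ≤ t) (htq : t + 1 ≤ q) (hs : q + 1 ≤ s)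
    (he : 2 ≤ e) (h : e * (s * (q - 2) + 2) = s * q * t) : s = q + 1 := by
  obtain ⟨r, rfl⟩ := hq
  obtain ⟨r', rfl⟩ : ∃ r', r = r' + 1 := ⟨r - 1, by omega⟩
  have e1 : r' + 1 + (r' + 1) - 2 = 2 * r' := by omega
  rw [e1] at h
  have h' : e * (s * r' + 1) = s * ((r' + 1) * t) := by nlinarith
  have hcop : Nat.Coprime s (s * r' + 1) := by simp
  have hdvd : s ∣ e := by
    apply hcop.dvd_of_dvd_mul_right
    rw [h']; exact dvd_mul_right _ _
  obtain ⟨k, rfl⟩ := hdvd
  have hspos : 0 < s := by omega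
  have h'' : k * (s * r' + 1) = (r' + 1) * t := by
    have : s * (k * (s * r' + 1)) = s * ((r' + 1) * t) := by rw [← h']; ring
    exact Nat.eq_of_mul_eq_mul_left hspos this
  have hk : 1 ≤ k := by
    by_contra hk
    have : k = 0 := by omega
    subst this
    simp at he
  have h1 : (r' + 1) * t ≤ (r' + 1) * (2 * r' + 1) := Nat.mul_le_mul_left _ (by omega)
  have h2 : (2 * r' + 3) * r' ≤ s * r' := Nat.mul_le_mul_right _ (by omega)
  have h3 : s * r' + 1 ≤ k * (s * r' + 1) := Nat.le_mul_of_pos_left _ hk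
  have h4 : s * r' = (2 * r' + 3) * r' := by nlinarith
  have hr' : 0 < r' := by omega
  have := Nat.eq_of_mul_eq_mul_right hr' h4
  omega

/-- The class equation in the presence of a unipotent class. -/
theorem numU {ι : Type*} [DecidableEq ι] (T : Finset ι) (e f : ι → ℕ) (h s q t : ℕ) (hq : 2 ≤ q)
    (ht1 : 1 ≤ t) (htq : t + 1 ≤ q) (hs : q + 1 ≤ s) (hh : h = s * q * t)
    (he : ∀ i ∈ T, 2 ≤ e i) (hf : ∀ i ∈ T, f i = 1 ∨ f i = 2) (hd : ∀ i ∈ T, e i * f i ∣ h)
    (hsum : ∑ i ∈ T, h / (e i * f i) * (e i - 1) + s * (q - 1) + 1 = h)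
    (hi₀ : 2 ≤ t → ∃ i ∈ T, e i = t) :
    s = q + 1 ∨ (q = 2 ∧ ∃ i ∈ T, f i = 2 ∧ h = 2 * e i) ∨
    (q = 3 ∧ t = 2 ∧ h = 60 ∧ ∃ i j, T = {i, j} ∧ e i = 2 ∧ f i = 2 ∧ e j = 5 ∧ f j = 2) := by
  obtain ⟨q', rfl⟩ : ∃ q', q = q' + 1 := ⟨q - 1, by omega⟩
  rw [Nat.add_sub_cancel] at hsum
  have hw4 : ∀ i ∈ T, h ≤ 4 * (h / (e i * f i) * (e i - 1)) :=
    fun i hi => (w_ge (he i hi) (hf i hi) (hd i hi)).1
  have hw2 : ∀ i ∈ T, f i = 1 → h ≤ 2 * (h / (e i * f i) * (e i - 1)) :=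
    fun i hi => (w_ge (he i hi) (hf i hi) (hd i hi)).2
  by_cases ht : t = 1
  · subst ht
    rw [mul_one] at hh
    have e0 : s * (q' + 1) = s * q' + s := by ring
    have hR : ∑ i ∈ T, h / (e i * f i) * (e i - 1) + 1 = s := by omega
    have hne : T.Nonempty := by
      by_contra hne
      rw [Finset.not_nonempty_iff_eq_empty] at hne
      rw [hne] at hR
      simp at hR
      omega
    obtain ⟨i, hi⟩ := hne
    have hwi : h / (e i * f i) * (e i - 1) ≤ ∑ i ∈ T, h / (e i * f i) * (e i - 1) :=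
      Finset.single_le_sum (f := fun i => h / (e i * f i) * (e i - 1)) (fun _ _ => Nat.zero_le _) hi
    have h4 := hw4 i hi
    have hq4 : q' + 1 < 4 := by
      by_contra hc
      have : s * 4 ≤ s * (q' + 1) := Nat.mul_le_mul_left s (by omega)
      omega
    have hT : T = {i} := by
      rw [Finset.eq_singleton_iff_unique_mem]
      refine ⟨hi, fun j hj => ?_⟩
      by_contra hji
      have hsub : ({i, j} : Finset ι) ⊆ T := by
        intro x hx
        rcases Finset.mem_insert.1 hx with rfl | hx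
        · exact hi
        · rw [Finset.mem_singleton] at hx; rw [hx]; exact hj
      have hle := Finset.sum_le_sum_of_subset (f := fun i => h / (e i * f i) * (e i - 1)) hsub
      rw [Finset.sum_pair (Ne.symm hji)] at hle
      have h4' := hw4 j hj
      have : s * 2 ≤ s * (q' + 1) := Nat.mul_le_mul_left s (by omega)
      omega
    subst hT
    rw [Finset.sum_singleton] at hR
    have hfi : f i = 2 := by
      rcases hf i hi with h1 | h1
      · have h2 := hw2 i hi h1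
        have : s * 2 ≤ s * (q' + 1) := Nat.mul_le_mul_left s (by omega)
        omega
      · exact h1
    obtain ⟨m, hm⟩ := hd i hi
    rw [w_eq (he i hi) (hf i hi) hm] at hR
    rw [hfi] at hm
    have hmp := mul_pred_add (m := m) (he i hi)
    have hq' : q' = 1 ∨ q' = 2 := by omega
    rcases hq' with rfl | rfl
    · right; left
      refine ⟨rfl, i, hi, hfi, ?_⟩
      have e2 : e i * 2 * m = 2 * (e i * m) := by ring
      have h1 : s = e i * m := by omega
      have hm1 : m = 1 := by omega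
      rw [hm, hm1]; ring
    · left
      have e2 : e i * 2 * m = 2 * (e i * m) := by ring
      have h1 : 3 * s = 2 * (e i * m) := by omega
      have h2 : m * (e i - 1) + 3 = 2 * m := by omega
      have he2 : e i = 2 := by
        by_contra hne
        have h3 : 3 ≤ e i := by have := he i hi; omega
        have : m * 2 ≤ m * (e i - 1) := Nat.mul_le_mul_left m (by omega)
        omega
      rw [he2] at h2
      omega
  · have ht2 : 2 ≤ t := by omega
    obtain ⟨i₀, hi₀T, hei₀⟩ := hi₀ ht2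
    obtain ⟨m₀, hm₀⟩ := hd i₀ hi₀T
    have hsplit := Finset.add_sum_erase T (fun i => h / (e i * f i) * (e i - 1)) hi₀T
    rw [← hsplit, w_eq (he i₀ hi₀T) (hf i₀ hi₀T) hm₀] at hsum
    rw [hei₀] at hm₀ hsum
    have hmp := mul_pred_add (m := m₀) ht2
    have htpos : 0 < t := by omega
    have hw4' : ∀ j ∈ T.erase i₀, h ≤ 4 * (h / (e j * f j) * (e j - 1)) :=
      fun j hj => hw4 j (Finset.mem_of_mem_erase hj)
    have hqt : s * 4 ≤ s * (q' + 1) * t := by
      have : 4 ≤ (q' + 1) * t := by nlinarith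
      calc s * 4 ≤ s * ((q' + 1) * t) := Nat.mul_le_mul_left s this
        _ = s * (q' + 1) * t := by ring
    rcases hf i₀ hi₀T with hf₀ | hf₀
    · exfalso
      rw [hf₀, mul_one] at hm₀
      have hm₀' : m₀ = s * (q' + 1) := by
        have : t * m₀ = t * (s * (q' + 1)) := by rw [← hm₀, hh]; ring
        exact Nat.eq_of_mul_eq_mul_left htpos this
      have e0 : s * (q' + 1) = s * q' + s := by ring
      have hR' : ∑ x ∈ T.erase i₀, h / (e x * f x) * (e x - 1) + 1 = s := by omega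
      by_cases hne : (T.erase i₀).Nonempty
      · obtain ⟨j, hj⟩ := hne
        have hwj : h / (e j * f j) * (e j - 1) ≤ ∑ x ∈ T.erase i₀, h / (e x * f x) * (e x - 1) :=
          Finset.single_le_sum (f := fun i => h / (e i * f i) * (e i - 1))
            (fun _ _ => Nat.zero_le _) hj
        have h4 := hw4' j hj
        omega
      · rw [Finset.not_nonempty_iff_eq_empty] at hne
        rw [hne] at hR'
        simp at hR'
        omega
    · rw [hf₀] at hm₀
      have hm₀' : 2 * m₀ = s * (q' + 1) := by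
        have : t * (2 * m₀) = t * (s * (q' + 1)) := by
          calc t * (2 * m₀) = t * 2 * m₀ := by ring
            _ = h := hm₀.symm
            _ = t * (s * (q' + 1)) := by rw [hh]; ring
        exact Nat.eq_of_mul_eq_mul_left htpos this
      have e0 : s * (q' + 1) = s * q' + s := by ring
      have e3 : t * 2 * m₀ = 2 * (t * m₀) := by ring
      have hR' : 2 * ∑ x ∈ T.erase i₀, h / (e x * f x) * (e x - 1) + 2 + s * (q' + 1) =
          h + 2 * s := by omega
      have hs2 : s * 2 ≤ s * (q' + 1) := Nat.mul_le_mul_left s (by omega)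
      have hne : (T.erase i₀).Nonempty := by
        by_contra hne
        rw [Finset.not_nonempty_iff_eq_empty] at hne
        rw [hne] at hR'
        simp at hR'
        have : s * (q' + 1) * 2 ≤ s * (q' + 1) * t := Nat.mul_le_mul_left _ ht2
        omega
      obtain ⟨j, hj⟩ := hne
      have hjT := Finset.mem_of_mem_erase hj
      have hwj : h / (e j * f j) * (e j - 1) ≤ ∑ x ∈ T.erase i₀, h / (e x * f x) * (e x - 1) :=
        Finset.single_le_sum (f := fun i => h / (e i * f i) * (e i - 1))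
          (fun _ _ => Nat.zero_le _) hj
      have hfj : f j = 2 := by
        rcases hf j hjT with h1 | h1
        · have h2 := hw2 j hjT h1
          omega
        · exact h1
      have hT' : T.erase i₀ = {j} := by
        rw [Finset.eq_singleton_iff_unique_mem]
        refine ⟨hj, fun k hk => ?_⟩
        by_contra hkj
        have hsub : ({j, k} : Finset ι) ⊆ T.erase i₀ := by
          intro x hx
          rcases Finset.mem_insert.1 hx with rfl | hx
          · exact hj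
          · rw [Finset.mem_singleton] at hx; rw [hx]; exact hk
        have hle := Finset.sum_le_sum_of_subset (f := fun i => h / (e i * f i) * (e i - 1)) hsub
        rw [Finset.sum_pair (Ne.symm hkj)] at hle
        have h4 := hw4' j hj
        have h4' := hw4' k hk
        omega
      have hTeq : T = {i₀, j} := by
        rw [← Finset.insert_erase hi₀T, hT']
      rw [hT', Finset.sum_singleton] at hR'
      obtain ⟨m, hm⟩ := hd j hjT
      rw [w_eq (he j hjT) (hf j hjT) hm] at hR'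
      rw [hfj] at hm
      have hmp' := mul_pred_add (m := m) (he j hjT)
      have e4 : e j * 2 * m = 2 * (e j * m) := by ring
      have h2m : 2 * m + 2 * s = s * (q' + 1) + 2 := by omega
      have heq : e j * (s * (q' + 1 - 2) + 2) = s * (q' + 1) * t := by
        have e1 : s * (q' + 1 - 2) + 2 = 2 * m := by
          obtain ⟨q'', rfl⟩ : ∃ q'', q' = q'' + 1 := ⟨q' - 1, by omega⟩
          have : q'' + 1 + 1 - 2 = q'' := by omega
          rw [this]
          have e5 : s * (q'' + 1 + 1) = s * q'' + 2 * s := by ring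
          omega
        rw [e1, ← hh, hm]; ring
      rcases Nat.even_or_odd (q' + 1) with hev | hodd
      · left
        exact num_even (q' + 1) t s (e j) hev ht2 htq hs (he j hjT) heq
      · have hq3 : 3 ≤ q' + 1 := by
          rcases hodd with ⟨r, hr⟩
          omega
        have hz : ((e j : ℕ) : ℤ) * ((s : ℤ) * (((q' + 1 : ℕ) : ℤ) - 2) + 2) =
            (s : ℤ) * ((q' + 1 : ℕ) : ℤ) * (t : ℤ) := by
          have := congrArg (Nat.cast : ℕ → ℤ) heq
          push_cast [Nat.cast_sub (show 2 ≤ q' + 1 by omega), Nat.cast_sub (show 1 ≤ q' by omega)] at this ⊢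
          linarith
        have hoddz : Odd (((q' + 1 : ℕ) : ℤ)) := by exact_mod_cast hodd
        rcases Cfsg.Agent.H29.Dk.num1 ((q' + 1 : ℕ) : ℤ) (t : ℤ) (s : ℤ) ((e j : ℕ) : ℤ)
          (by exact_mod_cast hq3) hoddz (by exact_mod_cast ht1) (by exact_mod_cast htq)
          (by exact_mod_cast hs) (by exact_mod_cast he j hjT) hz with h1 | ⟨h1, h2⟩
        · left; exact_mod_cast h1
        · right; right
          have hq3' : q' + 1 = 3 := by exact_mod_cast h1
          have hs10 : s = 10 := by exact_mod_cast h2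
          have ht2' : t = 2 := by omega
          subst hs10 ht2'
          have hq'2 : q' = 2 := by omega
          subst hq'2
          have hh60 : h = 60 := by rw [hh]
          have hej : e j = 5 := by
            norm_num at heq
            omega
          exact ⟨rfl, rfl, hh60, i₀, j, hTeq, hei₀, hf₀, hej, hfj⟩

end Cfsg.Agent.H18.Dk
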