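import Mathlib
import Cfsg.Agent.H18.DkMk
import Cfsg.Agent.H18.DkNum

/-!
# Dickson's theorem: subgroups without unipotent elements (helper18)
-/

set_option autoImplicit false
set_option linter.unusedSectionVars false
set_option linter.unusedVariables false
set_option linter.deprecated false
set_option linter.unusedSimpArgs false

namespace Cfsg.Agent.H18.Dk

open Matrix Cfsg.Agent.H65.SL2 Cfsg.Agent.H29.Dk

variable {F : Type*} [Field F] [Fintype F] (L : Subgroup (Matrix.SpecialLinearGroup (Fin 2) F))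

/-- Normalised centraliser order. -/
noncomputable def eC (x : Matrix.SpecialLinearGroup (Fin 2) F) : ℕ :=
  Nat.card (Cen L x) / Nat.card (Ze : Subgroup (Matrix.SpecialLinearGroup (Fin 2) F))

/-- Index of the centraliser in its normaliser. -/
noncomputable def fC (x : Matrix.SpecialLinearGroup (Fin 2) F) : ℕ :=
  Nat.card (Nb L x) / Nat.card (Cen L x)

/-- Normalised group order. -/
noncomputable def hC : ℕ :=
  Nat.card L / Nat.card (Ze : Subgroup (Matrix.SpecialLinearGroup (Fin 2) F))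

theorem card_L_eq (hZL : (Ze : Subgroup _) ≤ L) :
    Nat.card L = Nat.card (Ze : Subgroup (Matrix.SpecialLinearGroup (Fin 2) F)) * hC L :=
  (Nat.mul_div_cancel' (Subgroup.card_dvd_of_le hZL)).symm

theorem hC_pos (hZL : (Ze : Subgroup _) ≤ L) : 1 ≤ hC L := by
  have h := card_L_eq L hZL
  have h1 : 0 < Nat.card L := Nat.card_pos
  by_contra h0
  have : hC L = 0 := by omega
  rw [this, mul_zero] at h
  omega

theorem Ze_le_Cen (hZL : (Ze : Subgroup _) ≤ L) (x : Matrix.SpecialLinearGroup (Fin 2) F) :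
    (Ze : Subgroup _) ≤ Cen L x := fun ζ hζ => mem_Cen.2 ⟨hZL hζ, (Ze_comm hζ x).symm⟩

theorem card_Ze_dvd_two :
    Nat.card (Ze : Subgroup (Matrix.SpecialLinearGroup (Fin 2) F)) ∣ 2 := by
  rw [card_Ze]; exact Nat.gcd_dvd_left _ _

theorem cls_weight (hZL : (Ze : Subgroup _) ≤ L) {x : Matrix.SpecialLinearGroup (Fin 2) F}
    (hx : x ∈ L) (hxZ : x ∉ (Ze : Subgroup _)) (htr : tr x ^ 2 ≠ 4) :
    2 ≤ eC L x ∧ (fC L x = 1 ∨ fC L x = 2) ∧ eC L x * fC L x ∣ hC L ∧
      Nat.card (Cen L x) = Nat.card (Ze : Subgroup (Matrix.SpecialLinearGroup (Fin 2) F)) * eC L x ∧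
      Nat.card (Nb L x) =
        Nat.card (Ze : Subgroup (Matrix.SpecialLinearGroup (Fin 2) F)) * eC L x * fC L x ∧
      (Ob L Ze x).ncard = Nat.card (Ze : Subgroup (Matrix.SpecialLinearGroup (Fin 2) F)) *
        (hC L / (eC L x * fC L x) * (eC L x - 1)) := by
  have hzpos : 0 < Nat.card (Ze : Subgroup (Matrix.SpecialLinearGroup (Fin 2) F)) := Nat.card_pos
  have hZC := Ze_le_Cen L hZL x
  have hcen : Nat.card (Cen L x) =
      Nat.card (Ze : Subgroup (Matrix.SpecialLinearGroup (Fin 2) F)) * eC L x :=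
    (Nat.mul_div_cancel' (Subgroup.card_dvd_of_le hZC)).symm
  have hcpos : 0 < Nat.card (Cen L x) := Nat.card_pos
  have he2 : 2 ≤ eC L x := by
    by_contra hlt
    have hle : eC L x ≤ 1 := by omega
    have h1 : Nat.card (Cen L x) ≤ Nat.card (Ze : Subgroup (Matrix.SpecialLinearGroup (Fin 2) F)) := by
      rw [hcen]
      calc _ ≤ Nat.card (Ze : Subgroup (Matrix.SpecialLinearGroup (Fin 2) F)) * 1 :=
            Nat.mul_le_mul_left _ hle
        _ = _ := mul_one _
    have heq := Subgroup.eq_of_le_of_card_ge hZC h1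
    apply hxZ
    rw [heq]
    exact mem_Cen.2 ⟨hx, rfl⟩
  have hnb : Nat.card (Nb L x) = Nat.card (Cen L x) * fC L x ∧ (fC L x = 1 ∨ fC L x = 2) := by
    unfold fC
    rcases nb_card' L hx htr with h | h
    · rw [h, Nat.div_self hcpos]; simp
    · rw [h, Nat.mul_div_cancel _ hcpos]; exact ⟨by ring, Or.inr rfl⟩
  have hL := card_L_eq L hZL
  have hdvd : Nat.card (Nb L x) ∣ Nat.card L := Subgroup.card_dvd_of_le inf_le_left
  have hef : eC L x * fC L x ∣ hC L := by
    rw [hnb.1, hcen, hL, mul_assoc] at hdvd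
    exact (Nat.mul_dvd_mul_iff_left hzpos).1 hdvd
  refine ⟨he2, hnb.2, hef, hcen, by rw [hnb.1, hcen], ?_⟩
  have h1 := ob_card hZc_Ze hCA_Ze (L := L) hxZ
  have h2 := yb_card (L := L) (Zs := Ze) x (zs_le_cen hZc_Ze x)
  have h3 : (L ⊓ Ze : Subgroup (Matrix.SpecialLinearGroup (Fin 2) F)) = Ze := inf_eq_right.2 hZL
  rw [h3] at h2
  rw [h2, hnb.1, hcen, hL] at h1
  have hfpos : 0 < fC L x := by rcases hnb.2 with h | h <;> omega
  obtain ⟨m, hm⟩ := hef
  rw [hm, Nat.mul_div_cancel_left m (Nat.mul_pos (by omega) hfpos)]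
  rw [hm] at h1
  generalize Nat.card (Ze : Subgroup (Matrix.SpecialLinearGroup (Fin 2) F)) = z at *
  generalize eC L x = e at *
  generalize fC L x = f at *
  obtain ⟨e', rfl⟩ : ∃ e', e = e' + 1 := ⟨e - 1, by omega⟩
  have h4 : z * (e' + 1) - z = z * e' := by
    rw [Nat.mul_add, mul_one, Nat.add_sub_cancel]
  rw [h4] at h1
  rw [Nat.add_sub_cancel]
  have h5 : (Ob L Ze x).ncard * (z * (e' + 1) * f) = (z * (m * e')) * (z * (e' + 1) * f) := by
    rw [h1]; ring
  exact Nat.eq_of_mul_eq_mul_right (Nat.mul_pos (Nat.mul_pos hzpos (by omega)) hfpos) h5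

/-- Class equation in normalised form. -/
theorem cls_sum (hZL : (Ze : Subgroup _) ≤ L) (T : Finset (Matrix.SpecialLinearGroup (Fin 2) F))
    (w : Matrix.SpecialLinearGroup (Fin 2) F → ℕ)
    (hw : ∀ x ∈ T, (Ob L Ze x).ncard =
      Nat.card (Ze : Subgroup (Matrix.SpecialLinearGroup (Fin 2) F)) * w x)
    (hsum : ∑ x ∈ T, (Ob L Ze x).ncard + Nat.card (L ⊓ Ze : Subgroup _) = Nat.card L) :
    ∑ x ∈ T, w x + 1 = hC L := by
  have hzpos : 0 < Nat.card (Ze : Subgroup (Matrix.SpecialLinearGroup (Fin 2) F)) := Nat.card_pos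
  have h3 : (L ⊓ Ze : Subgroup (Matrix.SpecialLinearGroup (Fin 2) F)) = Ze := inf_eq_right.2 hZL
  rw [h3, card_L_eq L hZL, Finset.sum_congr rfl hw, ← Finset.mul_sum] at hsum
  have : Nat.card (Ze : Subgroup (Matrix.SpecialLinearGroup (Fin 2) F)) * (∑ x ∈ T, w x + 1) =
      Nat.card (Ze : Subgroup (Matrix.SpecialLinearGroup (Fin 2) F)) * hC L := by
    rw [← hsum]; ring
  exact Nat.eq_of_mul_eq_mul_left hzpos this

/-- An element whose centraliser has order `m * z`, `m` odd, and whose square is central, has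
square `1`. -/
theorem sq_eq_one_of_odd {y : Matrix.SpecialLinearGroup (Fin 2) F} (hy : y ∈ L) (m : ℕ)
    (hm : Odd m)
    (hcen : Nat.card (Cen L y) =
      m * Nat.card (Ze : Subgroup (Matrix.SpecialLinearGroup (Fin 2) F)))
    (hyy : y * y ∈ (Ze : Subgroup _)) : y * y = 1 := by
  have h4 : (y * y) * (y * y) = 1 := Ze_mul_self hyy
  have hyC : y ∈ Cen L y := mem_Cen.2 ⟨hy, rfl⟩
  have h5 : y ^ Nat.card (Cen L y) = 1 := by
    have h := pow_card_eq_one' (G := ↥(Cen L y)) (x := ⟨y, hyC⟩)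
    have h' := congrArg (fun t : ↥(Cen L y) => (t : Matrix.SpecialLinearGroup (Fin 2) F)) h
    simpa only [Subgroup.coe_pow, Subgroup.coe_one] using h'
  obtain ⟨c, hc⟩ := card_Ze_dvd_two (F := F)
  have h6 : y ^ (2 * m) = 1 := by
    have : 2 * m = Nat.card (Cen L y) * c := by rw [hcen, mul_assoc, ← hc, mul_comm]
    rw [this, pow_mul, h5, one_pow]
  obtain ⟨j, rfl⟩ := hm
  have h7 : y ^ (2 * (2 * j + 1)) = (y * y) * ((y * y) * (y * y)) ^ j := by
    rw [← pow_two, ← pow_two, ← pow_mul, ← pow_mul, ← pow_add]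
    congr 1
    ring
  rw [h7, h4, one_pow, mul_one] at h6
  exact h6

theorem sq_ne_one_of_semi {y : Matrix.SpecialLinearGroup (Fin 2) F} (htr : tr y ^ 2 ≠ 4) :
    y * y ≠ 1 := by
  intro h
  apply htr
  have h4 := tr_mul_self y
  rw [h] at h4
  have h5 : tr (1 : Matrix.SpecialLinearGroup (Fin 2) F) = 2 := by
    unfold tr
    rw [one00, one11]; norm_num
  rw [h5] at h4
  linear_combination -h4

/-- The normaliser of the centraliser of a semisimple element with noncentral square cannot have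
index two. -/
theorem idx2_contra {x : Matrix.SpecialLinearGroup (Fin 2) F} (hx : x ∈ L) (htr : tr x ^ 2 ≠ 4)
    (hx2 : x * x ∉ (Ze : Subgroup _)) (hidx : Nat.card L = 2 * Nat.card (Nb L x)) : False := by
  have hxZ : x ∉ (Ze : Subgroup _) := not_mem_Ze_of_tr htr
  have hNL : Nb L x ≤ L := inf_le_left
  have hi := index_subgroupOf L (Nb L x) hNL 2 hidx
  have hnorm : ((Nb L x).subgroupOf L).Normal := Subgroup.normal_of_index_eq_two hi
  have hxN : x ∈ Nb L x := cen_le_nb L x (mem_Cen.2 ⟨hx, rfl⟩)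
  have hall : ∀ g ∈ L, g ∈ Nb L x := by
    intro g hg
    have h1 := hnorm.conj_mem ⟨x, hx⟩ (Subgroup.mem_subgroupOf.2 hxN) ⟨g, hg⟩
    rw [Subgroup.mem_subgroupOf] at h1
    have h2 : g * x * g⁻¹ ∈ Nb L x := by simpa using h1
    have h3 : g * x * g⁻¹ ∈ Cen L x := by
      by_contra hnot
      have h4 := nb_sq L hx htr h2 hnot
      apply hx2
      have h5 : g * x * g⁻¹ * (g * x * g⁻¹) = g * (x * x) * g⁻¹ := by group
      rw [h5] at h4
      exact (conj_mem_Ze_iff g (x * x)).1 h4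
    have hyx : x * (g * x * g⁻¹) = (g * x * g⁻¹) * x := (mem_Cen.1 h3).2
    have hyZ : g * x * g⁻¹ ∉ (Ze : Subgroup _) := fun h => hxZ ((conj_mem_Ze_iff g x).1 h)
    refine Subgroup.mem_inf.2 ⟨hg, ?_⟩
    rw [Subgroup.mem_normalizer_iff]
    intro c
    constructor
    · intro hc
      have hcL := (mem_Cen.1 hc).1
      have hcx := (mem_Cen.1 hc).2
      rw [mem_Cen]
      refine ⟨L.mul_mem (L.mul_mem hg hcL) (L.inv_mem hg), ?_⟩
      have h6 : (g * x * g⁻¹) * (g * c * g⁻¹) = (g * c * g⁻¹) * (g * x * g⁻¹) := by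
        calc (g * x * g⁻¹) * (g * c * g⁻¹) = g * (x * c) * g⁻¹ := by group
          _ = g * (c * x) * g⁻¹ := by rw [hcx]
          _ = (g * c * g⁻¹) * (g * x * g⁻¹) := by group
      exact (comm_trans hyZ h6 hyx.symm).symm
    · intro hc
      have hcL := (mem_Cen.1 hc).1
      have hcx := (mem_Cen.1 hc).2
      rw [mem_Cen]
      have hcL' : c ∈ L := by
        have : c = g⁻¹ * (g * c * g⁻¹) * g := by group
        rw [this]; exact L.mul_mem (L.mul_mem (L.inv_mem hg) hcL) hg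
      refine ⟨hcL', ?_⟩
      have h6 : (g * c * g⁻¹) * (g * x * g⁻¹) = (g * x * g⁻¹) * (g * c * g⁻¹) :=
        comm_trans hxZ hcx hyx
      calc x * c = g⁻¹ * ((g * x * g⁻¹) * (g * c * g⁻¹)) * g := by group
        _ = g⁻¹ * ((g * c * g⁻¹) * (g * x * g⁻¹)) * g := by rw [h6]
        _ = c * x := by group
  have hle : Nat.card L ≤ Nat.card (Nb L x) := Nat.card_mono (Set.toFinite _) (fun g hg => hall g hg)
  have hpos : 0 < Nat.card (Nb L x) := Nat.card_pos
  omega


/-- **Dickson, semisimple case**: a subgroup all of whose noncentral elements are semisimple. -/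
theorem dk_semi (p : ℕ) [Fact p.Prime] (hZL : (Ze : Subgroup _) ≤ L)
    (hss : ∀ x ∈ L, x ∉ (Ze : Subgroup _) → tr x ^ 2 ≠ 4) : DkP F p ↥(L.map (mkP F)) := by
  classical
  obtain ⟨T, hT1, hT2, hT3, hT4⟩ := class_sum L Ze hZc_Ze hCA_Ze
  have hzpos : 0 < Nat.card (Ze : Subgroup (Matrix.SpecialLinearGroup (Fin 2) F)) := Nat.card_pos
  have hW := fun x (hx : x ∈ T) =>
    cls_weight L hZL (hT1 x hx).1 (hT1 x hx).2 (hss x (hT1 x hx).1 (hT1 x hx).2)
  have hsum := cls_sum L hZL T (fun x => hC L / (eC L x * fC L x) * (eC L x - 1))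
    (fun x hx => (hW x hx).2.2.2.2.2) hT4
  have hLcard := card_L_eq L hZL
  obtain ⟨e0⟩ := bar_equiv L
  rcases numS T (eC L) (fC L) (hC L) (hC_pos L hZL) (fun x hx => (hW x hx).1)
    (fun x hx => (hW x hx).2.1) (fun x hx => (hW x hx).2.2.1) hsum with
    ⟨hT, -⟩ | ⟨x, hxT, hf, hh⟩ | ⟨x, hxT, hf, hh⟩ | ⟨hh, x, hxT, he⟩ | ⟨hh, x, hxT, he, hf⟩ |
    ⟨hh, i, j, k, hTe, hei, hfi, hej, hfj, hek, hfk⟩
  · -- trivial
    apply dk_triv
    intro y hy
    by_contra hyZ
    obtain ⟨x, hx, -⟩ := hT3 y hy hyZ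
    rw [hT] at hx
    simp at hx
  · -- cyclic
    obtain ⟨hxL, hxZ⟩ := hT1 x hxT
    have htr := hss x hxL hxZ
    obtain ⟨-, -, -, hcen, -, -⟩ := hW x hxT
    have hCL : Cen L x = L :=
      Subgroup.eq_of_le_of_card_ge inf_le_left (by rw [hcen, hLcard, hh])
    apply dk_cyc p L hZL htr
    intro g hg
    have hgC : g ∈ Cen L x := by rw [hCL]; exact hg
    exact (Subgroup.mem_inf.1 hgC).2
  · -- dihedral
    obtain ⟨hxL, hxZ⟩ := hT1 x hxT
    have htr := hss x hxL hxZ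
    obtain ⟨he2, -, -, hcen, hnb, -⟩ := hW x hxT
    have hNL : Nb L x = L :=
      Subgroup.eq_of_le_of_card_ge inf_le_left (by rw [hnb, hLcard, hh, hf, mul_assoc, mul_comm 2])
    have hCne : ¬ (L ≤ Cen L x) := by
      intro hle
      have h1 : Nat.card L ≤ Nat.card (Cen L x) :=
        Nat.card_mono (Set.toFinite _) (fun g hg => hle hg)
      rw [hcen, hLcard, hh] at h1
      have h2 := Nat.le_of_mul_le_mul_left h1 hzpos
      omega
    obtain ⟨τ, hτ, hτC⟩ := SetLike.not_le_iff_exists.1 hCne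
    exact dk_dih p L hZL hxL htr (by rw [hNL]) hτ hτC
  · -- `h = 12`
    obtain ⟨hxL, hxZ⟩ := hT1 x hxT
    have htr := hss x hxL hxZ
    obtain ⟨he2, hf12, -, hcen, hnb, -⟩ := hW x hxT
    rw [he] at hcen hnb
    have hx2 : x * x ∉ (Ze : Subgroup _) := fun hyy =>
      sq_ne_one_of_semi htr (sq_eq_one_of_odd L hxL 3 ⟨1, rfl⟩ (by rw [hcen]; ring) hyy)
    rcases hf12 with hf | hf
    · rw [hf] at hnb
      right; right; left
      obtain ⟨e1⟩ := rec_A4 hZc_Ze hCA_Ze hZL hxL hxZ _ rfl (by rw [hcen]; ring)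
        (by rw [hnb]; ring) (by rw [hLcard, hh]; ring)
      exact ⟨e0.symm.trans e1⟩
    · exfalso
      rw [hf] at hnb
      exact idx2_contra L hxL htr hx2 (by rw [hLcard, hh, hnb]; ring)
  · -- `h = 24`
    obtain ⟨hxL, hxZ⟩ := hT1 x hxT
    have htr := hss x hxL hxZ
    obtain ⟨he2, hf12, -, hcen, hnb, -⟩ := hW x hxT
    rw [he] at hcen hnb
    rw [hf] at hnb
    have hx2 : x * x ∉ (Ze : Subgroup _) := fun hyy =>
      sq_ne_one_of_semi htr (sq_eq_one_of_odd L hxL 3 ⟨1, rfl⟩ (by rw [hcen]; ring) hyy)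
    right; right; right; left
    obtain ⟨e1⟩ := rec_S4 hZc_Ze hCA_Ze hZL hxL hxZ _ rfl (by rw [hcen]; ring)
      (by rw [hnb]; ring) (by rw [hLcard, hh]; ring)
      (fun g hg hgC => nb_inv L hxL htr hg hgC) hx2
    exact ⟨e0.symm.trans e1⟩
  · -- `h = 60`
    have hiT : i ∈ T := by rw [hTe]; simp
    have hjT : j ∈ T := by rw [hTe]; simp
    have hkT : k ∈ T := by rw [hTe]; simp
    obtain ⟨hiL, hiZ⟩ := hT1 i hiT
    have htri := hss i hiL hiZ
    obtain ⟨-, -, -, hceni, hnbi, -⟩ := hW i hiT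
    obtain ⟨-, -, -, hcenj, hnbj, -⟩ := hW j hjT
    obtain ⟨-, -, -, hcenk, hnbk, -⟩ := hW k hkT
    rw [hei] at hceni hnbi
    rw [hfi] at hnbi
    rw [hej] at hcenj hnbj
    rw [hfj] at hnbj
    rw [hek] at hcenk hnbk
    rw [hfk] at hnbk
    have hcls : ∀ y ∈ L, y ∉ (Ze : Subgroup _) →
        (Nat.card (Cen L y) = 2 * Nat.card (Ze : Subgroup (Matrix.SpecialLinearGroup (Fin 2) F)) ∧
          Nat.card (Nb L y) = 4 * Nat.card (Ze : Subgroup (Matrix.SpecialLinearGroup (Fin 2) F))) ∨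
        (Nat.card (Cen L y) = 3 * Nat.card (Ze : Subgroup (Matrix.SpecialLinearGroup (Fin 2) F)) ∧
          Nat.card (Nb L y) = 6 * Nat.card (Ze : Subgroup (Matrix.SpecialLinearGroup (Fin 2) F))) ∨
        (Nat.card (Cen L y) = 5 * Nat.card (Ze : Subgroup (Matrix.SpecialLinearGroup (Fin 2) F)) ∧
          Nat.card (Nb L y) = 10 * Nat.card (Ze : Subgroup (Matrix.SpecialLinearGroup (Fin 2) F))) := by
      intro y hy hyZ
      obtain ⟨t, ht, hyt⟩ := hT3 y hy hyZ
      have hc := card_of_mem_ob hZc_Ze hCA_Ze (hT1 t ht).2 hyt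
      rw [hTe] at ht
      simp only [Finset.mem_insert, Finset.mem_singleton] at ht
      rcases ht with h | h | h
      · rw [h] at hc
        left; exact ⟨by rw [hc.1, hceni]; ring, by rw [hc.2, hnbi]; ring⟩
      · rw [h] at hc
        right; left; exact ⟨by rw [hc.1, hcenj]; ring, by rw [hc.2, hnbj]; ring⟩
      · rw [h] at hc
        right; right; exact ⟨by rw [hc.1, hcenk]; ring, by rw [hc.2, hnbk]; ring⟩
    have hsq : ∀ v ∈ Nb L i, v * v ∈ (Ze : Subgroup _) := by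
      intro v hv
      by_cases hvC : v ∈ Cen L i
      · have hidx := index_subgroupOf (Cen L i) Ze (Ze_le_Cen L hZL i) 2 (by rw [hceni]; ring)
        have h1 := Subgroup.mul_self_mem_of_index_two hidx ⟨v, hvC⟩
        rw [Subgroup.mem_subgroupOf] at h1
        simpa using h1
      · exact nb_sq L hiL htri hv hvC
    have hinvol : ∀ y ∈ L, y ∉ (Ze : Subgroup _) → y * y ∈ (Ze : Subgroup _) →
        y ∈ Ob L Ze i := by
      intro y hy hyZ hyy
      obtain ⟨t, ht, hyt⟩ := hT3 y hy hyZ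
      have hc := card_of_mem_ob hZc_Ze hCA_Ze (hT1 t ht).2 hyt
      have htry := hss y hy hyZ
      rw [hTe] at ht
      simp only [Finset.mem_insert, Finset.mem_singleton] at ht
      rcases ht with h | h | h
      · rw [h] at hyt; exact hyt
      · rw [h] at hc
        exact absurd (sq_eq_one_of_odd L hy 3 ⟨1, rfl⟩ (by rw [hc.1, hcenj]; ring) hyy)
          (sq_ne_one_of_semi htry)
      · rw [h] at hc
        exact absurd (sq_eq_one_of_odd L hy 5 ⟨2, rfl⟩ (by rw [hc.1, hcenk]; ring) hyy)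
          (sq_ne_one_of_semi htry)
    right; right; right; right; left
    obtain ⟨e1⟩ := rec_A5 hZc_Ze hCA_Ze hZL _ rfl (by rw [hLcard, hh]; ring) hcls hiL hiZ
      (by rw [hceni]; ring) (by rw [hnbi]; ring) hsq hinvol
    exact ⟨e0.symm.trans e1⟩

end Cfsg.Agent.H18.Dk
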