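import Mathlib
import Cfsg.Agent.H18.DkU

/-!
# Dickson's theorem: the field of translations (helper18)

If `L ≤ SL(2, F)` contains `uT 1`, an element `w₀` with zero upper left entry, and all its
non-triangular elements `x` have `x₀₀ / x₁₀` in `𝔄 = {a | uT a ∈ L}`, then `𝔄` is a subfield and
`L` consists of `𝔄`-rational matrices up to scalars.
-/

set_option autoImplicit false
set_option linter.unusedSectionVars false
set_option linter.unusedVariables false
set_option linter.deprecated false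
set_option linter.unusedSimpArgs false

namespace Cfsg.Agent.H18.Dk

open Matrix Cfsg.Agent.H65.SL2 Cfsg.Agent.H29.Dk

/-! ### Hua's identity -/

theorem hua_closed {F : Type*} [Field F] (A : AddSubgroup F) (h1 : (1 : F) ∈ A) (γ : F)
    (hγ : γ ≠ 0) (hinv : ∀ a ∈ A, a ≠ 0 → γ / a ∈ A) :
    (∀ a ∈ A, ∀ b ∈ A, a ^ 2 * b ∈ A) ∧ (∀ a ∈ A, a ≠ 0 → a⁻¹ ∈ A) ∧ (∀ a ∈ A, γ * a ∈ A) := by
  have hua : ∀ a ∈ A, ∀ b ∈ A, a ^ 2 * b / γ ∈ A := by
    intro a ha b hb
    by_cases ha0 : a = 0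
    · rw [ha0]; simp
    by_cases hb0 : b = 0
    · rw [hb0]; simp
    by_cases hab : γ - a * b = 0
    · have e : a ^ 2 * b / γ = a := by
        have h : a * b = γ := by linear_combination -hab
        rw [div_eq_iff hγ, ← h]; ring
      rw [e]; exact ha
    have hu1 : γ / b - a ∈ A := A.sub_mem (hinv b hb hb0) ha
    have hu1e : γ / b - a = (γ - a * b) / b := by field_simp
    have hu1ne : γ / b - a ≠ 0 := by rw [hu1e]; exact div_ne_zero hab hb0
    have hu2 : γ / (γ / b - a) ∈ A := hinv _ hu1 hu1ne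
    have hu3 : γ / a + γ / (γ / b - a) ∈ A := A.add_mem (hinv a ha ha0) hu2
    have hu3e : γ / a + γ / (γ / b - a) = γ ^ 2 / (a * (γ - a * b)) := by
      rw [hu1e]; field_simp; ring
    have hu3ne : γ / a + γ / (γ / b - a) ≠ 0 := by
      rw [hu3e]; exact div_ne_zero (pow_ne_zero 2 hγ) (mul_ne_zero ha0 hab)
    have hu4 : γ / (γ / a + γ / (γ / b - a)) ∈ A := hinv _ hu3 hu3ne
    have hu4e : γ / (γ / a + γ / (γ / b - a)) = a - a ^ 2 * b / γ := by
      rw [hu3e]; field_simp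
    rw [hu4e] at hu4
    have h5 := A.sub_mem ha hu4
    have e : a - (a - a ^ 2 * b / γ) = a ^ 2 * b / γ := by ring
    rw [e] at h5; exact h5
  have hdivγ : ∀ b ∈ A, b / γ ∈ A := fun b hb => by simpa using hua 1 h1 b hb
  have hinv' : ∀ a ∈ A, a ≠ 0 → a⁻¹ ∈ A := by
    intro a ha ha0
    have h5 := hdivγ _ (hinv a ha ha0)
    have e : γ / a / γ = a⁻¹ := by field_simp
    rw [e] at h5; exact h5
  have hmulγ : ∀ a ∈ A, γ * a ∈ A := by
    intro a ha
    by_cases ha0 : a = 0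
    · rw [ha0, mul_zero]; exact A.zero_mem
    have h5 := hinv _ (hinv' a ha ha0) (inv_ne_zero ha0)
    have e : γ / a⁻¹ = γ * a := by field_simp
    rw [e] at h5; exact h5
  refine ⟨?_, hinv', hmulγ⟩
  intro a ha b hb
  have h5 := hua a ha _ (hmulγ b hb)
  have e : a ^ 2 * (γ * b) / γ = a ^ 2 * b := by field_simp
  rw [e] at h5; exact h5

theorem mul_closed {F : Type*} [Field F] [Finite F] (A : AddSubgroup F) (h1 : (1 : F) ∈ A)
    (hsq : ∀ a ∈ A, ∀ b ∈ A, a ^ 2 * b ∈ A) (hinv : ∀ a ∈ A, a ≠ 0 → a⁻¹ ∈ A) :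
    ∀ a ∈ A, ∀ b ∈ A, a * b ∈ A := by
  intro a ha b hb
  by_cases h2 : (2 : F) = 0
  · let f : A → A := fun a => ⟨a.1 ^ 2, by simpa using hsq a.1 a.2 1 h1⟩
    have hinj : Function.Injective f := by
      intro x y hxy
      have h : x.1 ^ 2 = y.1 ^ 2 := congrArg Subtype.val hxy
      have h' : (x.1 - y.1) ^ 2 = 0 := by
        linear_combination h + (y.1 ^ 2 - x.1 * y.1) * h2
      have h3 := pow_eq_zero_iff (two_ne_zero) |>.1 h'
      apply Subtype.ext
      linear_combination h3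
    obtain ⟨e, he⟩ := (Finite.injective_iff_surjective.1 hinj) ⟨a, ha⟩
    have h3 : a = e.1 ^ 2 := (congrArg Subtype.val he).symm
    rw [h3]; exact hsq e.1 e.2 b hb
  · have h2A : (2 : F) ∈ A := by
      have := A.add_mem h1 h1
      rwa [one_add_one_eq_two] at this
    have hhalf : (2 : F)⁻¹ ∈ A := hinv 2 h2A h2
    have hq : ∀ x ∈ A, x / 2 ∈ A := by
      intro x hx
      have h4 := hsq _ hhalf x hx
      have h5 := A.add_mem h4 h4
      have e : (2 : F)⁻¹ ^ 2 * x + (2 : F)⁻¹ ^ 2 * x = x / 2 := by field_simp; ring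
      rw [e] at h5; exact h5
    have h3 : (a + 1) ^ 2 * b - a ^ 2 * b - b ∈ A :=
      A.sub_mem (A.sub_mem (hsq _ (A.add_mem ha h1) b hb) (hsq a ha b hb)) hb
    have h5 := hq _ h3
    have e : ((a + 1) ^ 2 * b - a ^ 2 * b - b) / 2 = a * b := by field_simp; ring
    rw [e] at h5; exact h5

theorem exists_subfield {F : Type*} [Field F] (A : AddSubgroup F) (h1 : (1 : F) ∈ A)
    (hmul : ∀ a ∈ A, ∀ b ∈ A, a * b ∈ A) (hinv : ∀ a ∈ A, a ≠ 0 → a⁻¹ ∈ A) :
    ∃ K : Subfield F, ∀ a, a ∈ K ↔ a ∈ A :=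
  ⟨{ carrier := A
     mul_mem' := fun ha hb => hmul _ ha _ hb
     one_mem' := h1
     add_mem' := A.add_mem
     zero_mem' := A.zero_mem
     neg_mem' := A.neg_mem
     inv_mem' := fun a ha => by
      by_cases h : a = 0
      · rw [h, _root_.inv_zero]; exact A.zero_mem
      · exact hinv a ha h }, fun a => Iff.rfl⟩


/-! ### The translations of a subgroup of `SL(2, F)` -/

section Str

variable {F : Type*} [Field F]

theorem uT_neg (a : F) : uT (-a) = (uT a)⁻¹ := by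
  apply eq_inv_of_mul_eq_one_left
  rw [← uT_add, neg_add_cancel, uT_zero]

/-- The additive group of translations in `L`. -/
def trA (L : Subgroup (Matrix.SpecialLinearGroup (Fin 2) F)) : AddSubgroup F where
  carrier := {a | uT a ∈ L}
  add_mem' := by
    intro a b ha hb
    show uT (a + b) ∈ L
    rw [uT_add]; exact L.mul_mem ha hb
  zero_mem' := by
    show uT (0 : F) ∈ L
    rw [uT_zero]; exact L.one_mem
  neg_mem' := by
    intro a ha
    show uT (-a) ∈ L
    rw [uT_neg]; exact L.inv_mem ha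

theorem mem_trA {L : Subgroup (Matrix.SpecialLinearGroup (Fin 2) F)} {a : F} :
    a ∈ trA L ↔ uT a ∈ L := Iff.rfl

/-- The field of translations. -/
theorem field_str [Finite F] (L : Subgroup (Matrix.SpecialLinearGroup (Fin 2) F))
    (h1 : uT (1 : F) ∈ L) {w₀ : Matrix.SpecialLinearGroup (Fin 2) F} (hw : w₀ ∈ L)
    (hw0 : w₀.1 0 0 = 0)
    (hω : ∀ x ∈ L, x.1 1 0 ≠ 0 → ∃ a, uT a ∈ L ∧ x.1 0 0 = a * x.1 1 0) :
    ∃ K : Subfield F, (∀ k ∈ K, uT k ∈ L ∧ lT k ∈ L) ∧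
      (∀ x ∈ L, ∃ ν : F, ν ≠ 0 ∧ x.1 0 0 * ν ∈ K ∧ x.1 0 1 * ν ∈ K ∧ x.1 1 0 * ν ∈ K ∧
        x.1 1 1 * ν ∈ K) ∧ (∀ a, uT a ∈ L → a ∈ K) := by
  have h1A : (1 : F) ∈ trA L := h1
  have hom : ∀ x ∈ L, x.1 1 0 ≠ 0 → x.1 0 0 / x.1 1 0 ∈ trA L := by
    intro x hx hx10
    obtain ⟨a, ha, he⟩ := hω x hx hx10
    have e : x.1 0 0 / x.1 1 0 = a := by rw [he]; field_simp
    rw [e]; exact ha
  obtain ⟨b₀, hb₀⟩ : ∃ b₀, w₀.1 0 1 = b₀ := ⟨_, rfl⟩
  obtain ⟨c, hc⟩ : ∃ c, w₀.1 1 0 = c := ⟨_, rfl⟩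
  obtain ⟨d, hd⟩ : ∃ d, w₀.1 1 1 = d := ⟨_, rfl⟩
  have hdet := det_eq w₀
  rw [hw0, hb₀, hc, zero_mul, zero_sub] at hdet
  have hc0 : c ≠ 0 := by
    rintro rfl
    simp at hdet
  -- `d / c ∈ 𝔄`
  have hdc : d / c ∈ trA L := by
    have h2 := hom w₀⁻¹ (L.inv_mem hw) (by rw [inv10, hc]; exact neg_ne_zero.2 hc0)
    rw [inv10, inv00, hc, hd, div_neg] at h2
    have h3 := (trA L).neg_mem h2
    rwa [neg_neg] at h3
  obtain ⟨γ, hγdef⟩ : ∃ γ : F, γ = -(c⁻¹) ^ 2 := ⟨_, rfl⟩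
  have hγ0 : γ ≠ 0 := by
    rw [hγdef]; exact neg_ne_zero.2 (pow_ne_zero 2 (inv_ne_zero hc0))
  have hinvA : ∀ a ∈ trA L, a ≠ 0 → γ / a ∈ trA L := by
    intro a' ha' ha'0
    have ha : a' - d / c ∈ trA L := (trA L).sub_mem ha' hdc
    have hxL : w₀ * uT (a' - d / c) * w₀ ∈ L := L.mul_mem (L.mul_mem hw ha) hw
    have h10 : (w₀ * uT (a' - d / c) * w₀).1 1 0 = c ^ 2 * a' := by
      simp only [mul10, mul00, mul01, mul11, uT00, uT01, uT10, uT11, hw0, hb₀, hc, hd]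
      field_simp
      ring
    have h00 : (w₀ * uT (a' - d / c) * w₀).1 0 0 = -1 := by
      simp only [mul10, mul00, mul01, mul11, uT00, uT01, uT10, uT11, hw0, hb₀, hc, hd]
      linear_combination -hdet
    have h2 := hom _ hxL (by rw [h10]; exact mul_ne_zero (pow_ne_zero 2 hc0) ha'0)
    rw [h10, h00] at h2
    have e : (-1 : F) / (c ^ 2 * a') = γ / a' := by rw [hγdef]; field_simp
    rw [e] at h2; exact h2
  obtain ⟨hsq, hinv', hmulγ⟩ := hua_closed (trA L) h1A γ hγ0 hinvA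
  have hmul := mul_closed (trA L) h1A hsq hinv'
  obtain ⟨K, hK⟩ := exists_subfield (trA L) h1A hmul hinv'
  refine ⟨K, ?_, ?_, fun a ha => (hK a).2 ha⟩
  · intro k hk
    have hkA : k ∈ trA L := (hK k).1 hk
    refine ⟨hkA, ?_⟩
    have h2 : w₀ * uT (γ * k) * w₀⁻¹ ∈ L :=
      L.mul_mem (L.mul_mem hw (hmulγ k hkA)) (L.inv_mem hw)
    have e : w₀ * uT (γ * k) * w₀⁻¹ = lT k := by
      apply ext4 <;> simp only [mul10, mul00, mul01, mul11, inv00, inv01, inv10, inv11, uT00,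
        uT01, uT10, uT11, lT00, lT01, lT10, lT11, hw0, hb₀, hc, hd]
      · linear_combination hdet
      · ring
      · rw [hγdef]; field_simp; ring
      · linear_combination hdet
    rw [e] at h2; exact h2
  · intro x hx
    by_cases hx10 : x.1 1 0 = 0
    · have hdx := det_eq x
      rw [hx10, mul_zero, sub_zero] at hdx
      have hx00 : x.1 0 0 ≠ 0 := by
        intro h
        rw [h, zero_mul] at hdx
        exact zero_ne_one hdx
      have hx11 : x.1 1 1 ≠ 0 := by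
        intro h
        rw [h, mul_zero] at hdx
        exact zero_ne_one hdx
      have hlam2 : x.1 0 0 * x.1 0 0 ∈ trA L := by
        have h2 : x * uT 1 * x⁻¹ ∈ L := L.mul_mem (L.mul_mem hx h1) (L.inv_mem hx)
        have h3 : x * uT 1 * x⁻¹ ∈ (Un : Subgroup _) :=
          conj_mem_Un (mem_Bo.2 hx10) (uT_mem_Un 1)
        rw [eq_uT_of_mem_Un h3, conj_uT01] at h2
        have e : (1 : F) * x.1 0 0 ^ 2 = x.1 0 0 * x.1 0 0 := by ring
        rw [e] at h2; exact h2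
      have hlm : x.1 0 1 * x.1 0 0 ∈ trA L := by
        have h10 : (x * w₀).1 1 0 = x.1 1 1 * c := by rw [mul10, hw0, hc, hx10]; ring
        have h00 : (x * w₀).1 0 0 = x.1 0 1 * c := by rw [mul00, hw0, hc]; ring
        have h2 := hom (x * w₀) (L.mul_mem hx hw) (by rw [h10]; exact mul_ne_zero hx11 hc0)
        rw [h10, h00] at h2
        have e : x.1 0 1 * c / (x.1 1 1 * c) = x.1 0 1 * x.1 0 0 := by
          field_simp
          linear_combination (-x.1 0 1) * hdx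
        rw [e] at h2; exact h2
      refine ⟨x.1 0 0, hx00, (hK _).2 hlam2, (hK _).2 hlm, ?_, ?_⟩
      · rw [hx10, zero_mul]; exact K.zero_mem
      · have e : x.1 1 1 * x.1 0 0 = 1 := by linear_combination hdx
        rw [e]; exact K.one_mem
    · have ha := hom x hx hx10
      have hb : x.1 1 1 / x.1 1 0 ∈ trA L := by
        have h2 := hom x⁻¹ (L.inv_mem hx) (by rw [inv10]; exact neg_ne_zero.2 hx10)
        rw [inv10, inv00, div_neg] at h2
        have h3 := (trA L).neg_mem h2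
        rwa [neg_neg] at h3
      have hc2 : ((x.1 1 0)⁻¹) ^ 2 ∈ trA L := by
        have hyL : x * uT 1 * x⁻¹ ∈ L := L.mul_mem (L.mul_mem hx h1) (L.inv_mem hx)
        have hy10 : (x * uT 1 * x⁻¹).1 1 0 = -(x.1 1 0) ^ 2 := by rw [conj_uT10]; ring
        have hy00 : (x * uT 1 * x⁻¹).1 0 0 = 1 - x.1 0 0 * x.1 1 0 := by
          simp only [mul00, mul01, mul10, mul11, inv00, inv10, uT00, uT01, uT10, uT11]
          linear_combination det_eq x
        have h2 := hom _ hyL (by rw [hy10]; exact neg_ne_zero.2 (pow_ne_zero 2 hx10))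
        rw [hy10, hy00] at h2
        have h3 := (trA L).sub_mem ha h2
        have e : x.1 0 0 / x.1 1 0 - (1 - x.1 0 0 * x.1 1 0) / -(x.1 1 0) ^ 2 =
            ((x.1 1 0)⁻¹) ^ 2 := by
          field_simp
          ring
        rw [e] at h3; exact h3
      refine ⟨(x.1 1 0)⁻¹, inv_ne_zero hx10, ?_, ?_, ?_, ?_⟩
      · rw [← div_eq_mul_inv]; exact (hK _).2 ha
      · have e : x.1 0 1 * (x.1 1 0)⁻¹ =
            (x.1 0 0 / x.1 1 0) * (x.1 1 1 / x.1 1 0) - ((x.1 1 0)⁻¹) ^ 2 := by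
          field_simp
          linear_combination (-1 : F) * det_eq x
        rw [e]
        exact K.sub_mem (K.mul_mem ((hK _).2 ha) ((hK _).2 hb)) ((hK _).2 hc2)
      · rw [mul_inv_cancel₀ hx10]; exact K.one_mem
      · rw [← div_eq_mul_inv]; exact (hK _).2 hb

end Str

end Cfsg.Agent.H18.Dk
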