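import Mathlib
import Cfsg.Agent.H18.DkF1
import Cfsg.Agent.H29.Dk6

/-!
# Dickson's theorem: recognising `PSL(2, K)` and `PGL(2, K)` inside `PSL(2, F)` (helper18)
-/

set_option autoImplicit false
set_option linter.unusedSectionVars false
set_option linter.unusedVariables false
set_option linter.deprecated false
set_option linter.unusedSimpArgs false

namespace Cfsg.Agent.H18.Dk

open Matrix Cfsg.Agent.H65.SL2 Cfsg.Agent.H29.Dk

section PGL

variable {F : Type*} [Field F] {K₀ : Type*} [Field K₀]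

/-- `PGL(2, K₀) → PGL(2, F)` is injective. -/
theorem pglMap_injective (ι₀ : K₀ →+* F) :
    Function.Injective (Matrix.ProjGenLinGroup.map (n := Fin 2) ι₀) := by
  rw [injective_iff_map_eq_one]
  intro y hy
  induction y using Matrix.ProjGenLinGroup.induction_on with | mk g =>
  rw [Matrix.ProjGenLinGroup.map_mk, Matrix.ProjGenLinGroup.mk_eq_one,
    GeneralLinearGroup.center_eq_range_scalar] at hy
  obtain ⟨u, hu⟩ := hy
  rw [Matrix.ProjGenLinGroup.mk_eq_one, GeneralLinearGroup.mem_center_iff_val_mem_range_scalar]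
  have h := fun i j => congrArg (fun M : GL (Fin 2) F => M.val i j) hu
  have h01 := h 0 1
  have h10 := h 1 0
  have h00 := h 0 0
  have h11 := h 1 1
  simp only [GeneralLinearGroup.coe_scalar, Matrix.scalar_apply, Matrix.diagonal_apply] at h00 h01 h10 h11
  have e01 : ι₀ (g.val 0 1) = 0 := by
    have : (GeneralLinearGroup.map ι₀ g).val 0 1 = ι₀ (g.val 0 1) := rfl
    rw [← this, ← h01]; simp
  have e10 : ι₀ (g.val 1 0) = 0 := by
    have : (GeneralLinearGroup.map ι₀ g).val 1 0 = ι₀ (g.val 1 0) := rfl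
    rw [← this, ← h10]; simp
  have e00 : ι₀ (g.val 0 0) = ι₀ (g.val 1 1) := by
    have e1 : (GeneralLinearGroup.map ι₀ g).val 0 0 = ι₀ (g.val 0 0) := rfl
    have e2 : (GeneralLinearGroup.map ι₀ g).val 1 1 = ι₀ (g.val 1 1) := rfl
    rw [← e1, ← e2, ← h00, ← h11]
  have f01 : g.val 0 1 = 0 := ι₀.injective (by rw [e01, map_zero])
  have f10 : g.val 1 0 = 0 := ι₀.injective (by rw [e10, map_zero])
  have f00 : g.val 0 0 = g.val 1 1 := ι₀.injective e00
  refine ⟨g.val 0 0, ?_⟩
  ext i j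
  fin_cases i <;> fin_cases j <;> simp [Matrix.scalar_apply, Matrix.diagonal_apply, f01, f10, ← f00]

theorem sq_dichotomy {K : Type*} [Field K] [Finite K] {a b : K} (ha : a ≠ 0) (hb : b ≠ 0)
    (hna : ¬ IsSquare a) (hnb : ¬ IsSquare b) : IsSquare (a⁻¹ * b) := by
  classical
  have := Fintype.ofFinite K
  by_cases h : ringChar K = 2
  · exact FiniteField.isSquare_of_char_two h _
  · rw [FiniteField.isSquare_iff h (mul_ne_zero (inv_ne_zero ha) hb)]
    have ha' : a ^ (Fintype.card K / 2) = -1 := by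
      rcases FiniteField.pow_dichotomy h ha with h1 | h1
      · exact absurd ((FiniteField.isSquare_iff h ha).2 h1) hna
      · exact h1
    have hb' : b ^ (Fintype.card K / 2) = -1 := by
      rcases FiniteField.pow_dichotomy h hb with h1 | h1
      · exact absurd ((FiniteField.isSquare_iff h hb).2 h1) hnb
      · exact h1
    rw [mul_pow, inv_pow, ha', hb']
    simp

theorem mk_mem_range_iff (g : GL (Fin 2) K₀) :
    Matrix.ProjGenLinGroup.mk g ∈
      (Matrix.ProjectiveSpecialLinearGroup.toPGL (n := Fin 2) (R := K₀)).range ↔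
      IsSquare (g.val.det) := by
  constructor
  · rintro ⟨s, hs⟩
    induction s using QuotientGroup.induction_on with | H s =>
    rw [Matrix.ProjectiveSpecialLinearGroup.toPGL_mk, Matrix.ProjGenLinGroup.mk_eq_mk_iff] at hs
    obtain ⟨u, hu⟩ := hs
    have h := congrArg (fun M : GL (Fin 2) K₀ => M.val.det) hu
    simp at h
    exact ⟨u, by rw [← h]; ring⟩
  · rintro ⟨c, hc⟩
    have hd0 : g.val.det ≠ 0 := by
      have h1 : g.val.det = ((Matrix.GeneralLinearGroup.det g : K₀ˣ) : K₀) := rfl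
      rw [h1]; exact Units.ne_zero _
    have hc0 : c ≠ 0 := by
      rintro rfl
      rw [mul_zero] at hc
      exact hd0 hc
    have hdet : (c⁻¹ • g.val).det = 1 := by
      rw [Matrix.det_smul, Fintype.card_fin, hc]
      field_simp
    refine ⟨QuotientGroup.mk ⟨c⁻¹ • g.val, hdet⟩, ?_⟩
    show Matrix.ProjGenLinGroup.mk (Matrix.SpecialLinearGroup.toGL ⟨c⁻¹ • g.val, hdet⟩) = _
    rw [Matrix.ProjGenLinGroup.mk_eq_mk_iff]
    refine ⟨Units.mk0 c hc0, Units.ext ?_⟩
    ext i j
    simp only [Units.val_mul, GeneralLinearGroup.coe_scalar, Units.val_mk0]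
    rw [Matrix.mul_apply]
    show ∑ k, (c⁻¹ • g.val) i k * (Matrix.scalar (Fin 2) c) k j = g.val i j
    simp [Matrix.scalar_apply, Matrix.diagonal_apply, Matrix.smul_apply]
    field_simp

theorem map_uT' (ι₀ : K₀ →+* F) (k : K₀) :
    Matrix.SpecialLinearGroup.map (n := Fin 2) ι₀ (uT k) = uT (ι₀ k) := by
  apply Subtype.ext
  rw [Matrix.SpecialLinearGroup.map_apply_coe]
  ext i j
  fin_cases i <;> fin_cases j <;> simp [RingHom.mapMatrix_apply, Matrix.map_apply, uT]

theorem map_lT' (ι₀ : K₀ →+* F) (k : K₀) :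
    Matrix.SpecialLinearGroup.map (n := Fin 2) ι₀ (lT k) = lT (ι₀ k) := by
  apply Subtype.ext
  rw [Matrix.SpecialLinearGroup.map_apply_coe]
  ext i j
  fin_cases i <;> fin_cases j <;> simp [RingHom.mapMatrix_apply, Matrix.map_apply, lT]

theorem gl_det_ne_zero (g : GL (Fin 2) K₀) : g.val.det ≠ 0 := by
  have h1 : g.val.det = ((Matrix.GeneralLinearGroup.det g : K₀ˣ) : K₀) := rfl
  rw [h1]; exact Units.ne_zero _

theorem index_two_dich [Finite K₀] (M₀ : Subgroup (Matrix.ProjGenLinGroup (Fin 2) K₀))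
    (hR : (Matrix.ProjectiveSpecialLinearGroup.toPGL (n := Fin 2) (R := K₀)).range ≤ M₀) :
    M₀ = (Matrix.ProjectiveSpecialLinearGroup.toPGL (n := Fin 2) (R := K₀)).range ∨ M₀ = ⊤ := by
  by_cases h : M₀ ≤ (Matrix.ProjectiveSpecialLinearGroup.toPGL (n := Fin 2) (R := K₀)).range
  · left; exact le_antisymm h hR
  · right
    obtain ⟨m, hm, hmR⟩ := SetLike.not_le_iff_exists.1 h
    rw [eq_top_iff]
    intro y _
    by_cases hy : y ∈ (Matrix.ProjectiveSpecialLinearGroup.toPGL (n := Fin 2) (R := K₀)).range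
    · exact hR hy
    · induction m using Matrix.ProjGenLinGroup.induction_on with | mk g₁ =>
      induction y using Matrix.ProjGenLinGroup.induction_on with | mk g₂ =>
      rw [mk_mem_range_iff] at hmR hy
      have h3 : Matrix.ProjGenLinGroup.mk (g₁⁻¹ * g₂) ∈
          (Matrix.ProjectiveSpecialLinearGroup.toPGL (n := Fin 2) (R := K₀)).range := by
        rw [mk_mem_range_iff]
        have e : (g₁⁻¹ * g₂).val.det = (g₁.val.det)⁻¹ * g₂.val.det := by
          rw [Units.val_mul, Matrix.det_mul, Matrix.GeneralLinearGroup.coe_inv,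
            Matrix.det_nonsing_inv, Ring.inverse_eq_inv']
        rw [e]
        exact sq_dichotomy (gl_det_ne_zero g₁) (gl_det_ne_zero g₂) hmR hy
      have e : Matrix.ProjGenLinGroup.mk g₂ =
          Matrix.ProjGenLinGroup.mk g₁ * Matrix.ProjGenLinGroup.mk (g₁⁻¹ * g₂) := by
        rw [← map_mul]; congr 1; group
      rw [e]; exact M₀.mul_mem hm (hR h3)

theorem pgl_finish [Finite F] [Finite K₀] (ι₀ : K₀ →+* F)
    (L : Subgroup (Matrix.SpecialLinearGroup (Fin 2) F))
    (hi : ∀ k : K₀, uT (ι₀ k) ∈ L ∧ lT (ι₀ k) ∈ L)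
    (hii : ∀ x ∈ L, ∃ ν : F, ν ≠ 0 ∧ ∃ a b c d : K₀, x.1 0 0 * ν = ι₀ a ∧ x.1 0 1 * ν = ι₀ b ∧
      x.1 1 0 * ν = ι₀ c ∧ x.1 1 1 * ν = ι₀ d) :
    Nonempty (↥(L.map (mkP F)) ≃* Matrix.ProjectiveSpecialLinearGroup (Fin 2) K₀) ∨
      Nonempty (↥(L.map (mkP F)) ≃* Matrix.ProjGenLinGroup (Fin 2) K₀) := by
  have hτ : Function.Injective (Matrix.ProjectiveSpecialLinearGroup.toPGL (n := Fin 2) (R := F)) :=
    Matrix.ProjectiveSpecialLinearGroup.toPGL_injective
  have hΦ := pglMap_injective ι₀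
  have hτ₀ : Function.Injective
      (Matrix.ProjectiveSpecialLinearGroup.toPGL (n := Fin 2) (R := K₀)) :=
    Matrix.ProjectiveSpecialLinearGroup.toPGL_injective
  have h1 : (L.map (mkP F)).map (Matrix.ProjectiveSpecialLinearGroup.toPGL (n := Fin 2) (R := F)) ≤
      (Matrix.ProjGenLinGroup.map (n := Fin 2) ι₀).range := by
    rintro y ⟨y', ⟨x, hx, rfl⟩, rfl⟩
    obtain ⟨ν, hν, a, b, c, d, h00, h01, h10, h11⟩ := hii x hx
    have hdet : (!![a, b; c, d] : Matrix (Fin 2) (Fin 2) K₀).det ≠ 0 := by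
      intro h0
      rw [Matrix.det_fin_two_of] at h0
      have h5 := congrArg ι₀ h0
      rw [map_sub, map_mul, map_mul, map_zero, ← h00, ← h01, ← h10, ← h11] at h5
      have hd := det_eq x
      have h6 : ν * ν = 0 := by linear_combination h5 - ν * ν * hd
      exact hν (mul_self_eq_zero.1 h6)
    refine ⟨Matrix.ProjGenLinGroup.mk (GeneralLinearGroup.mkOfDetNeZero _ hdet), ?_⟩
    show Matrix.ProjGenLinGroup.mk (GeneralLinearGroup.map ι₀
      (GeneralLinearGroup.mkOfDetNeZero _ hdet)) =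
      Matrix.ProjGenLinGroup.mk (Matrix.SpecialLinearGroup.toGL x)
    symm
    rw [Matrix.ProjGenLinGroup.mk_eq_mk_iff]
    refine ⟨Units.mk0 ν hν, Units.ext ?_⟩
    simp only [Units.val_mul, GeneralLinearGroup.coe_scalar, Units.val_mk0]
    ext i j
    rw [Matrix.mul_apply]
    show ∑ k, x.1 i k * (Matrix.scalar (Fin 2) ν) k j =
      ι₀ ((!![a, b; c, d] : Matrix (Fin 2) (Fin 2) K₀) i j)
    fin_cases i <;> fin_cases j <;>
      simp [Matrix.scalar_apply, Matrix.diagonal_apply, Fin.sum_univ_two, h00, h01, h10, h11]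
  have h2 : (Matrix.ProjectiveSpecialLinearGroup.toPGL (n := Fin 2) (R := K₀)).range ≤
      ((L.map (mkP F)).map (Matrix.ProjectiveSpecialLinearGroup.toPGL (n := Fin 2) (R := F))).comap
        (Matrix.ProjGenLinGroup.map (n := Fin 2) ι₀) := by
    rintro r ⟨s', rfl⟩
    induction s' using QuotientGroup.induction_on with | H s =>
    have hsL : Matrix.SpecialLinearGroup.map (n := Fin 2) ι₀ s ∈ L := by
      have htop : L.comap (Matrix.SpecialLinearGroup.map (n := Fin 2) ι₀) = ⊤ :=
        sl2_gen _ (fun k => by rw [Subgroup.mem_comap, map_uT']; exact (hi k).1)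
          (fun k => by rw [Subgroup.mem_comap, map_lT']; exact (hi k).2)
      have h5 : s ∈ L.comap (Matrix.SpecialLinearGroup.map (n := Fin 2) ι₀) := by
        rw [htop]; trivial
      exact h5
    rw [Subgroup.mem_comap]
    refine ⟨mkP F (Matrix.SpecialLinearGroup.map (n := Fin 2) ι₀ s),
      Subgroup.mem_map_of_mem _ hsL, ?_⟩
    show Matrix.ProjGenLinGroup.mk (Matrix.SpecialLinearGroup.toGL
      (Matrix.SpecialLinearGroup.map (n := Fin 2) ι₀ s)) =
      Matrix.ProjGenLinGroup.mk (GeneralLinearGroup.map ι₀ (Matrix.SpecialLinearGroup.toGL s))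
    congr 1
    apply Units.ext
    ext i j
    rfl
  have h3 := index_two_dich _ h2
  have e1 := (L.map (mkP F)).equivMapOfInjective
    (Matrix.ProjectiveSpecialLinearGroup.toPGL (n := Fin 2) (R := F)) hτ
  have hM : (((L.map (mkP F)).map
      (Matrix.ProjectiveSpecialLinearGroup.toPGL (n := Fin 2) (R := F))).comap
        (Matrix.ProjGenLinGroup.map (n := Fin 2) ι₀)).map
        (Matrix.ProjGenLinGroup.map (n := Fin 2) ι₀) =
      (L.map (mkP F)).map (Matrix.ProjectiveSpecialLinearGroup.toPGL (n := Fin 2) (R := F)) := by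
    rw [Subgroup.map_comap_eq]; exact inf_eq_right.2 h1
  have e2 := ((((L.map (mkP F)).map
      (Matrix.ProjectiveSpecialLinearGroup.toPGL (n := Fin 2) (R := F))).comap
        (Matrix.ProjGenLinGroup.map (n := Fin 2) ι₀)).equivMapOfInjective _ hΦ).trans
        (MulEquiv.subgroupCongr hM)
  rcases h3 with h | h
  · left
    have e3 := (MonoidHom.ofInjective hτ₀).trans (MulEquiv.subgroupCongr h.symm)
    exact ⟨e1.trans (e2.symm.trans e3.symm)⟩
  · right
    have e3 := (MulEquiv.subgroupCongr h).trans Subgroup.topEquiv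
    exact ⟨e1.trans (e2.symm.trans e3)⟩

end PGL

end Cfsg.Agent.H18.Dk
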