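import Mathlib
import Cfsg.Agent.H18.DkF2
import Cfsg.Agent.H29.Dk8

/-!
# Dickson's theorem on the subgroups of `PSL(2, q)` (helper18)
-/

set_option autoImplicit false
set_option linter.unusedSectionVars false
set_option linter.unusedVariables false
set_option linter.deprecated false
set_option linter.unusedSimpArgs false

namespace Cfsg.Agent.H18.Dk

open Matrix Cfsg.Agent.H65.SL2 Cfsg.Agent.H29.Dk

theorem exists_small_field (K : Type*) [Field K] [Finite K] :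
    ∃ (K₀ : Type) (_ : Field K₀) (_ : Fintype K₀), Nonempty (K₀ ≃+* K) := by
  let e : Fin (Nat.card K) ≃ K := (Finite.equivFin K).symm
  exact ⟨Fin (Nat.card K), e.field, inferInstance, ⟨e.ringEquiv⟩⟩

variable {F : Type*} [Field F] [Fintype F]

theorem dk_field (p : ℕ) [Fact p.Prime] (L : Subgroup (Matrix.SpecialLinearGroup (Fin 2) F))
    (h1 : uT (1 : F) ∈ L) {w₀ : Matrix.SpecialLinearGroup (Fin 2) F} (hw : w₀ ∈ L)
    (hw0 : w₀.1 0 0 = 0)
    (hω : ∀ x ∈ L, x.1 1 0 ≠ 0 → ∃ a, uT a ∈ L ∧ x.1 0 0 = a * x.1 1 0) :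
    DkP F p ↥(L.map (mkP F)) := by
  obtain ⟨K, hK1, hK2, hK3⟩ := field_str L h1 hw hw0 hω
  obtain ⟨K₀, iF, iFin, ⟨e⟩⟩ := exists_small_field ↥K
  let ι₀ : K₀ →+* F := K.subtype.comp e.toRingHom
  have hι : ∀ k : K₀, ι₀ k = (e k : F) := fun k => rfl
  have hi : ∀ k : K₀, uT (ι₀ k) ∈ L ∧ lT (ι₀ k) ∈ L := fun k => hK1 _ (e k).2
  have hii : ∀ x ∈ L, ∃ ν : F, ν ≠ 0 ∧ ∃ a b c d : K₀, x.1 0 0 * ν = ι₀ a ∧ x.1 0 1 * ν = ι₀ b ∧
      x.1 1 0 * ν = ι₀ c ∧ x.1 1 1 * ν = ι₀ d := by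
    intro x hx
    obtain ⟨ν, hν, h00, h01, h10, h11⟩ := hK2 x hx
    refine ⟨ν, hν, e.symm ⟨_, h00⟩, e.symm ⟨_, h01⟩, e.symm ⟨_, h10⟩, e.symm ⟨_, h11⟩,
      ?_, ?_, ?_, ?_⟩ <;> rw [hι, RingEquiv.apply_symm_apply]
  have hfin := pgl_finish ι₀ L hi hii
  right; right; right; right; right
  refine ⟨K₀, iF, iFin, Module.finrank ↥K F, ?_, hfin⟩
  have h2 : Fintype.card K₀ = Nat.card ↥K := by
    rw [← Nat.card_eq_fintype_card]; exact Nat.card_congr e.toEquiv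
  rw [h2, ← Nat.card_eq_fintype_card (α := F)]
  exact (Module.natCard_eq_pow_finrank (K := ↥K) (V := F)).symm


theorem equiv_mem_Ze
    (e : Matrix.SpecialLinearGroup (Fin 2) F ≃* Matrix.SpecialLinearGroup (Fin 2) F)
    {ζ : Matrix.SpecialLinearGroup (Fin 2) F} (hζ : ζ ∈ (Ze : Subgroup _)) :
    e ζ ∈ (Ze : Subgroup _) := by
  rw [Ze_eq_center] at hζ ⊢
  rw [Subgroup.mem_center_iff] at hζ ⊢
  intro g
  have := congrArg e (hζ (e.symm g))
  simpa using this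

/-- **Dickson, unipotent case**: subgroups containing `uT 1`. -/
theorem dk_unip (p : ℕ) [Fact p.Prime] [CharP F p]
    (L : Subgroup (Matrix.SpecialLinearGroup (Fin 2) F)) (hZL : (Ze : Subgroup _) ≤ L)
    (h1 : uT (1 : F) ∈ L) : DkP F p ↥(L.map (mkP F)) := by
  rcases dk_unip_red L p hZL h1 with h | ⟨hLB, hcard⟩
  · exact h
  obtain ⟨g₀, hg₀L, hg₀B⟩ := SetLike.not_le_iff_exists.1 hLB
  have hg10 : g₀.1 1 0 ≠ 0 := fun h => hg₀B (mem_Bo.2 h)
  have hDsub : Dc L g₀ ⊆ (L : Set (Matrix.SpecialLinearGroup (Fin 2) F)) \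
      ((L ⊓ Bo : Subgroup _) : Set (Matrix.SpecialLinearGroup (Fin 2) F)) := fun x hx =>
    ⟨Dc_subset L hg₀L hx, fun hxB => Dc_not_Bo L hg₀B hx (Subgroup.mem_inf.1 hxB).2⟩
  have hDeq : Dc L g₀ = (L : Set (Matrix.SpecialLinearGroup (Fin 2) F)) \
      ((L ⊓ Bo : Subgroup _) : Set (Matrix.SpecialLinearGroup (Fin 2) F)) := by
    apply Set.eq_of_subset_of_ncard_le hDsub _ (Set.toFinite _)
    rw [Dc_card L hg₀B, Set.ncard_diff (fun x hx => (Subgroup.mem_inf.1 hx).1)]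
    have e1 : ((L : Set (Matrix.SpecialLinearGroup (Fin 2) F))).ncard = Nat.card L := rfl
    have e2 : ((L ⊓ Bo : Subgroup _) : Set (Matrix.SpecialLinearGroup (Fin 2) F)).ncard =
        Nat.card (L ⊓ Bo : Subgroup _) := rfl
    rw [e1, e2, hcard, Nat.add_mul, one_mul, Nat.add_sub_cancel]
  have hrel : ∀ x ∈ L, x.1 1 0 ≠ 0 → ∃ s, uT s ∈ L ∧
      x.1 0 0 * g₀.1 1 0 - g₀.1 0 0 * x.1 1 0 = s * g₀.1 1 0 * x.1 1 0 := by
    intro x hx hx10
    have hxD : x ∈ Dc L g₀ := by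
      rw [hDeq]
      exact ⟨hx, fun h => hx10 (mem_Bo.1 (Subgroup.mem_inf.1 h).2)⟩
    exact Dc_rel L hxD
  obtain ⟨ω₀, hω₀⟩ : ∃ ω₀ : F, ω₀ = g₀.1 0 0 / g₀.1 1 0 := ⟨_, rfl⟩
  apply dk_transport p (MulAut.conj (uT (-ω₀))) L
  have hconj : ∀ x : Matrix.SpecialLinearGroup (Fin 2) F,
      (MulAut.conj (uT (-ω₀))) x = uT (-ω₀) * x * uT ω₀ := by
    intro x
    rw [MulAut.conj_apply, uT_neg, inv_inv]
  have hmem : ∀ x ∈ L, uT (-ω₀) * x * uT ω₀ ∈ L.map (MulAut.conj (uT (-ω₀))).toMonoidHom :=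
    fun x hx => ⟨x, hx, hconj x⟩
  have hfix : ∀ s : F, uT (-ω₀) * uT s * uT ω₀ = uT s := by
    intro s
    rw [← uT_add, ← uT_add]
    congr 1
    ring
  have h00 : ∀ x : Matrix.SpecialLinearGroup (Fin 2) F,
      (uT (-ω₀) * x * uT ω₀).1 0 0 = x.1 0 0 - ω₀ * x.1 1 0 := by
    intro x
    simp only [mul00, mul01, mul10, mul11, uT00, uT01, uT10, uT11]
    ring
  have h10 : ∀ x : Matrix.SpecialLinearGroup (Fin 2) F,
      (uT (-ω₀) * x * uT ω₀).1 1 0 = x.1 1 0 := by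
    intro x
    simp only [mul00, mul01, mul10, mul11, uT00, uT01, uT10, uT11]
    ring
  refine dk_field p _ (by rw [← hfix 1]; exact hmem _ h1) (hmem g₀ hg₀L) ?_ ?_
  · rw [h00, hω₀]
    field_simp
    ring
  · rintro x' ⟨x, hx, rfl⟩ hx10
    have hx' : (MulAut.conj (uT (-ω₀))).toMonoidHom x = uT (-ω₀) * x * uT ω₀ := hconj x
    rw [hx'] at hx10 ⊢
    rw [h10] at hx10
    obtain ⟨s, hs, hrel'⟩ := hrel x hx hx10
    refine ⟨s, by rw [← hfix s]; exact hmem _ hs, ?_⟩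
    rw [h00, h10, hω₀]
    field_simp
    linear_combination hrel'

/-- **Dickson's theorem** on the subgroups of `PSL(2, q)`. -/
theorem dickson (p : ℕ) [Fact p.Prime] [CharP F p]
    (H : Subgroup (Matrix.ProjectiveSpecialLinearGroup (Fin 2) F)) : DkP F p ↥H := by
  have hH := map_comap_mkP H
  have hZL : (Ze : Subgroup _) ≤ H.comap (mkP F) := Ze_le_comap H
  suffices h : DkP F p ↥((H.comap (mkP F)).map (mkP F)) from
    DkP_congr p (MulEquiv.subgroupCongr hH) h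
  by_cases hss : ∀ x ∈ H.comap (mkP F), x ∉ (Ze : Subgroup _) → tr x ^ 2 ≠ 4
  · exact dk_semi _ p hZL hss
  · push Not at hss
    obtain ⟨x₀, hx₀L, hx₀Z, htr⟩ := hss
    have key : ∃ u ∈ H.comap (mkP F), tr u = 2 ∧ u ≠ 1 := by
      have h2 : (tr x₀ - 2) * (tr x₀ + 2) = 0 := by linear_combination htr
      rcases mul_eq_zero.1 h2 with h | h
      · refine ⟨x₀, hx₀L, by linear_combination h, fun h1 => hx₀Z ?_⟩
        rw [h1]; exact Subgroup.one_mem _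
      · refine ⟨-x₀, neg_mem_of_mem _ hZL hx₀L, by rw [tr_neg]; linear_combination -h, ?_⟩
        intro h1
        apply hx₀Z
        have h3 : x₀ = -1 := by rw [← h1, neg_neg]
        rw [h3]; exact neg_one_mem_Ze
    obtain ⟨u, huL, hutr, hu1⟩ := key
    obtain ⟨g, hg, hgu⟩ := exists_conj_uT u hutr hu1
    let σ : Matrix.SpecialLinearGroup (Fin 2) F ≃* Matrix.SpecialLinearGroup (Fin 2) F :=
      MulEquiv.ofBijective (conjHom g hg)
        ⟨conjHom_injective g hg, Finite.surjective_of_injective (conjHom_injective g hg)⟩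
    have hσ : ∀ x, σ x = conjHom g hg x := fun x => rfl
    apply dk_transport p σ.symm
    apply dk_unip p
    · intro ζ hζ
      refine ⟨σ ζ, hZL (equiv_mem_Ze σ hζ), ?_⟩
      show σ.symm (σ ζ) = ζ
      simp
    · refine ⟨u, huL, ?_⟩
      show σ.symm u = uT 1
      rw [← hgu, ← hσ]
      simp

end Cfsg.Agent.H18.Dk
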