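import Mathlib
import Cfsg.Agent.H18.DkF3

/-!
# Borel subgroups, Sylow normalisers and order bounds in `PSL(2, q)` (helper18)
-/

set_option autoImplicit false
set_option linter.unusedSectionVars false
set_option linter.unusedVariables false
set_option linter.deprecated false
set_option linter.unusedSimpArgs false

namespace Cfsg.Agent.H18.Dk

open Matrix Cfsg.Agent.H65.SL2 Cfsg.Agent.H29.Dk

variable {F : Type*} [Field F] [Fintype F]

theorem Ze_le_Bo : (Ze : Subgroup (Matrix.SpecialLinearGroup (Fin 2) F)) ≤ Bo :=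
  Ze_le_UZ.trans UZ_le_Bo

/-- A diagonal-plus-upper element of `SL(2, F)`. -/
def boEl (b : F) (u : Fˣ) : Matrix.SpecialLinearGroup (Fin 2) F :=
  ⟨!![(u : F), b; 0, ((u⁻¹ : Fˣ) : F)], by simp [Matrix.det_fin_two]⟩

@[simp] theorem boEl00 (b : F) (u : Fˣ) : (boEl b u).1 0 0 = u := rfl
@[simp] theorem boEl01 (b : F) (u : Fˣ) : (boEl b u).1 0 1 = b := rfl
@[simp] theorem boEl10 (b : F) (u : Fˣ) : (boEl b u).1 1 0 = 0 := rfl
@[simp] theorem boEl11 (b : F) (u : Fˣ) : (boEl b u).1 1 1 = ((u⁻¹ : Fˣ) : F) := rfl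

theorem card_Bo : Nat.card (Bo : Subgroup (Matrix.SpecialLinearGroup (Fin 2) F)) =
    Fintype.card F * (Fintype.card F - 1) := by
  have hne : ∀ g : ↥(Bo : Subgroup (Matrix.SpecialLinearGroup (Fin 2) F)), g.1.1 0 0 ≠ 0 := by
    intro g h
    have hd := det_eq g.1
    rw [mem_Bo.1 g.2, h] at hd
    simp at hd
  have e : ↥(Bo : Subgroup (Matrix.SpecialLinearGroup (Fin 2) F)) ≃ F × Fˣ :=
    { toFun := fun g => (g.1.1 0 1, Units.mk0 (g.1.1 0 0) (hne g))
      invFun := fun bu => ⟨boEl bu.1 bu.2, by rw [mem_Bo]; rfl⟩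
      left_inv := by
        intro g
        apply Subtype.ext
        have hd := det_eq g.1
        rw [mem_Bo.1 g.2, mul_zero, sub_zero] at hd
        apply ext4
        · simp
        · simp
        · simp [mem_Bo.1 g.2]
        · simp only [boEl11, Units.val_inv_eq_inv_val, Units.val_mk0]
          rw [inv_eq_iff_eq_inv]
          exact eq_inv_of_mul_eq_one_left hd
      right_inv := by
        rintro ⟨b, u⟩
        apply Prod.ext
        · simp
        · apply Units.ext
          simp }
  rw [Nat.card_congr e, Nat.card_prod, Nat.card_units, Nat.card_eq_fintype_card]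

theorem card_Bo_map : Nat.gcd 2 (Fintype.card F - 1) *
    Nat.card ↥((Bo : Subgroup (Matrix.SpecialLinearGroup (Fin 2) F)).map (mkP F)) =
    Fintype.card F * (Fintype.card F - 1) := by
  have h := card_map_mkP (F := F) Ze_le_Bo
  rw [card_Ze, card_Bo] at h
  exact h.symm

theorem sq_sub_one_eq (q : ℕ) (hq : 1 ≤ q) : q ^ 2 - 1 = (q - 1) * (q + 1) := by
  obtain ⟨r, rfl⟩ : ∃ r, q = r + 1 := ⟨q - 1, by omega⟩
  have h : (r + 1) ^ 2 = r * (r + 1 + 1) + 1 := by ring
  rw [h, Nat.add_sub_cancel, Nat.add_sub_cancel]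

/-- The image of the Borel subgroup has index `q + 1`. -/
theorem index_Bo_map :
    ((Bo : Subgroup (Matrix.SpecialLinearGroup (Fin 2) F)).map (mkP F)).index =
      Fintype.card F + 1 := by
  have h1 := Subgroup.index_mul_card
    ((Bo : Subgroup (Matrix.SpecialLinearGroup (Fin 2) F)).map (mkP F))
  have h2 := card_PSL2_mul (F := F)
  have h3 := card_Bo_map (F := F)
  have hq : 2 ≤ Fintype.card F := Fintype.one_lt_card
  rw [sq_sub_one_eq _ (by omega)] at h2
  have h4 : ((Bo : Subgroup (Matrix.SpecialLinearGroup (Fin 2) F)).map (mkP F)).index *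
      (Fintype.card F * (Fintype.card F - 1)) =
      (Fintype.card F + 1) * (Fintype.card F * (Fintype.card F - 1)) := by
    rw [← h3]
    calc _ = Nat.gcd 2 (Fintype.card F - 1) *
          (((Bo : Subgroup (Matrix.SpecialLinearGroup (Fin 2) F)).map (mkP F)).index *
          Nat.card ↥((Bo : Subgroup (Matrix.SpecialLinearGroup (Fin 2) F)).map (mkP F))) := by ring
      _ = Nat.gcd 2 (Fintype.card F - 1) *
          Nat.card (Matrix.ProjectiveSpecialLinearGroup (Fin 2) F) := by rw [h1]
      _ = Fintype.card F * ((Fintype.card F - 1) * (Fintype.card F + 1)) := h2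
      _ = _ := by rw [h3]; ring
  exact Nat.eq_of_mul_eq_mul_right (Nat.mul_pos (by omega) (by omega)) h4

/-- The image of the unitriangular group is a Sylow `p`-subgroup. -/
theorem sylow_Un (p : ℕ) [Fact p.Prime] [CharP F p] :
    ∃ P : Sylow p (Matrix.ProjectiveSpecialLinearGroup (Fin 2) F),
      (P : Subgroup (Matrix.ProjectiveSpecialLinearGroup (Fin 2) F)) =
        (Un : Subgroup (Matrix.SpecialLinearGroup (Fin 2) F)).map (mkP F) := by
  have hUn : IsPGroup p ↥(Un : Subgroup (Matrix.SpecialLinearGroup (Fin 2) F)) := by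
    intro g
    refine ⟨1, ?_⟩
    apply Subtype.ext
    simp only [pow_one, Subgroup.coe_pow, Subgroup.coe_one]
    exact pow_p_of_mem_Un g.2
  have hU1 : IsPGroup p ↥((Un : Subgroup (Matrix.SpecialLinearGroup (Fin 2) F)).map (mkP F)) :=
    hUn.map (mkP F)
  have hcU : Nat.card ↥((Un : Subgroup (Matrix.SpecialLinearGroup (Fin 2) F)).map (mkP F)) =
      Fintype.card F := by
    rw [← card_Un]
    symm
    apply Nat.card_congr
    refine Equiv.ofBijective ((mkP F).subgroupMap Un) ⟨?_, (mkP F).subgroupMap_surjective _⟩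
    rw [injective_iff_map_eq_one]
    intro u hu
    have h1 := congrArg Subtype.val hu
    simp only [MonoidHom.subgroupMap_apply_coe, Subgroup.coe_one] at h1
    apply Subtype.ext
    exact eq_one_of_mem_Ze_Un (mkP_eq_one_iff.1 h1) u.2
  have hU2 : ¬ p ∣ ((Un : Subgroup (Matrix.SpecialLinearGroup (Fin 2) F)).map (mkP F)).index := by
    intro hdvd
    have h1 := Subgroup.index_mul_card
      ((Un : Subgroup (Matrix.SpecialLinearGroup (Fin 2) F)).map (mkP F))
    rw [hcU] at h1
    have h2 := card_PSL2_mul (F := F)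
    rw [← h1] at h2
    have hq : 2 ≤ Fintype.card F := Fintype.one_lt_card
    have h3 : Nat.gcd 2 (Fintype.card F - 1) *
        ((Un : Subgroup (Matrix.SpecialLinearGroup (Fin 2) F)).map (mkP F)).index =
        Fintype.card F ^ 2 - 1 := by
      have : Fintype.card F * (Nat.gcd 2 (Fintype.card F - 1) *
        ((Un : Subgroup (Matrix.SpecialLinearGroup (Fin 2) F)).map (mkP F)).index) =
        Fintype.card F * (Fintype.card F ^ 2 - 1) := by rw [← h2]; ring
      exact Nat.eq_of_mul_eq_mul_left (by omega) this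
    have h4 : p ∣ Fintype.card F ^ 2 - 1 := by
      rw [← h3]; exact Dvd.dvd.mul_left hdvd _
    obtain ⟨n, -, hn⟩ := FiniteField.card F p
    have h5 : p ∣ Fintype.card F ^ 2 := by
      rw [hn, ← pow_mul]
      exact dvd_pow_self p (by positivity)
    have h6 : p ∣ 1 := by
      have h7 : Fintype.card F ^ 2 = (Fintype.card F ^ 2 - 1) + 1 := by
        have : 0 < Fintype.card F ^ 2 := by positivity
        omega
      rw [h7] at h5
      exact (Nat.dvd_add_right h4).1 h5
    exact (Fact.out : p.Prime).one_lt.ne' (Nat.dvd_one.1 h6)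
  exact ⟨hU1.toSylow hU2, rfl⟩

/-- The normaliser of the image of the unitriangular group lies in the image of the Borel
subgroup. -/
theorem normalizer_Un_le :
    Subgroup.normalizer (((Un : Subgroup (Matrix.SpecialLinearGroup (Fin 2) F)).map (mkP F) :
      Subgroup (Matrix.ProjectiveSpecialLinearGroup (Fin 2) F)) :
      Set (Matrix.ProjectiveSpecialLinearGroup (Fin 2) F)) ≤
      (Bo : Subgroup (Matrix.SpecialLinearGroup (Fin 2) F)).map (mkP F) := by
  intro y hy
  obtain ⟨g, rfl⟩ := mkP_surjective y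
  rw [Subgroup.mem_normalizer_iff] at hy
  have h1 := (hy (mkP F (uT 1))).1 (Subgroup.mem_map_of_mem _ (uT_mem_Un 1))
  obtain ⟨u, hu, hue⟩ := h1
  rw [← map_inv, ← map_mul, ← map_mul] at hue
  have h2 := mkP_eq_iff.1 hue
  have h3 : g * uT 1 * g⁻¹ ∈ (Bo : Subgroup (Matrix.SpecialLinearGroup (Fin 2) F)) := by
    have e : g * uT 1 * g⁻¹ = u * (u⁻¹ * (g * uT 1 * g⁻¹)) := by group
    rw [e]
    exact Subgroup.mul_mem _ (Un_le_Bo hu) (Ze_le_Bo h2)
  exact Subgroup.mem_map_of_mem _ (mem_Bo_of_conj (uT_mem_Un 1) (uT_ne_one one_ne_zero) h3)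

/-- The normaliser of a Sylow `p`-subgroup of `PSL(2, q)` has order at most `q (q - 1) / d`. -/
theorem card_normalizer_sylow_le (p : ℕ) [Fact p.Prime] [CharP F p]
    (P : Sylow p (Matrix.ProjectiveSpecialLinearGroup (Fin 2) F)) :
    Nat.gcd 2 (Fintype.card F - 1) * Nat.card ↥(Subgroup.normalizer
      ((P : Subgroup (Matrix.ProjectiveSpecialLinearGroup (Fin 2) F)) :
        Set (Matrix.ProjectiveSpecialLinearGroup (Fin 2) F))) ≤
      Fintype.card F * (Fintype.card F - 1) := by
  obtain ⟨P₀, hP₀⟩ := sylow_Un (F := F) p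
  have h1 : Nat.card (Sylow p (Matrix.ProjectiveSpecialLinearGroup (Fin 2) F)) =
      (Subgroup.normalizer ((P : Subgroup (Matrix.ProjectiveSpecialLinearGroup (Fin 2) F)) :
        Set (Matrix.ProjectiveSpecialLinearGroup (Fin 2) F))).index :=
    Sylow.card_eq_index_normalizer P
  have h2 : Nat.card (Sylow p (Matrix.ProjectiveSpecialLinearGroup (Fin 2) F)) =
      (Subgroup.normalizer ((P₀ : Subgroup (Matrix.ProjectiveSpecialLinearGroup (Fin 2) F)) :
        Set (Matrix.ProjectiveSpecialLinearGroup (Fin 2) F))).index :=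
    Sylow.card_eq_index_normalizer P₀
  have h3 := Subgroup.index_mul_card (Subgroup.normalizer
    ((P : Subgroup (Matrix.ProjectiveSpecialLinearGroup (Fin 2) F)) :
        Set (Matrix.ProjectiveSpecialLinearGroup (Fin 2) F)))
  have h4 := Subgroup.index_mul_card (Subgroup.normalizer
    ((P₀ : Subgroup (Matrix.ProjectiveSpecialLinearGroup (Fin 2) F)) :
        Set (Matrix.ProjectiveSpecialLinearGroup (Fin 2) F)))
  rw [← h1] at h3
  rw [← h2, ← h3] at h4
  have hpos : 0 < Nat.card (Sylow p (Matrix.ProjectiveSpecialLinearGroup (Fin 2) F)) :=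
    Nat.card_pos
  have h5 := Nat.eq_of_mul_eq_mul_left hpos h4
  rw [← h5, hP₀, ← card_Bo_map]
  exact Nat.mul_le_mul_left _ (Nat.card_mono (Set.toFinite _) normalizer_Un_le)

theorem card_alt (m : ℕ) (hm : 2 ≤ m) :
    2 * Nat.card (alternatingGroup (Fin m)) = m.factorial := by
  have hnt : Nontrivial (Fin m) := Fin.nontrivial_iff_two_le.2 hm
  have h := two_mul_card_alternatingGroup (α := Fin m)
  rw [Fintype.card_perm, Fintype.card_fin] at h
  rw [← h, Nat.card_eq_fintype_card]

theorem card_A4 : Nat.card (alternatingGroup (Fin 4)) = 12 := by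
  have h := card_alt 4 (by norm_num)
  have : Nat.factorial 4 = 24 := by decide
  omega

theorem card_A5 : Nat.card (alternatingGroup (Fin 5)) = 60 := by
  have h := card_alt 5 (by norm_num)
  have : Nat.factorial 5 = 120 := by decide
  omega

theorem card_S4 : Nat.card (Equiv.Perm (Fin 4)) = 24 := by
  rw [Nat.card_perm, Nat.card_fin]
  decide

end Cfsg.Agent.H18.Dk
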