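import Mathlib
import Cfsg.Agent.H18.DkMax
import Cfsg.Agent.H76.PermSolvable

/-!
# Solvable and non-solvable subgroups of `PSL(2, q)` (helper18)
-/

set_option autoImplicit false
set_option linter.unusedSectionVars false
set_option linter.unusedVariables false
set_option linter.deprecated false
set_option linter.unusedSimpArgs false

namespace Cfsg.Agent.H18.Dk

open Matrix Cfsg.Agent.H65.SL2 Cfsg.Agent.H29.Dk

/-- Dihedral groups are solvable. -/
theorem dihedral_solvable (k : ℕ) : Group.IsSolvable (DihedralGroup k) := by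
  let f : Multiplicative (ZMod k) →* DihedralGroup k :=
    { toFun := fun i => DihedralGroup.r (Multiplicative.toAdd i)
      map_one' := rfl
      map_mul' := fun a b => rfl }
  let g : DihedralGroup k →* Multiplicative (ZMod 2) :=
    { toFun := fun x => match x with
        | DihedralGroup.r _ => 1
        | DihedralGroup.sr _ => Multiplicative.ofAdd 1
      map_one' := rfl
      map_mul' := by
        rintro (a | a) (b | b)
        · rfl
        · rfl
        · rfl
        · show (1 : Multiplicative (ZMod 2)) = Multiplicative.ofAdd 1 * Multiplicative.ofAdd 1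
          decide }
  have hfg : g.ker ≤ f.range := by
    rintro (a | a) ha
    · exact ⟨Multiplicative.ofAdd a, rfl⟩
    · exfalso
      rw [MonoidHom.mem_ker] at ha
      have h1 : (Multiplicative.ofAdd 1 : Multiplicative (ZMod 2)) = 1 := ha
      revert h1
      decide
  exact Group.isSolvable_of_ker_le_range f g hfg

variable {F : Type*} [Field F]

theorem Un_comm (a b : ↥(Un : Subgroup (Matrix.SpecialLinearGroup (Fin 2) F))) : a * b = b * a :=
  Subtype.ext (comm_of_mem_UZ (Un_le_UZ a.2) (Un_le_UZ b.2))

/-- The Borel subgroup of `SL(2, F)` is solvable. -/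
theorem bo_solvable : Group.IsSolvable ↥(Bo : Subgroup (Matrix.SpecialLinearGroup (Fin 2) F)) := by
  have hne : ∀ g : ↥(Bo : Subgroup (Matrix.SpecialLinearGroup (Fin 2) F)), g.1.1 0 0 ≠ 0 := by
    intro g h
    have hd := det_eq g.1
    rw [mem_Bo.1 g.2, h] at hd
    simp at hd
  let g : ↥(Bo : Subgroup (Matrix.SpecialLinearGroup (Fin 2) F)) →* Fˣ :=
    { toFun := fun b => Units.mk0 (b.1.1 0 0) (hne b)
      map_one' := by
        apply Units.ext
        simp
      map_mul' := by
        intro a b
        apply Units.ext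
        simp only [Units.val_mk0, Units.val_mul, Subgroup.coe_mul]
        rw [mul00, mem_Bo.1 b.2, mul_zero, add_zero] }
  have hsolU : Group.IsSolvable ↥(Un : Subgroup (Matrix.SpecialLinearGroup (Fin 2) F)) :=
    Group.isSolvable_of_comm Un_comm
  have hfg : g.ker ≤ (Subgroup.inclusion (Un_le_Bo (F := F))).range := by
    intro b hb
    rw [MonoidHom.mem_ker] at hb
    have h1 : b.1.1 0 0 = 1 := by
      have := congrArg Units.val hb
      simpa [g] using this
    exact ⟨⟨b.1, mem_Un.2 ⟨mem_Bo.1 b.2, h1⟩⟩, rfl⟩
  exact Group.isSolvable_of_ker_le_range (Subgroup.inclusion (Un_le_Bo (F := F))) g hfg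

theorem bo_map_solvable :
    Group.IsSolvable ↥((Bo : Subgroup (Matrix.SpecialLinearGroup (Fin 2) F)).map (mkP F)) := by
  have := bo_solvable (F := F)
  exact Group.isSolvable_of_surjective ((mkP F).subgroupMap_surjective Bo)

/-- Normalisers of Sylow `p`-subgroups of `PSL(2, q)` are solvable. -/
theorem normalizer_sylow_solvable [Fintype F] (p : ℕ) [Fact p.Prime] [CharP F p]
    (P : Sylow p (Matrix.ProjectiveSpecialLinearGroup (Fin 2) F)) :
    Group.IsSolvable ↥(Subgroup.normalizer
      ((P : Subgroup (Matrix.ProjectiveSpecialLinearGroup (Fin 2) F)) :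
        Set (Matrix.ProjectiveSpecialLinearGroup (Fin 2) F))) := by
  obtain ⟨P₀, hP₀⟩ := sylow_Un (F := F) p
  obtain ⟨g, hg⟩ := MulAction.exists_smul_eq (Matrix.ProjectiveSpecialLinearGroup (Fin 2) F) P₀ P
  have h1 : (P : Subgroup (Matrix.ProjectiveSpecialLinearGroup (Fin 2) F)) =
      (P₀ : Subgroup (Matrix.ProjectiveSpecialLinearGroup (Fin 2) F)).map
        (MulAut.conj g).toMonoidHom := by
    rw [← hg, Sylow.coe_subgroup_smul, Subgroup.pointwise_smul_def]
    rfl
  rw [h1, ← Subgroup.map_equiv_normalizer_eq]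
  have h2 : Group.IsSolvable ↥(Subgroup.normalizer
      ((P₀ : Subgroup (Matrix.ProjectiveSpecialLinearGroup (Fin 2) F)) :
        Set (Matrix.ProjectiveSpecialLinearGroup (Fin 2) F))) := by
    have h3 := bo_map_solvable (F := F)
    have hle : Subgroup.normalizer
      ((P₀ : Subgroup (Matrix.ProjectiveSpecialLinearGroup (Fin 2) F)) :
        Set (Matrix.ProjectiveSpecialLinearGroup (Fin 2) F)) ≤
        (Bo : Subgroup (Matrix.SpecialLinearGroup (Fin 2) F)).map (mkP F) := by
      rw [hP₀]; exact normalizer_Un_le
    exact Group.isSolvable_of_isSolvable_injective (Subgroup.inclusion_injective hle)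
  exact Group.isSolvable_of_surjective
    ((MulAut.conj g).toMonoidHom.subgroupMap_surjective _)

/-- `PSL(2, K)` is solvable for `|K| ≤ 3`. -/
theorem psl_small_solvable {K : Type*} [Field K] [Fintype K] (hK : Fintype.card K ≤ 3) :
    Group.IsSolvable (Matrix.ProjectiveSpecialLinearGroup (Fin 2) K) := by
  classical
  have hfin : Finite (Projectivization K (Fin 2 → K)) := inferInstance
  have hft : Fintype (Projectivization K (Fin 2 → K)) := Fintype.ofFinite _
  have hcard : Fintype.card (Projectivization K (Fin 2 → K)) ≤ 4 := by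
    rw [← Nat.card_eq_fintype_card, Projectivization.card_of_finrank_two K (Fin 2 → K) (by simp),
      Nat.card_eq_fintype_card]
    omega
  have hsol := Cfsg.Agent.H76.isSolvable_perm_of_card_le_four hcard
  exact Group.isSolvable_of_isSolvable_injective
    (Matrix.ProjectiveSpecialLinearGroup.toPermHom_injective (K := K) (ι := Fin 2))

/-- `PGL(2, K)` is solvable for `|K| = 2`. -/
theorem pgl_two_solvable {K : Type*} [Field K] [Fintype K] (hK : Fintype.card K = 2) :
    Group.IsSolvable (Matrix.ProjGenLinGroup (Fin 2) K) := by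
  have h1 := psl_small_solvable (K := K) (by omega)
  have hsurj : Function.Surjective
      (Matrix.ProjectiveSpecialLinearGroup.toPGL (n := Fin 2) (R := K)) := by
    apply Matrix.ProjectiveSpecialLinearGroup.toPGL_surj_of_roots
    intro r
    have hsub : Subsingleton Kˣ := by
      rw [← Finite.card_le_one_iff_subsingleton, Nat.card_units, Nat.card_eq_fintype_card, hK]
    exact ⟨1, Subsingleton.elim _ _⟩
  exact Group.isSolvable_of_surjective hsurj

/-- `A₅` is not solvable. -/
theorem a5_not_solvable : ¬ Group.IsSolvable (alternatingGroup (Fin 5)) := by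
  intro h
  apply Equiv.Perm.not_isSolvable_fin_5
  apply Group.isSolvable_of_ker_le_range (alternatingGroup (Fin 5)).subtype
    (Equiv.Perm.sign (α := Fin 5))
  rw [Subgroup.range_subtype]
  rfl

theorem a4_solvable : Group.IsSolvable (alternatingGroup (Fin 4)) := by
  have := Cfsg.Agent.H76.isSolvable_perm_fin_four
  exact Group.isSolvable_of_isSolvable_injective
    (f := (alternatingGroup (Fin 4)).subtype) Subtype.val_injective


theorem exists_ne_sq {K : Type*} [Field K] [Fintype K] (hk4 : 4 ≤ Fintype.card K) :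
    ∃ a : K, a ≠ 0 ∧ a ^ 2 ≠ 1 := by
  classical
  by_contra hcon
  push Not at hcon
  have hsub : (Finset.univ : Finset K) ⊆ {0, 1, -1} := by
    intro a _
    by_cases ha : a = 0
    · simp [ha]
    · have h1 := hcon a ha
      have h2 : (a - 1) * (a + 1) = 0 := by linear_combination h1
      rcases mul_eq_zero.1 h2 with h | h
      · have : a = 1 := by linear_combination h
        simp [this]
      · have : a = -1 := by linear_combination h
        simp [this]
  have h3 := Finset.card_le_card hsub
  have h4 : ({0, 1, -1} : Finset K).card ≤ 3 := Finset.card_le_three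
  rw [Finset.card_univ] at h3
  omega

/-- Subfield subgroups over fields with at least four elements are proper and not solvable. -/
theorem exists_nonsolvable_subfield {K₀ : Type*} [Fintype F] [Field K₀] [Fintype K₀]
    (ι : K₀ →+* F) (hk4 : 4 ≤ Fintype.card K₀)
    (hkq : Fintype.card K₀ ^ 2 ≤ Fintype.card F) :
    ∃ H : Subgroup (Matrix.ProjectiveSpecialLinearGroup (Fin 2) F),
      H ≠ ⊤ ∧ ¬ Group.IsSolvable H := by
  refine ⟨((mkP F).comp (Matrix.SpecialLinearGroup.map (n := Fin 2) ι)).range, ?_, ?_⟩
  · intro htop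
    have hs : Function.Surjective ((mkP F).comp (Matrix.SpecialLinearGroup.map (n := Fin 2) ι)) :=
      MonoidHom.range_eq_top.1 htop
    have h1 := Nat.card_le_card_of_surjective _ hs
    rw [Cfsg.Agent.H44.card_SL2] at h1
    have hG := card_PSL2_mul (F := F)
    have hz : Nat.gcd 2 (Fintype.card F - 1) ≤ 2 :=
      Nat.le_of_dvd (by norm_num) (Nat.gcd_dvd_left _ _)
    generalize Fintype.card K₀ = k at *
    generalize Fintype.card F = q at *
    generalize Nat.card (Matrix.ProjectiveSpecialLinearGroup (Fin 2) F) = N at *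
    generalize Nat.gcd 2 (q - 1) = z at *
    have h2 : 4 * k ≤ k ^ 2 := by rw [pow_two]; exact Nat.mul_le_mul_right _ hk4
    have h3 : k ^ 2 ≤ q ^ 2 := by
      have : k ≤ q := by
        calc k ≤ 4 * k := by omega
          _ ≤ q := h2.trans hkq
      exact Nat.pow_le_pow_left this 2
    have h4 : 4 * k * (k ^ 2 - 1) ≤ q * (q ^ 2 - 1) :=
      Nat.mul_le_mul (h2.trans hkq) (by omega)
    have h5 : z * N ≤ 2 * (k * (k ^ 2 - 1)) := Nat.mul_le_mul hz h1
    have h6 : 0 < k * (k ^ 2 - 1) := by
      apply Nat.mul_pos (by omega)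
      have : 16 ≤ k ^ 2 := by
        calc 16 = 4 ^ 2 := by norm_num
          _ ≤ k ^ 2 := Nat.pow_le_pow_left hk4 2
      omega
    have h7 : 4 * k * (k ^ 2 - 1) = 4 * (k * (k ^ 2 - 1)) := by ring
    omega
  · intro hsol
    obtain ⟨a, ha, hasq⟩ := exists_ne_sq hk4
    have h0 : commutator (Matrix.SpecialLinearGroup (Fin 2) K₀) = ⊤ :=
      Matrix.SL2.commutator_eq_top ha hasq
    have hsurj := ((mkP F).comp (Matrix.SpecialLinearGroup.map (n := Fin 2) ι)).rangeRestrict_surjective
    have hperf : commutator ↥((mkP F).comp (Matrix.SpecialLinearGroup.map (n := Fin 2) ι)).range = ⊤ := by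
      rw [commutator_def, ← Subgroup.map_top_of_surjective _ hsurj, ← Subgroup.map_commutator,
        ← commutator_def, h0, Subgroup.map_top_of_surjective _ hsurj]
    have hnt : Nontrivial ↥((mkP F).comp (Matrix.SpecialLinearGroup.map (n := Fin 2) ι)).range := by
      refine ⟨⟨⟨_, MonoidHom.mem_range.2 ⟨uT 1, rfl⟩⟩, 1, ?_⟩⟩
      intro h
      have h1 := congrArg Subtype.val h
      simp only [MonoidHom.comp_apply, Subgroup.coe_one] at h1
      rw [map_uT', map_one, mkP_eq_one_iff] at h1
      exact uT_one_not_mem_Ze h1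
    exact (Group.IsSolvable.commutator_lt_top_of_nontrivial _).ne hperf

end Cfsg.Agent.H18.Dk
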