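import Mathlib
import Cfsg.Agent.H18.DkSolv
import Cfsg.Agent.H44.SL2TorusB

/-!
# Torus normalisers in `SL(2, q)` and their dihedral images in `PSL(2, q)` (helper18)
-/

set_option autoImplicit false
set_option linter.unusedSectionVars false
set_option linter.unusedVariables false
set_option linter.deprecated false
set_option linter.unusedSimpArgs false

namespace Cfsg.Agent.H18.Dk

open Matrix Cfsg.Agent.H65.SL2 Cfsg.Agent.H29.Dk

variable {F : Type*} [Field F]

/-- The precise dihedral structure behind `dk_dih`. -/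
theorem dih_iso [Fintype F]
    (L : Subgroup (Matrix.SpecialLinearGroup (Fin 2) F)) (hZL : (Ze : Subgroup _) ≤ L)
    {x : Matrix.SpecialLinearGroup (Fin 2) F} (hx : x ∈ L) (htr : tr x ^ 2 ≠ 4)
    (hN : L ≤ Nb L x) {τ : Matrix.SpecialLinearGroup (Fin 2) F} (hτ : τ ∈ L)
    (hτC : τ ∉ Cen L x) :
    Nonempty (↥(L.map (mkP F)) ≃* DihedralGroup (Nat.card ↥((Cen L x).map (mkP F)))) := by
  have hCle : Cen L x ≤ Subgroup.centralizer
      ({x} : Set (Matrix.SpecialLinearGroup (Fin 2) F)) := inf_le_right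
  have hCL : Cen L x ≤ L := inf_le_left
  have hZC : (Ze : Subgroup _) ≤ Cen L x := fun ζ hζ =>
    mem_Cen.2 ⟨hZL hζ, (Ze_comm hζ x).symm⟩
  have hcycC : IsCyclic ↥(Cen L x) := isCyclic_of_le_cen htr hCle
  obtain ⟨⟨ρ, hρC⟩, hgen⟩ := IsCyclic.exists_generator (α := ↥(Cen L x))
  have hCeq : Cen L x = Subgroup.zpowers ρ := by
    apply le_antisymm
    · intro c hc
      obtain ⟨n, hn⟩ := Subgroup.mem_zpowers_iff.1 (hgen ⟨c, hc⟩)
      have := congrArg Subtype.val hn
      simp only [Subgroup.coe_zpow] at this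
      rw [← this]
      exact Subgroup.zpow_mem_zpowers ρ n
    · rw [Subgroup.zpowers_le]; exact hρC
  have hcardC := card_map_mkP hZC
  have hcardL := card_map_mkP hZL
  have hzpos : 0 < Nat.card (Ze : Subgroup (Matrix.SpecialLinearGroup (Fin 2) F)) := Nat.card_pos
  have hNL : Nb L x = L := le_antisymm inf_le_left hN
  have hcard2 : Nat.card L = 2 * Nat.card (Cen L x) := by
    rcases nb_card' L hx htr with h | h
    · exfalso
      apply hτC
      rw [hNL] at h
      have := Subgroup.eq_of_le_of_card_ge hCL h.le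
      rw [this]; exact hτ
    · rw [hNL] at h; exact h
  have hcard : Nat.card ↥(L.map (mkP F)) = 2 * Nat.card ↥((Cen L x).map (mkP F)) := by
    rw [hcardC, hcardL] at hcard2
    have : Nat.card (Ze : Subgroup (Matrix.SpecialLinearGroup (Fin 2) F)) *
        Nat.card ↥(L.map (mkP F)) = Nat.card (Ze : Subgroup (Matrix.SpecialLinearGroup (Fin 2) F)) *
        (2 * Nat.card ↥((Cen L x).map (mkP F))) := by rw [hcard2]; ring
    exact Nat.eq_of_mul_eq_mul_left hzpos this
  have hne : NeZero (Nat.card ↥((Cen L x).map (mkP F))) := ⟨Nat.card_pos.ne'⟩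
  have hρL : ρ ∈ L := hCL hρC
  have hord : orderOf (⟨mkP F ρ, Subgroup.mem_map_of_mem _ hρL⟩ : ↥(L.map (mkP F))) =
      Nat.card ↥((Cen L x).map (mkP F)) := by
    rw [Subgroup.orderOf_mk, ← Nat.card_zpowers, ← MonoidHom.map_zpowers, ← hCeq]
  have hτnot : (⟨mkP F τ, Subgroup.mem_map_of_mem _ hτ⟩ : ↥(L.map (mkP F))) ∉
      Subgroup.zpowers (⟨mkP F ρ, Subgroup.mem_map_of_mem _ hρL⟩ : ↥(L.map (mkP F))) := by
    intro h
    obtain ⟨n, hn⟩ := Subgroup.mem_zpowers_iff.1 h
    have h1 := congrArg Subtype.val hn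
    simp only [Subgroup.coe_zpow] at h1
    rw [← map_zpow] at h1
    have h2 := mkP_eq_iff.1 h1
    apply hτC
    have h3 : τ = ρ ^ n * ((ρ ^ n)⁻¹ * τ) := by group
    rw [h3]
    exact (Cen L x).mul_mem ((Cen L x).zpow_mem hρC n) (hZC h2)
  have hτ2 : (⟨mkP F τ, Subgroup.mem_map_of_mem _ hτ⟩ : ↥(L.map (mkP F))) *
      ⟨mkP F τ, Subgroup.mem_map_of_mem _ hτ⟩ = 1 := by
    apply Subtype.ext
    simp only [Subgroup.coe_mul, Subgroup.coe_one]
    rw [← map_mul]
    exact mkP_eq_one_iff.2 (nb_sq L hx htr (hN hτ) hτC)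
  have hconj : (⟨mkP F τ, Subgroup.mem_map_of_mem _ hτ⟩ : ↥(L.map (mkP F))) *
      ⟨mkP F ρ, Subgroup.mem_map_of_mem _ hρL⟩ *
      (⟨mkP F τ, Subgroup.mem_map_of_mem _ hτ⟩ : ↥(L.map (mkP F)))⁻¹ =
      (⟨mkP F ρ, Subgroup.mem_map_of_mem _ hρL⟩ : ↥(L.map (mkP F)))⁻¹ := by
    apply Subtype.ext
    simp only [Subgroup.coe_mul, Subgroup.coe_inv]
    rw [← map_inv, ← map_mul, ← map_mul, ← map_inv]
    exact congrArg (mkP F) (nb_inv_all L hx htr (hN hτ) hτC hρC)
  exact Cfsg.Agent.H3.dihedral_of_gens _ hcard _ _ hord hτnot hτ2 hconj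

/-- The normaliser of the torus through `x`. -/
def NT (x : Matrix.SpecialLinearGroup (Fin 2) F) : Subgroup (Matrix.SpecialLinearGroup (Fin 2) F) :=
  Subgroup.normalizer (Subgroup.centralizer ({x} : Set (Matrix.SpecialLinearGroup (Fin 2) F)) :
    Set (Matrix.SpecialLinearGroup (Fin 2) F))

theorem cen_le_NT (x : Matrix.SpecialLinearGroup (Fin 2) F) :
    Subgroup.centralizer ({x} : Set (Matrix.SpecialLinearGroup (Fin 2) F)) ≤ NT x :=
  Subgroup.le_normalizer

theorem Ze_le_cen (x : Matrix.SpecialLinearGroup (Fin 2) F) :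
    (Ze : Subgroup _) ≤ Subgroup.centralizer ({x} : Set (Matrix.SpecialLinearGroup (Fin 2) F)) := by
  intro ζ hζ
  rw [Subgroup.mem_centralizer_iff]
  intro y hy
  rw [Set.mem_singleton_iff] at hy
  rw [hy]
  exact (Ze_comm hζ x).symm

theorem Ze_le_NT (x : Matrix.SpecialLinearGroup (Fin 2) F) : (Ze : Subgroup _) ≤ NT x :=
  (Ze_le_cen x).trans (cen_le_NT x)

theorem Cen_NT (x : Matrix.SpecialLinearGroup (Fin 2) F) :
    Cen (NT x) x = Subgroup.centralizer ({x} : Set (Matrix.SpecialLinearGroup (Fin 2) F)) :=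
  inf_eq_right.2 (cen_le_NT x)

theorem Nb_NT (x : Matrix.SpecialLinearGroup (Fin 2) F) : Nb (NT x) x = NT x := by
  unfold Nb
  rw [Cen_NT]
  exact inf_idem _

theorem mem_NT_of_inv {x τ : Matrix.SpecialLinearGroup (Fin 2) F} (h : τ * x * τ⁻¹ = x⁻¹) :
    τ ∈ NT x := by
  unfold NT
  rw [Subgroup.mem_normalizer_iff]
  intro c
  rw [Subgroup.mem_centralizer_iff, Subgroup.mem_centralizer_iff]
  have h' : τ⁻¹ * x * τ = x⁻¹ := by
    have : x = τ⁻¹ * x⁻¹ * τ := by rw [← h]; group
    calc τ⁻¹ * x * τ = τ⁻¹ * (τ⁻¹ * x⁻¹ * τ) * τ := by rw [← this]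
      _ = τ⁻¹ * (τ⁻¹ * x⁻¹ * τ) * τ := rfl
      _ = (τ⁻¹ * x * τ)⁻¹⁻¹ := by rw [inv_inv]; rw [← this]
      _ = x⁻¹ := by
        have e : (τ⁻¹ * x * τ)⁻¹ = τ⁻¹ * x⁻¹ * τ := by group
        rw [e, ← this]
  constructor
  · intro hc y hy
    rw [Set.mem_singleton_iff] at hy
    subst hy
    have hcy := hc y (Set.mem_singleton y)
    -- y commutes with c; show y commutes with τ c τ⁻¹
    have e1 : y = τ * y⁻¹ * τ⁻¹ := by
      have : τ * y⁻¹ * τ⁻¹ = (τ * y * τ⁻¹)⁻¹ := by group
      rw [this, h, inv_inv]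
    have hcy' : y⁻¹ * c = c * y⁻¹ := by
      calc y⁻¹ * c = y⁻¹ * (c * y) * y⁻¹ := by group
        _ = y⁻¹ * (y * c) * y⁻¹ := by rw [hcy]
        _ = c * y⁻¹ := by group
    calc y * (τ * c * τ⁻¹) = (τ * y⁻¹ * τ⁻¹) * (τ * c * τ⁻¹) := by rw [← e1]
      _ = τ * (y⁻¹ * c) * τ⁻¹ := by group
      _ = τ * (c * y⁻¹) * τ⁻¹ := by rw [hcy']
      _ = (τ * c * τ⁻¹) * (τ * y⁻¹ * τ⁻¹) := by group
      _ = (τ * c * τ⁻¹) * y := by rw [← e1]
  · intro hc y hy
    rw [Set.mem_singleton_iff] at hy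
    subst hy
    have hcy := hc y (Set.mem_singleton y)
    have e1 : y⁻¹ = τ⁻¹ * y * τ := h'.symm
    have h2 : y⁻¹ * c = c * y⁻¹ := by
      calc y⁻¹ * c = (τ⁻¹ * y * τ) * c := by rw [← e1]
        _ = τ⁻¹ * (y * (τ * c * τ⁻¹)) * τ := by group
        _ = τ⁻¹ * ((τ * c * τ⁻¹) * y) * τ := by rw [hcy]
        _ = c * (τ⁻¹ * y * τ) := by group
        _ = c * y⁻¹ := by rw [← e1]
    calc y * c = y * (c * y⁻¹) * y := by group
      _ = y * (y⁻¹ * c) * y := by rw [h2]
      _ = c * y := by group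

/-- The image in `PSL(2, q)` of the normaliser of the torus through `x` is dihedral of order
`2 |C(x)| / d`, as soon as some element inverts `x`. -/
theorem torus_dih [Fintype F] {x τ : Matrix.SpecialLinearGroup (Fin 2) F} (htr : tr x ^ 2 ≠ 4)
    (hτ : τ * x * τ⁻¹ = x⁻¹) :
    Nonempty (↥((NT x).map (mkP F)) ≃* DihedralGroup
      (Nat.card (Subgroup.centralizer ({x} : Set (Matrix.SpecialLinearGroup (Fin 2) F))) /
        Nat.gcd 2 (Fintype.card F - 1))) := by
  have hx : x ∈ NT x := cen_le_NT x (Subgroup.mem_centralizer_iff.2 (fun y hy => by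
    rw [Set.mem_singleton_iff] at hy; rw [hy]))
  have hτN : τ ∈ NT x := mem_NT_of_inv hτ
  have hτC : τ ∉ Cen (NT x) x := by
    intro h
    have h1 := (mem_Cen.1 h).2
    have h2 : x = x⁻¹ := by
      calc x = (x * τ) * τ⁻¹ := by group
        _ = (τ * x) * τ⁻¹ := by rw [h1]
        _ = x⁻¹ := hτ
    have h3 : x * x = 1 := by
      nth_rewrite 2 [h2]
      exact mul_inv_cancel x
    exact sq_ne_one_of_semi htr h3
  obtain ⟨e⟩ := dih_iso (NT x) (Ze_le_NT x) hx htr (Nb_NT x).ge hτN hτC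
  have hcard := card_map_mkP (F := F) (Ze_le_cen x)
  rw [card_Ze] at hcard
  have hpos : 0 < Nat.gcd 2 (Fintype.card F - 1) := Nat.gcd_pos_of_pos_left _ (by norm_num)
  have hk : Nat.card ↥((Cen (NT x) x).map (mkP F)) =
      Nat.card (Subgroup.centralizer ({x} : Set (Matrix.SpecialLinearGroup (Fin 2) F))) /
        Nat.gcd 2 (Fintype.card F - 1) := by
    rw [Cen_NT, hcard, Nat.mul_div_cancel_left _ hpos]
  rw [hk] at e
  exact ⟨e⟩

/-! ### The non-split torus -/

theorem exists_no_root [Finite F] : ∃ t : F, ∀ a : F, a ^ 2 - t * a + 1 ≠ 0 := by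
  by_contra hcon
  push Not at hcon
  choose a ha using hcon
  have hinj : Function.Injective a := by
    intro s t hst
    have h1 := ha s
    have h2 := ha t
    rw [hst] at h1
    have h0 : a t ≠ 0 := by
      intro h0; rw [h0] at h2; simp at h2
    have : (s - t) * a t = 0 := by linear_combination h2 - h1
    rcases mul_eq_zero.1 this with h | h
    · exact sub_eq_zero.1 h
    · exact absurd h h0
  obtain ⟨t, ht⟩ := Finite.injective_iff_surjective.1 hinj 0
  have := ha t
  rw [ht] at this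
  simp at this

theorem tr_sq_of_no_root {t : F} (h : ∀ a : F, a ^ 2 - t * a + 1 ≠ 0) : t ^ 2 ≠ 4 := by
  intro h4
  have : (t - 2) * (t + 2) = 0 := by linear_combination h4
  rcases mul_eq_zero.1 this with h' | h'
  · exact h 1 (by linear_combination -h')
  · exact h (-1) (by linear_combination h')

/-- An element of trace `t`. -/
def elE (t : F) : Matrix.SpecialLinearGroup (Fin 2) F :=
  ⟨!![0, -1; 1, t], by simp [Matrix.det_fin_two]⟩

theorem tr_elE (t : F) : tr (elE t) = t := by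
  unfold tr elE
  simp

theorem ell_card_cen [Fintype F] {x : Matrix.SpecialLinearGroup (Fin 2) F}
    (hroot : ∀ a : F, a ^ 2 - tr x * a + 1 ≠ 0) :
    Nat.card (Subgroup.centralizer ({x} : Set (Matrix.SpecialLinearGroup (Fin 2) F))) =
      Fintype.card F + 1 ∧ ∃ τ : Matrix.SpecialLinearGroup (Fin 2) F, τ * x * τ⁻¹ = x⁻¹ := by
  have htr : tr x ^ 2 ≠ 4 := tr_sq_of_no_root hroot
  have h1 := Cfsg.Agent.H44.card_carrier_mul_card_centralizer x
  have h2 : Nat.card ({h : Matrix.SpecialLinearGroup (Fin 2) F | h.1 0 0 + h.1 1 1 = tr x} :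
      Set (Matrix.SpecialLinearGroup (Fin 2) F)) = Fintype.card F * (Fintype.card F - 1) :=
    Cfsg.Agent.H44.card_trace_class _ hroot
  have hsub : (ConjClasses.mk x).carrier ⊆
      {h : Matrix.SpecialLinearGroup (Fin 2) F | h.1 0 0 + h.1 1 1 = tr x} := by
    intro h hh
    rw [ConjClasses.mem_carrier_iff_mk_eq, ConjClasses.mk_eq_mk_iff_isConj, isConj_comm,
      isConj_iff] at hh
    obtain ⟨c, hc⟩ := hh
    rw [Set.mem_ofPred_eq, ← hc]
    exact tr_conj c x
  have hle : Nat.card (ConjClasses.mk x).carrier ≤ Fintype.card F * (Fintype.card F - 1) := by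
    rw [← h2]
    exact Nat.card_mono (Set.toFinite _) hsub
  rw [Cfsg.Agent.H44.card_SL2] at h1
  have hq : 2 ≤ Fintype.card F := Fintype.one_lt_card
  rw [sq_sub_one_eq _ (by omega)] at h1
  have hc : Nat.card (Subgroup.centralizer ({x} : Set (Matrix.SpecialLinearGroup (Fin 2) F))) =
      Fintype.card F + 1 := by
    have hpos : 0 < Fintype.card F * (Fintype.card F - 1) := Nat.mul_pos (by omega) (by omega)
    rcases cen_card_dvd htr with h | h
    · exfalso
      have h3 := Nat.le_of_dvd (by omega) h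
      have h4 : Nat.card (ConjClasses.mk x).carrier *
          Nat.card (Subgroup.centralizer ({x} : Set (Matrix.SpecialLinearGroup (Fin 2) F))) ≤
          Fintype.card F * (Fintype.card F - 1) * (Fintype.card F - 1) := Nat.mul_le_mul hle h3
      rw [h1] at h4
      have h5 : Fintype.card F * ((Fintype.card F - 1) * (Fintype.card F + 1)) =
          Fintype.card F * (Fintype.card F - 1) * (Fintype.card F + 1) := by ring
      rw [h5] at h4
      have h6 := Nat.le_of_mul_le_mul_left h4 hpos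
      omega
    · have h3 := Nat.le_of_dvd (by omega) h
      by_contra hne
      have hlt : Nat.card (Subgroup.centralizer
          ({x} : Set (Matrix.SpecialLinearGroup (Fin 2) F))) < Fintype.card F + 1 :=
        lt_of_le_of_ne h3 hne
      have h4 : Nat.card (ConjClasses.mk x).carrier *
          Nat.card (Subgroup.centralizer ({x} : Set (Matrix.SpecialLinearGroup (Fin 2) F))) <
          Fintype.card F * (Fintype.card F - 1) * (Fintype.card F + 1) :=
        lt_of_le_of_lt (Nat.mul_le_mul_right _ hle) (Nat.mul_lt_mul_of_pos_left hlt hpos)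
      rw [h1] at h4
      have h5 : Fintype.card F * ((Fintype.card F - 1) * (Fintype.card F + 1)) =
          Fintype.card F * (Fintype.card F - 1) * (Fintype.card F + 1) := by ring
      rw [h5] at h4
      exact lt_irrefl _ h4
  refine ⟨hc, ?_⟩
  rw [hc] at h1
  have hcls : Nat.card (ConjClasses.mk x).carrier = Fintype.card F * (Fintype.card F - 1) := by
    have h5 : Nat.card (ConjClasses.mk x).carrier * (Fintype.card F + 1) =
        Fintype.card F * (Fintype.card F - 1) * (Fintype.card F + 1) := by rw [h1]; ring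
    exact Nat.eq_of_mul_eq_mul_right (by omega) h5
  have heq : (ConjClasses.mk x).carrier =
      {h : Matrix.SpecialLinearGroup (Fin 2) F | h.1 0 0 + h.1 1 1 = tr x} := by
    apply Set.eq_of_subset_of_ncard_le hsub _ (Set.toFinite _)
    have e1 : ({h : Matrix.SpecialLinearGroup (Fin 2) F | h.1 0 0 + h.1 1 1 = tr x} :
      Set (Matrix.SpecialLinearGroup (Fin 2) F)).ncard = Fintype.card F * (Fintype.card F - 1) := h2
    have e2 : (ConjClasses.mk x).carrier.ncard = Fintype.card F * (Fintype.card F - 1) := hcls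
    rw [e1, e2]
  have hinv : x⁻¹ ∈ (ConjClasses.mk x).carrier := by
    rw [heq, Set.mem_ofPred_eq, inv00, inv11]
    unfold tr; ring
  rw [ConjClasses.mem_carrier_iff_mk_eq, ConjClasses.mk_eq_mk_iff_isConj, isConj_comm,
    isConj_iff] at hinv
  exact hinv

/-- The non-split torus normaliser: a dihedral subgroup of order `2 (q + 1) / d`. -/
theorem exists_dih_add [Fintype F] :
    ∃ H : Subgroup (Matrix.ProjectiveSpecialLinearGroup (Fin 2) F),
      Nonempty (↥H ≃* DihedralGroup ((Fintype.card F + 1) / Nat.gcd 2 (Fintype.card F - 1))) := by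
  obtain ⟨t, ht⟩ := exists_no_root (F := F)
  have hroot : ∀ a : F, a ^ 2 - tr (elE t) * a + 1 ≠ 0 := by rw [tr_elE]; exact ht
  obtain ⟨hc, τ, hτ⟩ := ell_card_cen hroot
  have h := torus_dih (tr_sq_of_no_root hroot) hτ
  rw [hc] at h
  exact ⟨_, h⟩

/-! ### The split torus -/

/-- The Weyl element. -/
def wE : Matrix.SpecialLinearGroup (Fin 2) F :=
  ⟨!![0, 1; -1, 0], by simp [Matrix.det_fin_two]⟩

theorem wE_conj (u : Fˣ) : (wE : Matrix.SpecialLinearGroup (Fin 2) F) * boEl 0 u * wE⁻¹ =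
    (boEl 0 u)⁻¹ := by
  apply ext4 <;> simp only [mul00, mul01, mul10, mul11, inv00, inv01, inv10, inv11, boEl00,
    boEl01, boEl10, boEl11] <;> simp [wE]

theorem exists_sq_ne_one [Fintype F] (hq : 4 ≤ Fintype.card F) : ∃ u : Fˣ, (u : F) ^ 2 ≠ 1 := by
  classical
  by_contra hcon
  push Not at hcon
  have hsub : (Finset.univ : Finset F) ⊆ {0, 1, -1} := by
    intro a _
    simp only [Finset.mem_insert, Finset.mem_singleton]
    by_cases ha : a = 0
    · left; exact ha
    · right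
      have h := hcon (Units.mk0 a ha)
      rw [Units.val_mk0] at h
      have h2 : (a - 1) * (a + 1) = 0 := by linear_combination h
      rcases mul_eq_zero.1 h2 with h3 | h3
      · left; linear_combination h3
      · right; linear_combination h3
  have h1 := Finset.card_le_card hsub
  have h2 : ({0, 1, -1} : Finset F).card ≤ 3 := Finset.card_le_three
  rw [Finset.card_univ] at h1
  omega

/-- The split torus normaliser: a dihedral subgroup of order `2 (q - 1) / d`. -/
theorem exists_dih_sub [Fintype F] (hq : 4 ≤ Fintype.card F) :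
    ∃ H : Subgroup (Matrix.ProjectiveSpecialLinearGroup (Fin 2) F),
      Nonempty (↥H ≃* DihedralGroup ((Fintype.card F - 1) / Nat.gcd 2 (Fintype.card F - 1))) := by
  obtain ⟨u, hu⟩ := exists_sq_ne_one hq
  have hc := Cfsg.Agent.H44.sl2_card_centralizer_diag (boEl 0 u) rfl rfl hu
  have htr : tr (boEl 0 u) ^ 2 ≠ 4 := Cfsg.Agent.H44.sl2_trace_sq_diag (boEl 0 u) rfl hu
  have h := torus_dih htr (wE_conj u)
  rw [hc] at h
  exact ⟨_, h⟩

end Cfsg.Agent.H18.Dk
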