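import Mathlib
import Cfsg.Agent.H18.DkTor
import Cfsg.Agent.S0806

/-!
# Maximality of the dihedral torus normalisers in `PSL(2, q)` (helper18)
-/

set_option autoImplicit false
set_option linter.unusedSectionVars false
set_option linter.unusedVariables false
set_option linter.deprecated false
set_option linter.unusedSimpArgs false

namespace Cfsg.Agent.H18.Dk

open Matrix Cfsg.Agent.H65.SL2 Cfsg.Agent.H29.Dk

/-! ### Element orders in small groups -/

theorem a4_pow : ∀ g : alternatingGroup (Fin 4), g ^ 2 = 1 ∨ g ^ 3 = 1 := by decide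

set_option maxRecDepth 100000 in
theorem s4_pow : ∀ g : Equiv.Perm (Fin 4), g ^ 2 = 1 ∨ g ^ 3 = 1 ∨ g ^ 4 = 1 := by decide

set_option maxRecDepth 100000 in
theorem a5_pow : ∀ g : Equiv.Perm (Fin 5), Equiv.Perm.sign g = 1 →
    g ^ 2 = 1 ∨ g ^ 3 = 1 ∨ g ^ 5 = 1 := by decide

theorem order_A4 {X : Type*} [Group X] (f : X ≃* alternatingGroup (Fin 4)) (g : X) :
    orderOf g ∣ 2 ∨ orderOf g ∣ 3 := by
  rw [← f.orderOf_eq g]
  rcases a4_pow (f g) with h | h
  · left; exact orderOf_dvd_of_pow_eq_one h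
  · right; exact orderOf_dvd_of_pow_eq_one h

theorem order_S4 {X : Type*} [Group X] (f : X ≃* Equiv.Perm (Fin 4)) (g : X) :
    orderOf g ∣ 2 ∨ orderOf g ∣ 3 ∨ orderOf g ∣ 4 := by
  rw [← f.orderOf_eq g]
  rcases s4_pow (f g) with h | h | h
  · left; exact orderOf_dvd_of_pow_eq_one h
  · right; left; exact orderOf_dvd_of_pow_eq_one h
  · right; right; exact orderOf_dvd_of_pow_eq_one h

theorem order_A5 {X : Type*} [Group X] (f : X ≃* alternatingGroup (Fin 5)) (g : X) :
    orderOf g ∣ 2 ∨ orderOf g ∣ 3 ∨ orderOf g ∣ 5 := by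
  rw [← f.orderOf_eq g]
  have hs : Equiv.Perm.sign (f g).1 = 1 := Equiv.Perm.mem_alternatingGroup.1 (f g).2
  rcases a5_pow (f g).1 hs with h | h | h
  · left; exact orderOf_dvd_of_pow_eq_one (Subtype.ext (by simpa using h))
  · right; left; exact orderOf_dvd_of_pow_eq_one (Subtype.ext (by simpa using h))
  · right; right; exact orderOf_dvd_of_pow_eq_one (Subtype.ext (by simpa using h))

theorem alt_no_index_two (m : ℕ) (K : Subgroup (alternatingGroup (Fin m))) : K.index ≠ 2 := by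
  intro h
  have hsq : ∀ a : alternatingGroup (Fin m), a * a ∈ K :=
    fun a => Subgroup.mul_self_mem_of_index_two h a
  have htop : K = ⊤ := by
    rw [eq_top_iff]
    intro a _
    have ha : (a : Equiv.Perm (Fin m)) ∈ K.map (alternatingGroup (Fin m)).subtype := by
      have h1 : Subgroup.closure {σ : Equiv.Perm (Fin m) | Equiv.Perm.IsThreeCycle σ} ≤
          K.map (alternatingGroup (Fin m)).subtype := by
        rw [Subgroup.closure_le]
        intro σ hσ
        have hσ3 : Equiv.Perm.IsThreeCycle σ := hσ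
        have hmem : σ ∈ alternatingGroup (Fin m) := hσ3.mem_alternatingGroup
        refine ⟨(⟨σ, hmem⟩ * ⟨σ, hmem⟩) * (⟨σ, hmem⟩ * ⟨σ, hmem⟩), hsq _, ?_⟩
        simp only [Subgroup.coe_subtype, Subgroup.coe_mul]
        have h3 : σ ^ 3 = 1 := by rw [← hσ3.orderOf]; exact pow_orderOf_eq_one σ
        calc σ * σ * (σ * σ) = σ ^ 3 * σ := by simp [pow_succ, mul_assoc]
          _ = σ := by rw [h3, one_mul]
      rw [Equiv.Perm.closure_three_cycles_eq_alternating] at h1
      exact h1 a.2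
    obtain ⟨b, hb, hba⟩ := ha
    have : b = a := Subtype.ext hba
    rw [← this]; exact hb
  rw [htop, Subgroup.index_top] at h
  omega

theorem no_index_two_A4 {G : Type*} [Group G] (H M : Subgroup G) (hle : H ≤ M)
    (f : ↥M ≃* alternatingGroup (Fin 4)) (hH : Nat.card H = 6) : False := by
  have hM : Nat.card M = 12 := by rw [Nat.card_congr f.toEquiv, card_A4]
  have h1 := Subgroup.card_mul_index (H.subgroupOf M)
  rw [Nat.card_congr (Subgroup.subgroupOfEquivOfLe hle).toEquiv, hH, hM] at h1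
  have h2 : (H.subgroupOf M).index = 2 := by omega
  apply alt_no_index_two 4 ((H.subgroupOf M).map (f : ↥M →* alternatingGroup (Fin 4)))
  rw [Subgroup.index_map_equiv]
  exact h2

theorem exists_order_of_dih {G : Type*} [Group G] (H : Subgroup G) (n : ℕ)
    (e : ↥H ≃* DihedralGroup n) : ∃ g : H, orderOf g = n := by
  refine ⟨e.symm (DihedralGroup.r 1), ?_⟩
  rw [e.symm.orderOf_eq, DihedralGroup.orderOf_r_one]

/-! ### Element orders in `PGL(2, K)` -/

theorem cayley2 {K : Type*} [Field K] (A : Matrix (Fin 2) (Fin 2) K) :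
    A * A = A.trace • A - A.det • (1 : Matrix (Fin 2) (Fin 2) K) := by
  ext i j
  fin_cases i <;> fin_cases j <;>
    simp [Matrix.mul_apply, Fin.sum_univ_two, Matrix.det_fin_two, Matrix.trace_fin_two] <;> ring

theorem pow_mem_span {K : Type*} [Field K] (A : Matrix (Fin 2) (Fin 2) K) (i : ℕ) :
    ∃ a b : K, A ^ i = a • (1 : Matrix (Fin 2) (Fin 2) K) + b • A := by
  induction i with
  | zero => exact ⟨1, 0, by simp⟩
  | succ i ih =>
    obtain ⟨a, b, h⟩ := ih
    refine ⟨-(b * A.det), a + b * A.trace, ?_⟩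
    rw [pow_succ, h, add_mul, smul_mul_assoc, smul_mul_assoc, one_mul, cayley2]
    module

theorem pgl_order_le {K : Type*} [Field K] [Fintype K] (y : Matrix.ProjGenLinGroup (Fin 2) K) :
    orderOf y ≤ Fintype.card K + 1 := by
  classical
  induction y using Matrix.ProjGenLinGroup.induction_on with | mk g =>
  have hfin : Finite (Matrix.ProjGenLinGroup (Fin 2) K) :=
    Finite.of_surjective _ (Matrix.ProjGenLinGroup.mk_surjective (n := Fin 2) (R := K))
  set n := orderOf (Matrix.ProjGenLinGroup.mk g) with hn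
  have hnpos : 0 < n := orderOf_pos _
  let f : Kˣ × Fin n → Matrix (Fin 2) (Fin 2) K := fun ci => (ci.1 : K) • (g ^ (ci.2 : ℕ)).val
  have hscal : ∀ (c : Kˣ) (x : GL (Fin 2) K), (c : K) • x.val =
      (Matrix.GeneralLinearGroup.scalar (Fin 2) c * x).val := by
    intro c x
    rw [Units.val_mul, GeneralLinearGroup.coe_scalar]
    ext i j
    simp [Matrix.mul_apply, Matrix.scalar_apply, Matrix.diagonal_apply, Fin.sum_univ_two]
  have hinj : Function.Injective f := by
    rintro ⟨c, i⟩ ⟨c', j⟩ h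
    simp only [f] at h
    rw [hscal, hscal] at h
    have h' : Matrix.GeneralLinearGroup.scalar (Fin 2) c * g ^ (i : ℕ) =
        Matrix.GeneralLinearGroup.scalar (Fin 2) c' * g ^ (j : ℕ) := Units.ext h
    have h2 := congrArg Matrix.ProjGenLinGroup.mk h'
    rw [map_mul, map_mul, Matrix.ProjGenLinGroup.mk_scalar, Matrix.ProjGenLinGroup.mk_scalar,
      one_mul, one_mul, map_pow, map_pow] at h2
    have h3 : (i : ℕ) = j := by
      have := (pow_inj_mod).1 h2
      rw [← hn, Nat.mod_eq_of_lt i.2, Nat.mod_eq_of_lt j.2] at this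
      exact this
    have hij : i = j := Fin.ext h3
    subst hij
    have h4 : Matrix.GeneralLinearGroup.scalar (Fin 2) c =
        Matrix.GeneralLinearGroup.scalar (Fin 2) c' := mul_right_cancel h'
    have h5 := congrArg (fun x : GL (Fin 2) K => x.val 0 0) h4
    simp only [GeneralLinearGroup.coe_scalar, Matrix.scalar_apply, Matrix.diagonal_apply_eq] at h5
    rw [Units.ext h5]
  have himg : ∀ ci, f ci ∈
      (fun ab : K × K => ab.1 • (1 : Matrix (Fin 2) (Fin 2) K) + ab.2 • g.val) ''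
      {ab : K × K | ab ≠ 0} := by
    rintro ⟨c, i⟩
    obtain ⟨a, b, hab⟩ := pow_mem_span g.val i
    refine ⟨(c * a, c * b), ?_, ?_⟩
    · intro h0
      have h1 : (c : K) * a = 0 := congrArg Prod.fst h0
      have h2 : (c : K) * b = 0 := congrArg Prod.snd h0
      have ha : a = 0 := (mul_eq_zero.1 h1).resolve_left c.ne_zero
      have hb : b = 0 := (mul_eq_zero.1 h2).resolve_left c.ne_zero
      rw [ha, hb] at hab
      simp only [zero_smul, add_zero] at hab
      have h3 : ((g ^ (i : ℕ) : GL (Fin 2) K)).val = 0 := by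
        rw [Units.val_pow_eq_pow_val]; exact hab
      have h4 := (g ^ (i : ℕ)).val_inv
      rw [h3, zero_mul] at h4
      have h5 := congrFun (congrFun h4 0) 0
      simp at h5
    · simp only [f]
      rw [Units.val_pow_eq_pow_val, hab]
      module
  have hcard : Fintype.card (Kˣ × Fin n) ≤ Fintype.card K ^ 2 - 1 := by
    have h1 : Set.ncard (Set.range f) = Fintype.card (Kˣ × Fin n) := by
      rw [Set.ncard_range_of_injective hinj, Nat.card_eq_fintype_card]
    have h2 : Set.range f ⊆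
        (fun ab : K × K => ab.1 • (1 : Matrix (Fin 2) (Fin 2) K) + ab.2 • g.val) ''
        {ab : K × K | ab ≠ 0} := by
      rintro _ ⟨ci, rfl⟩; exact himg ci
    have h3 := Set.ncard_le_ncard h2 (Set.toFinite _)
    have h4 := Set.ncard_image_le
      (f := fun ab : K × K => ab.1 • (1 : Matrix (Fin 2) (Fin 2) K) + ab.2 • g.val)
      (s := {ab : K × K | ab ≠ 0}) (Set.toFinite _)
    have h5 : Set.ncard {ab : K × K | ab ≠ 0} = Fintype.card K ^ 2 - 1 := by
      have : {ab : K × K | ab ≠ 0} = ({0} : Set (K × K))ᶜ := by ext; simp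
      rw [this, Set.ncard_compl, Set.ncard_singleton, Nat.card_prod, Nat.card_eq_fintype_card,
        pow_two]
    omega
  rw [Fintype.card_prod, Fintype.card_units, Fintype.card_fin] at hcard
  have hk : 2 ≤ Fintype.card K := Fintype.one_lt_card
  obtain ⟨r, hr⟩ : ∃ r, Fintype.card K = r + 1 := ⟨Fintype.card K - 1, by omega⟩
  rw [hr] at hcard ⊢
  have e : (r + 1) ^ 2 - 1 = r * (r + 2) := by
    have : (r + 1) ^ 2 = r * (r + 2) + 1 := by ring
    omega
  rw [e, Nat.add_sub_cancel] at hcard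
  have := Nat.le_of_mul_le_mul_left hcard (by omega)
  omega

theorem psl_order_le {K : Type*} [Field K] [Fintype K]
    (y : Matrix.ProjectiveSpecialLinearGroup (Fin 2) K) : orderOf y ≤ Fintype.card K + 1 := by
  rw [← orderOf_injective (Matrix.ProjectiveSpecialLinearGroup.toPGL (n := Fin 2) (R := K))
    Matrix.ProjectiveSpecialLinearGroup.toPGL_injective y]
  exact pgl_order_le _

/-! ### Numerical lemmas -/

theorem num_alt_add (q cG cM : ℕ) (hq3 : 3 ≤ q) (hq7 : q ≠ 7) (hq9 : q ≠ 9)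
    (hG : cG = q * (q - 1) * ((q + 1) / Nat.gcd 2 (q - 1))) (hdvd : cM ∣ cG) (hlt : cM < cG)
    (hM : (cM = 12 ∧ ((q + 1) / Nat.gcd 2 (q - 1) ∣ 2 ∨ (q + 1) / Nat.gcd 2 (q - 1) ∣ 3)) ∨
      (cM = 24 ∧ ((q + 1) / Nat.gcd 2 (q - 1) ∣ 2 ∨ (q + 1) / Nat.gcd 2 (q - 1) ∣ 3 ∨
        (q + 1) / Nat.gcd 2 (q - 1) ∣ 4)) ∨
      (cM = 60 ∧ ((q + 1) / Nat.gcd 2 (q - 1) ∣ 2 ∨ (q + 1) / Nat.gcd 2 (q - 1) ∣ 3 ∨
        (q + 1) / Nat.gcd 2 (q - 1) ∣ 5))) :
    q = 5 ∧ cM = 12 := by
  have hn5 : (q + 1) / Nat.gcd 2 (q - 1) ≤ 5 := by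
    rcases hM with ⟨-, h | h⟩ | ⟨-, h | h | h⟩ | ⟨-, h | h | h⟩ <;>
      have := Nat.le_of_dvd (by norm_num) h <;> omega
  have hd2 : Nat.gcd 2 (q - 1) ≤ 2 := Nat.le_of_dvd (by norm_num) (Nat.gcd_dvd_left _ _)
  have hdpos : 0 < Nat.gcd 2 (q - 1) := Nat.gcd_pos_of_pos_left _ (by norm_num)
  have h1 : (q + 1) / 2 ≤ (q + 1) / Nat.gcd 2 (q - 1) := Nat.div_le_div_left hd2 hdpos
  have hq10 : q ≤ 10 := by omega
  subst hG
  interval_cases q <;>
    first
    | omega
    | (rcases hM with ⟨rfl, h⟩ | ⟨rfl, h⟩ | ⟨rfl, h⟩ <;> revert h hdvd hlt <;> decide)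

theorem num_alt_sub (q cG cM : ℕ) (hq4 : 4 ≤ q) (hq5 : q ≠ 5) (hq7 : q ≠ 7) (hq9 : q ≠ 9)
    (hq11 : q ≠ 11)
    (hG : cG = q * (q + 1) * ((q - 1) / Nat.gcd 2 (q - 1))) (hdvd : cM ∣ cG) (hlt : cM < cG)
    (hM : (cM = 12 ∧ ((q - 1) / Nat.gcd 2 (q - 1) ∣ 2 ∨ (q - 1) / Nat.gcd 2 (q - 1) ∣ 3)) ∨
      (cM = 24 ∧ ((q - 1) / Nat.gcd 2 (q - 1) ∣ 2 ∨ (q - 1) / Nat.gcd 2 (q - 1) ∣ 3 ∨
        (q - 1) / Nat.gcd 2 (q - 1) ∣ 4)) ∨
      (cM = 60 ∧ ((q - 1) / Nat.gcd 2 (q - 1) ∣ 2 ∨ (q - 1) / Nat.gcd 2 (q - 1) ∣ 3 ∨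
        (q - 1) / Nat.gcd 2 (q - 1) ∣ 5))) :
    q = 4 ∧ cM = 12 := by
  have hn5 : (q - 1) / Nat.gcd 2 (q - 1) ≤ 5 := by
    rcases hM with ⟨-, h | h⟩ | ⟨-, h | h | h⟩ | ⟨-, h | h | h⟩ <;>
      have := Nat.le_of_dvd (by norm_num) h <;> omega
  have hd2 : Nat.gcd 2 (q - 1) ≤ 2 := Nat.le_of_dvd (by norm_num) (Nat.gcd_dvd_left _ _)
  have hdpos : 0 < Nat.gcd 2 (q - 1) := Nat.gcd_pos_of_pos_left _ (by norm_num)
  have h1 : (q - 1) / 2 ≤ (q - 1) / Nat.gcd 2 (q - 1) := Nat.div_le_div_left hd2 hdpos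
  have hq12 : q ≤ 12 := by omega
  subst hG
  interval_cases q <;>
    first
    | omega
    | (rcases hM with ⟨rfl, h⟩ | ⟨rfl, h⟩ | ⟨rfl, h⟩ <;> revert h hdvd hlt <;> decide)

theorem num_field_add (q k m : ℕ) (hk : 2 ≤ k) (hm : 2 ≤ m) (hkm : k ^ m = q)
    (h : q + 1 ∣ k * (k ^ 2 - 1)) : False := by
  have hk2 : k ^ 2 ≤ q := by rw [← hkm]; exact Nat.pow_le_pow_right (by omega) hm
  have hkq : k ∣ q := by rw [← hkm]; exact dvd_pow_self k (by omega)
  have hcop : Nat.Coprime (q + 1) k := by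
    apply Nat.Coprime.coprime_dvd_right hkq
    simp
  have h1 : q + 1 ∣ k ^ 2 - 1 := hcop.dvd_of_dvd_mul_left h
  have h4 : 4 ≤ k ^ 2 := by nlinarith
  have := Nat.le_of_dvd (by omega) h1
  omega

theorem num_field_sub (q k m : ℕ) (hk : 2 ≤ k) (hm : 2 ≤ m) (hkm : k ^ m = q)
    (h : q - 1 ∣ k * (k ^ 2 - 1)) : q = k ^ 2 := by
  have hk2 : k ^ 2 ≤ q := by rw [← hkm]; exact Nat.pow_le_pow_right (by omega) hm
  have hkq : k ∣ q := by rw [← hkm]; exact dvd_pow_self k (by omega)
  have h4 : 4 ≤ k ^ 2 := by nlinarith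
  obtain ⟨r, rfl⟩ : ∃ r, q = r + 1 := ⟨q - 1, by omega⟩
  rw [Nat.add_sub_cancel] at h
  have hcop : Nat.Coprime r k := by
    apply Nat.Coprime.coprime_dvd_right hkq
    simp
  have h1 : r ∣ k ^ 2 - 1 := hcop.dvd_of_dvd_mul_left h
  have := Nat.le_of_dvd (by omega) h1
  omega

theorem num_field_sub2 (q k d n cM cH : ℕ) (hq : q = k ^ 2) (hk2 : 2 ≤ k) (hq9 : q ≠ 9)
    (hd : d = Nat.gcd 2 (q - 1)) (hdn : d * n = q - 1) (hnk : n ≤ k + 1)
    (hcM : cM ∣ k * (k ^ 2 - 1)) (hH : cH = 2 * n) (hlt : cH < cM) : False := by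
  have hd2 : d ≤ 2 := by rw [hd]; exact Nat.le_of_dvd (by norm_num) (Nat.gcd_dvd_left _ _)
  have h1 : d * n ≤ 2 * (k + 1) := Nat.mul_le_mul hd2 hnk
  have hk3 : k ≤ 3 := by
    by_contra hk4
    have : 4 * k ≤ k ^ 2 := by nlinarith
    omega
  interval_cases k
  · subst hq
    norm_num at hd
    subst hd
    have hn3 : n = 3 := by omega
    subst hn3
    have := Nat.le_of_dvd (by norm_num) hcM
    omega
  · exact hq9 (by rw [hq]; norm_num)

/-! ### Sylow normalisers -/

section Main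

variable {F : Type*} [Field F] [Fintype F]

theorem normalizer_Un_eq :
    Subgroup.normalizer (((Un : Subgroup (Matrix.SpecialLinearGroup (Fin 2) F)).map (mkP F) :
      Subgroup (Matrix.ProjectiveSpecialLinearGroup (Fin 2) F)) :
      Set (Matrix.ProjectiveSpecialLinearGroup (Fin 2) F)) =
      (Bo : Subgroup (Matrix.SpecialLinearGroup (Fin 2) F)).map (mkP F) := by
  apply le_antisymm normalizer_Un_le
  rintro y ⟨g, hg, rfl⟩
  have hgB : g ∈ (Bo : Subgroup (Matrix.SpecialLinearGroup (Fin 2) F)) := hg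
  rw [Subgroup.mem_normalizer_iff]
  intro h
  constructor
  · rintro ⟨u, hu, rfl⟩
    refine ⟨g * u * g⁻¹, conj_mem_Un hgB hu, ?_⟩
    simp only [map_mul, map_inv]
  · rintro ⟨u, hu, hue⟩
    refine ⟨g⁻¹ * u * g, ?_, ?_⟩
    · have := conj_mem_Un (Subgroup.inv_mem _ hgB) hu
      rwa [inv_inv] at this
    · simp only [map_mul, map_inv]
      rw [hue]; group

/-- The normaliser of a Sylow `p`-subgroup of `PSL(2, q)` has order `q (q - 1) / d`. -/
theorem card_normalizer_sylow_eq (p : ℕ) [Fact p.Prime] [CharP F p]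
    (P : Sylow p (Matrix.ProjectiveSpecialLinearGroup (Fin 2) F)) :
    Nat.gcd 2 (Fintype.card F - 1) * Nat.card ↥(Subgroup.normalizer
      ((P : Subgroup (Matrix.ProjectiveSpecialLinearGroup (Fin 2) F)) :
        Set (Matrix.ProjectiveSpecialLinearGroup (Fin 2) F))) =
      Fintype.card F * (Fintype.card F - 1) := by
  obtain ⟨P₀, hP₀⟩ := sylow_Un (F := F) p
  have h1 : Nat.card (Sylow p (Matrix.ProjectiveSpecialLinearGroup (Fin 2) F)) =
      (Subgroup.normalizer ((P : Subgroup (Matrix.ProjectiveSpecialLinearGroup (Fin 2) F)) :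
        Set (Matrix.ProjectiveSpecialLinearGroup (Fin 2) F))).index :=
    Sylow.card_eq_index_normalizer P
  have h2 : Nat.card (Sylow p (Matrix.ProjectiveSpecialLinearGroup (Fin 2) F)) =
      (Subgroup.normalizer ((P₀ : Subgroup (Matrix.ProjectiveSpecialLinearGroup (Fin 2) F)) :
        Set (Matrix.ProjectiveSpecialLinearGroup (Fin 2) F))).index :=
    Sylow.card_eq_index_normalizer P₀
  have h3 := Subgroup.index_mul_card (Subgroup.normalizer
    ((P : Subgroup (Matrix.ProjectiveSpecialLinearGroup (Fin 2) F)) :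
        Set (Matrix.ProjectiveSpecialLinearGroup (Fin 2) F)))
  have h4 := Subgroup.index_mul_card (Subgroup.normalizer
    ((P₀ : Subgroup (Matrix.ProjectiveSpecialLinearGroup (Fin 2) F)) :
        Set (Matrix.ProjectiveSpecialLinearGroup (Fin 2) F)))
  rw [← h1] at h3
  rw [← h2, ← h3] at h4
  have hpos : 0 < Nat.card (Sylow p (Matrix.ProjectiveSpecialLinearGroup (Fin 2) F)) :=
    Nat.card_pos
  have h5 := Nat.eq_of_mul_eq_mul_left hpos h4
  rw [← h5, hP₀, normalizer_Un_eq]
  exact card_Bo_map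

/-- In the normaliser of a Sylow 2-subgroup no involution inverts a nontrivial element of odd
order. -/
theorem sylow_two_no_dih {G : Type*} [Group G] [Finite G] (P : Sylow 2 G) (ρ σ : G)
    (hρ : ρ ∈ Subgroup.normalizer ((P : Subgroup G) : Set G))
    (hσ : σ ∈ Subgroup.normalizer ((P : Subgroup G) : Set G))
    (hσ2 : σ * σ = 1) (hconj : σ * ρ * σ⁻¹ = ρ⁻¹) (hodd : Odd (orderOf ρ)) : ρ = 1 := by
  have hpg : IsPGroup 2 (Subgroup.zpowers σ) := by
    rintro ⟨g, hg⟩
    refine ⟨1, ?_⟩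
    obtain ⟨j, rfl⟩ := Subgroup.mem_zpowers_iff.1 hg
    apply Subtype.ext
    simp only [pow_one, Subgroup.coe_pow, Subgroup.coe_one]
    rw [← zpow_natCast, ← _root_.zpow_mul, mul_comm, _root_.zpow_mul, zpow_natCast, pow_two, hσ2, _root_.one_zpow]
  have h1 : Subgroup.zpowers σ ⊓ Subgroup.normalizer ((P : Subgroup G) : Set G) =
      Subgroup.zpowers σ ⊓ (P : Subgroup G) := hpg.inf_normalizer_sylow P
  have hσP : σ ∈ (P : Subgroup G) := by
    have : σ ∈ Subgroup.zpowers σ ⊓ Subgroup.normalizer ((P : Subgroup G) : Set G) :=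
      Subgroup.mem_inf.2 ⟨Subgroup.mem_zpowers σ, hσ⟩
    rw [h1] at this
    exact (Subgroup.mem_inf.1 this).2
  have h2 : ρ * σ⁻¹ * ρ⁻¹ ∈ (P : Subgroup G) :=
    (Subgroup.mem_normalizer_iff.1 hρ σ⁻¹).1 ((P : Subgroup G).inv_mem hσP)
  have h3 : ρ⁻¹ * ρ⁻¹ ∈ (P : Subgroup G) := by
    have e : ρ⁻¹ * ρ⁻¹ = σ * (ρ * σ⁻¹ * ρ⁻¹) := by
      calc ρ⁻¹ * ρ⁻¹ = (σ * ρ * σ⁻¹) * ρ⁻¹ := by rw [hconj]
        _ = σ * (ρ * σ⁻¹ * ρ⁻¹) := by group
    rw [e]
    exact (P : Subgroup G).mul_mem hσP h2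
  obtain ⟨k, hk⟩ := P.2 ⟨ρ⁻¹ * ρ⁻¹, h3⟩
  have hk' : (ρ⁻¹ * ρ⁻¹) ^ 2 ^ k = 1 := by
    have := congrArg Subtype.val hk
    simpa using this
  have h4 : ρ ^ (2 * 2 ^ k) = 1 := by
    have e : (ρ⁻¹ * ρ⁻¹) ^ 2 ^ k = (ρ ^ (2 * 2 ^ k))⁻¹ := by
      rw [← pow_two, ← pow_mul, inv_pow]
    rw [e, inv_eq_one] at hk'
    exact hk'
  have h5 : orderOf ρ ∣ 2 * 2 ^ k := orderOf_dvd_of_pow_eq_one h4
  have h6 : Nat.Coprime (orderOf ρ) (2 * 2 ^ k) := by
    have : Nat.Coprime (orderOf ρ) 2 := Nat.coprime_two_right.2 hodd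
    exact Nat.Coprime.mul_right this (Nat.Coprime.pow_right _ this)
  have h7 := Nat.Coprime.eq_one_of_dvd h6 h5
  exact orderOf_eq_one_iff.1 h7

theorem dih_rel (n : ℕ) : (DihedralGroup.sr 0 : DihedralGroup n) * DihedralGroup.r 1 *
    (DihedralGroup.sr 0)⁻¹ = (DihedralGroup.r 1)⁻¹ := by
  simp

/-! ### Maximality of the non-split torus normaliser -/

theorem dih_coatom_add_aux {q d n : ℕ} (hF : Fintype.card F = q)
    (hq : q ∉ ({2, 7, 9} : Finset ℕ)) (hd : d = Nat.gcd 2 (q - 1)) (hn : n = (q + 1) / d)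
    (H : Subgroup (Matrix.ProjectiveSpecialLinearGroup (Fin 2) F))
    (e : ↥H ≃* DihedralGroup n) : IsCoatom H := by
  classical
  obtain ⟨p, hp⟩ := CharP.exists F
  haveI := hp
  haveI : Fact p.Prime := ⟨CharP.char_is_prime F p⟩
  have hq2 : 2 ≤ q := by rw [← hF]; exact Fintype.one_lt_card
  have hq3 : 3 ≤ q := by
    by_contra h
    have : q = 2 := by omega
    rw [this] at hq; simp at hq
  have hq7 : q ≠ 7 := by rintro rfl; simp at hq
  have hq9 : q ≠ 9 := by rintro rfl; simp at hq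
  have hd1 : d ∣ q - 1 := by rw [hd]; exact Nat.gcd_dvd_right _ _
  have hd2 : d ∣ 2 := by rw [hd]; exact Nat.gcd_dvd_left _ _
  have hz : d = 1 ∨ d = 2 := by
    have h2 := Nat.le_of_dvd (by norm_num) hd2
    have h3 : 0 < d := by rw [hd]; exact Nat.gcd_pos_of_pos_left _ (by norm_num)
    omega
  have hdpos : 0 < d := by omega
  have hdq : d ∣ q + 1 := by
    have : q + 1 = (q - 1) + 2 := by omega
    rw [this]; exact dvd_add hd1 hd2
  have hdn : d * n = q + 1 := by rw [hn]; exact Nat.mul_div_cancel' hdq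
  have hn' : n = (q + 1) / Nat.gcd 2 (q - 1) := by rw [hn, hd]
  have hnpos : 0 < n := by
    rcases Nat.eq_zero_or_pos n with h | h
    · rw [h, mul_zero] at hdn; omega
    · exact h
  have hGm := card_PSL2_mul (F := F)
  rw [hF, sq_sub_one_eq _ (by omega), ← hd] at hGm
  have hGn : Nat.card (Matrix.ProjectiveSpecialLinearGroup (Fin 2) F) = q * (q - 1) * n := by
    apply Nat.eq_of_mul_eq_mul_left hdpos
    rw [hGm]
    calc q * ((q - 1) * (q + 1)) = q * ((q - 1) * (d * n)) := by rw [hdn]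
      _ = d * (q * (q - 1) * n) := by ring
  have hH : Nat.card H = 2 * n := by rw [Nat.card_congr e.toEquiv, DihedralGroup.nat_card]
  have hm1 : (q - 1) / d ≤ n := by rw [hn]; exact Nat.div_le_div_right (by omega)
  have hm1pos : 0 < (q - 1) / d := Nat.div_pos (Nat.le_of_dvd (by omega) hd1) hdpos
  refine ⟨?_, ?_⟩
  · intro htop
    have h1 : Nat.card H = Nat.card (Matrix.ProjectiveSpecialLinearGroup (Fin 2) F) := by
      rw [htop, Subgroup.card_top]
    rw [hH, hGn] at h1
    have h2 : 2 = q * (q - 1) := Nat.eq_of_mul_eq_mul_right hnpos h1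
    have : 3 * 2 ≤ q * (q - 1) := Nat.mul_le_mul hq3 (by omega)
    omega
  · intro M hHM
    by_contra hMtop
    have hle : H ≤ M := hHM.le
    have hlt : Nat.card H < Nat.card M := by
      by_contra hc
      push Not at hc
      exact hHM.ne (Subgroup.eq_of_le_of_card_ge hle hc)
    have hMG : Nat.card M < Nat.card (Matrix.ProjectiveSpecialLinearGroup (Fin 2) F) := by
      rcases (Subgroup.card_le_card_group M).lt_or_eq with h | h
      · exact h
      · exact absurd ((Subgroup.card_eq_iff_eq_top M).1 h) hMtop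
    have hdvdHM : Nat.card H ∣ Nat.card M := Subgroup.card_dvd_of_le hle
    have hdvdMG : Nat.card M ∣ Nat.card (Matrix.ProjectiveSpecialLinearGroup (Fin 2) F) :=
      Subgroup.card_subgroup_dvd_card M
    obtain ⟨g₁, hg₁⟩ := exists_order_of_dih H n e
    have hg₀ : orderOf (⟨g₁.1, hle g₁.2⟩ : ↥M) = n := by
      rw [← hg₁, ← Subgroup.orderOf_coe, ← Subgroup.orderOf_coe g₁]
    have hk_le : ∀ k : ℕ, (k ∣ (q + 1) / d ∨ k ∣ (q - 1) / d) → k ≤ n := by
      intro k hk
      rcases hk with hk | hk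
      · rw [← hn] at hk; exact Nat.le_of_dvd hnpos hk
      · exact (Nat.le_of_dvd hm1pos hk).trans hm1
    have hD := dickson p M
    unfold DkP at hD
    rw [hF, ← hd] at hD
    rcases hD with ⟨k, hk, h | ⟨⟨f⟩⟩⟩ | ⟨P, K, hK, ⟨f⟩⟩ | ⟨⟨f⟩⟩ | ⟨⟨f⟩⟩ | ⟨⟨f⟩⟩ |
      ⟨K, i1, i2, m, hm, hf⟩
    · have := hk_le k hk
      rw [h.2, hH] at hlt
      omega
    · have hcM : Nat.card M = 2 * k := by rw [Nat.card_congr f.toEquiv, DihedralGroup.nat_card]
      have := hk_le k hk
      omega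
    · have hcM : Nat.card M = Nat.card K := Nat.card_congr f.toEquiv
      have h1 : Nat.card K ∣ Nat.card ↥(Subgroup.normalizer
          ((P : Subgroup (Matrix.ProjectiveSpecialLinearGroup (Fin 2) F)) :
          Set (Matrix.ProjectiveSpecialLinearGroup (Fin 2) F))) := Subgroup.card_dvd_of_le hK
      have h2 := card_normalizer_sylow_eq p P
      rw [hF, ← hd] at h2
      have h3 : d * (2 * n) ∣ q * (q - 1) := by
        rw [← h2, ← hH]
        apply Nat.mul_dvd_mul_left d
        rw [← hcM] at h1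
        exact hdvdHM.trans h1
      have h4 : q + 1 ∣ q * (q - 1) := by
        have : d * (2 * n) = 2 * (q + 1) := by rw [← hdn]; ring
        rw [this] at h3
        exact (Dvd.intro_left 2 rfl).trans h3
      have h5 : q * (q - 1) = (q + 1) * (q - 2) + 2 := by
        obtain ⟨r, rfl⟩ : ∃ r, q = r + 2 := ⟨q - 2, by omega⟩
        have e1 : r + 2 - 1 = r + 1 := by omega
        rw [e1, Nat.add_sub_cancel]; ring
      rw [h5] at h4
      have h6 : q + 1 ∣ 2 := (Nat.dvd_add_right (Dvd.intro _ rfl)).1 h4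
      have := Nat.le_of_dvd (by norm_num) h6
      omega
    · have hcM : Nat.card M = 12 := by rw [Nat.card_congr f.toEquiv, card_A4]
      have ho := order_A4 f ⟨g₁.1, hle g₁.2⟩
      rw [hg₀, hn'] at ho
      obtain ⟨h5, -⟩ := num_alt_add q _ _ hq3 hq7 hq9 (by rw [hGn, hn']) hdvdMG hMG
        (Or.inl ⟨hcM, ho⟩)
      have hn3 : n = 3 := by rw [hn', h5]; decide
      rw [hn3] at hH
      exact no_index_two_A4 H M hle f hH
    · have hcM : Nat.card M = 24 := by rw [Nat.card_congr f.toEquiv, card_S4]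
      have ho := order_S4 f ⟨g₁.1, hle g₁.2⟩
      rw [hg₀, hn'] at ho
      obtain ⟨-, h12⟩ := num_alt_add q _ _ hq3 hq7 hq9 (by rw [hGn, hn']) hdvdMG hMG
        (Or.inr (Or.inl ⟨hcM, ho⟩))
      omega
    · have hcM : Nat.card M = 60 := by rw [Nat.card_congr f.toEquiv, card_A5]
      have ho := order_A5 f ⟨g₁.1, hle g₁.2⟩
      rw [hg₀, hn'] at ho
      obtain ⟨-, h12⟩ := num_alt_add q _ _ hq3 hq7 hq9 (by rw [hGn, hn']) hdvdMG hMG
        (Or.inr (Or.inr ⟨hcM, ho⟩))
      omega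
    · letI : Field K := i1
      letI : Fintype K := i2
      have hk2 : 2 ≤ Fintype.card K := Fintype.one_lt_card
      have hKG := card_PSL2_mul (F := K)
      have hKP := Cfsg.Agent.S0806.card_PGL2' K
      have hMdvd : Nat.card M ∣ Fintype.card K * (Fintype.card K ^ 2 - 1) := by
        rcases hf with ⟨⟨f⟩⟩ | ⟨⟨f⟩⟩
        · rw [Nat.card_congr f.toEquiv, ← hKG]; exact Dvd.intro_left _ rfl
        · rw [Nat.card_congr f.toEquiv, hKP]
      rcases Nat.lt_or_ge m 2 with hm2 | hm2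
      · interval_cases m
        · rw [pow_zero] at hm; omega
        · rw [pow_one] at hm
          rw [hm, sq_sub_one_eq _ (by omega)] at hKG hKP
          have hGM : Nat.card (Matrix.ProjectiveSpecialLinearGroup (Fin 2) F) ≤ Nat.card M := by
            rcases hf with ⟨⟨f⟩⟩ | ⟨⟨f⟩⟩
            · have h1 := Nat.card_congr f.toEquiv
              rw [← h1, ← hd, ← hGm] at hKG
              exact (Nat.eq_of_mul_eq_mul_left hdpos hKG).ge
            · have h1 := Nat.card_congr f.toEquiv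
              rw [← h1, ← hGm] at hKP
              rw [hKP]
              exact Nat.le_mul_of_pos_left _ hdpos
          omega
      · have h1 : q + 1 ∣ Nat.card H := by
          rw [hH, ← hdn]; exact Nat.mul_dvd_mul_right hd2 n
        exact num_field_add q _ m hk2 hm2 hm (h1.trans (hdvdHM.trans hMdvd))

/-! ### Maximality of the split torus normaliser -/

theorem dih_coatom_sub_aux {q d n : ℕ} (hF : Fintype.card F = q)
    (hq : q ∉ ({2, 3, 5, 7, 9, 11} : Finset ℕ)) (hd : d = Nat.gcd 2 (q - 1))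
    (hn : n = (q - 1) / d)
    (H : Subgroup (Matrix.ProjectiveSpecialLinearGroup (Fin 2) F))
    (e : ↥H ≃* DihedralGroup n) : IsCoatom H := by
  classical
  obtain ⟨p, hp⟩ := CharP.exists F
  haveI := hp
  haveI : Fact p.Prime := ⟨CharP.char_is_prime F p⟩
  have hq2 : 2 ≤ q := by rw [← hF]; exact Fintype.one_lt_card
  have hq4 : 4 ≤ q := by
    by_contra h
    have : q = 2 ∨ q = 3 := by omega
    rcases this with h | h <;> rw [h] at hq <;> simp at hq
  have hq5 : q ≠ 5 := by rintro rfl; simp at hq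
  have hq7 : q ≠ 7 := by rintro rfl; simp at hq
  have hq9 : q ≠ 9 := by rintro rfl; simp at hq
  have hq11 : q ≠ 11 := by rintro rfl; simp at hq
  have hd1 : d ∣ q - 1 := by rw [hd]; exact Nat.gcd_dvd_right _ _
  have hd2 : d ∣ 2 := by rw [hd]; exact Nat.gcd_dvd_left _ _
  have hz : d = 1 ∨ d = 2 := by
    have h2 := Nat.le_of_dvd (by norm_num) hd2
    have h3 : 0 < d := by rw [hd]; exact Nat.gcd_pos_of_pos_left _ (by norm_num)
    omega
  have hdpos : 0 < d := by omega
  have hdq : d ∣ q + 1 := by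
    have : q + 1 = (q - 1) + 2 := by omega
    rw [this]; exact dvd_add hd1 hd2
  have hdn : d * n = q - 1 := by rw [hn]; exact Nat.mul_div_cancel' hd1
  have hdn' : d * ((q + 1) / d) = q + 1 := Nat.mul_div_cancel' hdq
  have hn' : n = (q - 1) / Nat.gcd 2 (q - 1) := by rw [hn, hd]
  have hnpos : 0 < n := by
    rcases Nat.eq_zero_or_pos n with h | h
    · rw [h, mul_zero] at hdn; omega
    · exact h
  have hGm := card_PSL2_mul (F := F)
  rw [hF, sq_sub_one_eq _ (by omega), ← hd] at hGm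
  have hGn : Nat.card (Matrix.ProjectiveSpecialLinearGroup (Fin 2) F) = q * (q + 1) * n := by
    apply Nat.eq_of_mul_eq_mul_left hdpos
    rw [hGm]
    calc q * ((q - 1) * (q + 1)) = q * ((d * n) * (q + 1)) := by rw [hdn]
      _ = d * (q * (q + 1) * n) := by ring
  have hH : Nat.card H = 2 * n := by rw [Nat.card_congr e.toEquiv, DihedralGroup.nat_card]
  refine ⟨?_, ?_⟩
  · intro htop
    have h1 : Nat.card H = Nat.card (Matrix.ProjectiveSpecialLinearGroup (Fin 2) F) := by
      rw [htop, Subgroup.card_top]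
    rw [hH, hGn] at h1
    have h2 : 2 = q * (q + 1) := Nat.eq_of_mul_eq_mul_right hnpos h1
    have : 4 * 2 ≤ q * (q + 1) := Nat.mul_le_mul hq4 (by omega)
    omega
  · intro M hHM
    by_contra hMtop
    have hle : H ≤ M := hHM.le
    have hlt : Nat.card H < Nat.card M := by
      by_contra hc
      push Not at hc
      exact hHM.ne (Subgroup.eq_of_le_of_card_ge hle hc)
    have hMG : Nat.card M < Nat.card (Matrix.ProjectiveSpecialLinearGroup (Fin 2) F) := by
      rcases (Subgroup.card_le_card_group M).lt_or_eq with h | h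
      · exact h
      · exact absurd ((Subgroup.card_eq_iff_eq_top M).1 h) hMtop
    have hdvdHM : Nat.card H ∣ Nat.card M := Subgroup.card_dvd_of_le hle
    have hdvdMG : Nat.card M ∣ Nat.card (Matrix.ProjectiveSpecialLinearGroup (Fin 2) F) :=
      Subgroup.card_subgroup_dvd_card M
    obtain ⟨g₁, hg₁⟩ := exists_order_of_dih H n e
    have hg₀ : orderOf (⟨g₁.1, hle g₁.2⟩ : ↥M) = n := by
      rw [← hg₁, ← Subgroup.orderOf_coe, ← Subgroup.orderOf_coe g₁]
    have hD := dickson p M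
    unfold DkP at hD
    rw [hF, ← hd] at hD
    rcases hD with ⟨k, hk, h | ⟨⟨f⟩⟩⟩ | ⟨P, K, hK, ⟨f⟩⟩ | ⟨⟨f⟩⟩ | ⟨⟨f⟩⟩ | ⟨⟨f⟩⟩ |
      ⟨K, i1, i2, m, hm, hf⟩
    · -- cyclic
      have hk1 : k ≤ (q + 1) / d := by
        rcases hk with hk | hk
        · exact Nat.le_of_dvd (Nat.div_pos (Nat.le_of_dvd (by omega) hdq) hdpos) hk
        · rw [← hn] at hk
          exact (Nat.le_of_dvd hnpos hk).trans (by rw [hn]; exact Nat.div_le_div_right (by omega))
      rw [h.2, hH] at hlt
      rcases hz with h1 | h1 <;> rw [h1] at hdn hdn' hk1 <;> omega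
    · -- dihedral
      have hcM : Nat.card M = 2 * k := by rw [Nat.card_congr f.toEquiv, DihedralGroup.nat_card]
      rcases hk with hk | hk
      · rw [hH, hcM] at hdvdHM
        have h1 : n ∣ k := (Nat.mul_dvd_mul_iff_left (by norm_num)).1 hdvdHM
        have h2 : d * n ∣ d * ((q + 1) / d) := Nat.mul_dvd_mul_left d (h1.trans hk)
        rw [hdn, hdn'] at h2
        have h3 : q - 1 ∣ (q + 1) - (q - 1) := Nat.dvd_sub h2 (dvd_refl _)
        have e2 : q + 1 - (q - 1) = 2 := by omega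
        rw [e2] at h3
        have := Nat.le_of_dvd (by norm_num) h3
        omega
      · rw [← hn] at hk
        have := Nat.le_of_dvd hnpos hk
        omega
    · -- Borel type
      have hcM : Nat.card M = Nat.card K := Nat.card_congr f.toEquiv
      have h1 : Nat.card K ∣ Nat.card ↥(Subgroup.normalizer
          ((P : Subgroup (Matrix.ProjectiveSpecialLinearGroup (Fin 2) F)) :
          Set (Matrix.ProjectiveSpecialLinearGroup (Fin 2) F))) := Subgroup.card_dvd_of_le hK
      have h2 := card_normalizer_sylow_eq p P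
      rw [hF, ← hd] at h2
      have h3 : d * (2 * n) ∣ q * (q - 1) := by
        rw [← h2, ← hH]
        apply Nat.mul_dvd_mul_left d
        rw [← hcM] at h1
        exact hdvdHM.trans h1
      have h4 : 2 ∣ q := by
        have : d * (2 * n) = 2 * (q - 1) := by rw [← hdn]; ring
        rw [this] at h3
        exact (Nat.mul_dvd_mul_iff_right (by omega)).1 h3
      -- so `p = 2` and `d = 1`
      have hp2 : p = 2 := by
        obtain ⟨r, -, hr⟩ := FiniteField.card F p
        rw [hF] at hr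
        rw [hr] at h4
        have := (Nat.Prime.dvd_of_dvd_pow Nat.prime_two h4)
        exact ((Nat.prime_dvd_prime_iff_eq Nat.prime_two (Fact.out : p.Prime)).1 this).symm
      subst hp2
      have hd1' : d = 1 := by
        rcases hz with h | h
        · exact h
        · exfalso
          rw [h] at hd1
          omega
      rw [hd1', one_mul] at hdn
      -- the embedding of the dihedral group
      let φ : DihedralGroup n →* Matrix.ProjectiveSpecialLinearGroup (Fin 2) F :=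
        (K.subtype.comp ((f : ↥M →* ↥K).comp (Subgroup.inclusion hle))).comp
          (e.symm : DihedralGroup n →* ↥H)
      have hφ : Function.Injective φ := by
        intro a b hab
        have h1 : (f (Subgroup.inclusion hle (e.symm a)) : ↥K) =
            f (Subgroup.inclusion hle (e.symm b)) := Subtype.ext hab
        have h2 := f.injective h1
        have h3 := Subgroup.inclusion_injective hle h2
        exact e.symm.injective h3
      have hφN : ∀ a, φ a ∈ Subgroup.normalizer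
          ((P : Subgroup (Matrix.ProjectiveSpecialLinearGroup (Fin 2) F)) :
          Set (Matrix.ProjectiveSpecialLinearGroup (Fin 2) F)) := fun a =>
        hK (f (Subgroup.inclusion hle (e.symm a))).2
      have hord : orderOf (φ (DihedralGroup.r 1)) = n := by
        rw [orderOf_injective φ hφ, DihedralGroup.orderOf_r_one]
      have hσ2 : φ (DihedralGroup.sr 0) * φ (DihedralGroup.sr 0) = 1 := by
        rw [← map_mul, DihedralGroup.sr_mul_self, map_one]
      have hconj : φ (DihedralGroup.sr 0) * φ (DihedralGroup.r 1) * (φ (DihedralGroup.sr 0))⁻¹ =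
          (φ (DihedralGroup.r 1))⁻¹ := by
        rw [← map_inv, ← map_mul, ← map_mul, ← map_inv, dih_rel]
      have hodd : Odd (orderOf (φ (DihedralGroup.r 1))) := by
        rw [hord, Nat.odd_iff]
        obtain ⟨c, hc⟩ := h4
        omega
      have h5 := sylow_two_no_dih P _ _ (hφN _) (hφN _) hσ2 hconj hodd
      rw [← orderOf_eq_one_iff, hord] at h5
      omega
    · have hcM : Nat.card M = 12 := by rw [Nat.card_congr f.toEquiv, card_A4]
      have ho := order_A4 f ⟨g₁.1, hle g₁.2⟩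
      rw [hg₀, hn'] at ho
      obtain ⟨h5, -⟩ := num_alt_sub q _ _ hq4 hq5 hq7 hq9 hq11 (by rw [hGn, hn']) hdvdMG hMG
        (Or.inl ⟨hcM, ho⟩)
      have hn3 : n = 3 := by rw [hn', h5]; decide
      rw [hn3] at hH
      exact no_index_two_A4 H M hle f hH
    · have hcM : Nat.card M = 24 := by rw [Nat.card_congr f.toEquiv, card_S4]
      have ho := order_S4 f ⟨g₁.1, hle g₁.2⟩
      rw [hg₀, hn'] at ho
      obtain ⟨-, h12⟩ := num_alt_sub q _ _ hq4 hq5 hq7 hq9 hq11 (by rw [hGn, hn']) hdvdMG hMG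
        (Or.inr (Or.inl ⟨hcM, ho⟩))
      omega
    · have hcM : Nat.card M = 60 := by rw [Nat.card_congr f.toEquiv, card_A5]
      have ho := order_A5 f ⟨g₁.1, hle g₁.2⟩
      rw [hg₀, hn'] at ho
      obtain ⟨-, h12⟩ := num_alt_sub q _ _ hq4 hq5 hq7 hq9 hq11 (by rw [hGn, hn']) hdvdMG hMG
        (Or.inr (Or.inr ⟨hcM, ho⟩))
      omega
    · letI : Field K := i1
      letI : Fintype K := i2
      have hk2 : 2 ≤ Fintype.card K := Fintype.one_lt_card
      have hKG := card_PSL2_mul (F := K)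
      have hKP := Cfsg.Agent.S0806.card_PGL2' K
      have hMdvd : Nat.card M ∣ Fintype.card K * (Fintype.card K ^ 2 - 1) := by
        rcases hf with ⟨⟨f⟩⟩ | ⟨⟨f⟩⟩
        · rw [Nat.card_congr f.toEquiv, ← hKG]; exact Dvd.intro_left _ rfl
        · rw [Nat.card_congr f.toEquiv, hKP]
      rcases Nat.lt_or_ge m 2 with hm2 | hm2
      · interval_cases m
        · rw [pow_zero] at hm; omega
        · rw [pow_one] at hm
          rw [hm, sq_sub_one_eq _ (by omega)] at hKG hKP
          have hGM : Nat.card (Matrix.ProjectiveSpecialLinearGroup (Fin 2) F) ≤ Nat.card M := by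
            rcases hf with ⟨⟨f⟩⟩ | ⟨⟨f⟩⟩
            · have h1 := Nat.card_congr f.toEquiv
              rw [← h1, ← hd, ← hGm] at hKG
              exact (Nat.eq_of_mul_eq_mul_left hdpos hKG).ge
            · have h1 := Nat.card_congr f.toEquiv
              rw [← h1, ← hGm] at hKP
              rw [hKP]
              exact Nat.le_mul_of_pos_left _ hdpos
          omega
      · have h1 : q - 1 ∣ Nat.card H := by
          rw [hH, ← hdn]; exact Nat.mul_dvd_mul_right hd2 n
        have hqk := num_field_sub q _ m hk2 hm2 hm (h1.trans (hdvdHM.trans hMdvd))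
        have hnk : n ≤ Fintype.card K + 1 := by
          rw [← hg₀]
          rcases hf with ⟨⟨f⟩⟩ | ⟨⟨f⟩⟩
          · rw [← f.orderOf_eq]; exact psl_order_le _
          · rw [← f.orderOf_eq]; exact pgl_order_le _
        exact num_field_sub2 q _ d n _ _ hqk hk2 hq9 hd hdn hnk hMdvd hH hlt

end Main

end Cfsg.Agent.H18.Dk
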