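import Mathlib
import Cfsg.Agent.H18.DkDihMax
import Cfsg.Agent.H64.MX4

/-!
# Maximal subgroups of `PSL(2, q)`, `q` odd: descent to subfields (helper18)
-/

set_option autoImplicit false
set_option linter.unusedSectionVars false
set_option linter.unusedVariables false
set_option linter.deprecated false
set_option linter.unusedSimpArgs false
set_option linter.style.haveILetI false

namespace Cfsg.Agent.H18.Dk

open Matrix Cfsg.Agent.H65.SL2 Cfsg.Agent.H29.Dk

variable {F : Type*} [Field F]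

/-! ### Fixed fields of Frobenius powers -/

/-- The fixed field of the `n`-th power of Frobenius. -/
def frobSub (F : Type*) [Field F] (p : ℕ) [Fact p.Prime] [CharP F p] (n : ℕ) : Subfield F :=
  (iterateFrobenius F p n).eqLocusField (RingHom.id F)

theorem mem_frobSub (p : ℕ) [Fact p.Prime] [CharP F p] (n : ℕ) (x : F) :
    x ∈ frobSub F p n ↔ x ^ p ^ n = x := by
  show iterateFrobenius F p n x = RingHom.id F x ↔ _
  rw [iterateFrobenius_def]; rfl

theorem card_le_of_frobSub_eq_top [Fintype F] (p : ℕ) [Fact p.Prime] [CharP F p] {n : ℕ}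
    (hn : 1 ≤ n) (h : frobSub F p n = ⊤) : Fintype.card F ≤ p ^ n := by
  classical
  obtain ⟨ζ, hζ⟩ := IsCyclic.exists_generator (α := Fˣ)
  have hord : orderOf ζ = Fintype.card F - 1 := by
    rw [orderOf_eq_card_of_forall_mem_zpowers hζ, Nat.card_units, Nat.card_eq_fintype_card]
  have hmem : (ζ : F) ∈ frobSub F p n := by rw [h]; exact Subfield.mem_top _
  rw [mem_frobSub] at hmem
  have hp1 : 2 ≤ p ^ n := by
    calc 2 ≤ p := (Fact.out : p.Prime).two_le
      _ = p ^ 1 := (pow_one p).symm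
      _ ≤ p ^ n := Nat.pow_le_pow_right (Fact.out : p.Prime).pos hn
  have h1 : ζ ^ (p ^ n) = ζ := by apply Units.ext; simpa using hmem
  have h2 : ζ ^ (p ^ n - 1) = 1 := by
    have : p ^ n = (p ^ n - 1) + 1 := by omega
    rw [this, pow_succ] at h1
    exact mul_right_cancel (b := ζ) (by rw [h1, one_mul])
  have hdv := orderOf_dvd_of_pow_eq_one h2
  rw [hord] at hdv
  have := Nat.le_of_dvd (by omega) hdv
  have hq : 1 ≤ Fintype.card F := Fintype.card_pos
  omega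

theorem card_of_frob_one [Fintype F] (p : ℕ) [Fact p.Prime] [CharP F p]
    (h : frobSub F p 1 = ⊤) : Fintype.card F = p := by
  have h1 := card_le_of_frobSub_eq_top p le_rfl h
  obtain ⟨n, -, hn⟩ := FiniteField.card F p
  rw [pow_one] at h1
  rw [hn] at h1 ⊢
  have hp := (Fact.out : p.Prime).two_le
  have hn1 : (n : ℕ) ≤ 1 := by
    by_contra hcon
    push Not at hcon
    have : p ^ 2 ≤ p ^ (n : ℕ) := Nat.pow_le_pow_right (by omega) hcon
    nlinarith
  have hn0 : 0 < (n : ℕ) := n.pos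
  have : (n : ℕ) = 1 := by omega
  rw [this, pow_one]

theorem card_of_frob_two [Fintype F] (p : ℕ) [Fact p.Prime] [CharP F p]
    (h : frobSub F p 2 = ⊤) : Fintype.card F = p ∨ Fintype.card F = p ^ 2 := by
  have h1 := card_le_of_frobSub_eq_top p (by norm_num : 1 ≤ 2) h
  obtain ⟨n, -, hn⟩ := FiniteField.card F p
  rw [hn] at h1 ⊢
  have hp := (Fact.out : p.Prime).two_le
  have hn1 : (n : ℕ) ≤ 2 := by
    by_contra hcon
    push Not at hcon
    have h3 : p ^ 3 ≤ p ^ (n : ℕ) := Nat.pow_le_pow_right (by omega) hcon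
    have h4 : p ^ 2 < p ^ 3 := Nat.pow_lt_pow_right (by omega) (by norm_num)
    omega
  have hn0 : 0 < (n : ℕ) := n.pos
  have : (n : ℕ) = 1 ∨ (n : ℕ) = 2 := by omega
  rcases this with h' | h'
  · left; rw [h', pow_one]
  · right; rw [h']

theorem sqrt_mem_frobSub (p : ℕ) [Fact p.Prime] [CharP F p] (hp2 : p ≠ 2) {w c : F}
    (hw : w * w = c) (hc : c ∈ frobSub F p 1) : w ∈ frobSub F p 2 := by
  rw [mem_frobSub] at hc ⊢
  rw [pow_one] at hc
  by_cases hw0 : w = 0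
  · rw [hw0, zero_pow]
    exact pow_ne_zero _ (Fact.out : p.Prime).ne_zero
  have hc0 : c ≠ 0 := by rw [← hw]; exact mul_ne_zero hw0 hw0
  obtain ⟨k, hk⟩ : ∃ k, p = 2 * k + 1 := (Fact.out : p.Prime).odd_of_ne_two hp2
  have hc1 : c ^ (2 * k) = 1 := by
    have : c ^ (2 * k) * c = c := by rw [← pow_succ, ← hk]; exact hc
    exact mul_right_cancel₀ hc0 (by rw [this, one_mul])
  have e : p ^ 2 = 2 * (2 * k * (k + 1)) + 1 := by rw [hk]; ring
  rw [e, pow_succ, pow_mul, pow_two, hw, pow_mul, hc1, one_pow, one_mul]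

theorem castHom_mem_frobSub (p : ℕ) [Fact p.Prime] [CharP F p] (a : ZMod p) :
    ZMod.castHom (dvd_refl p) F a ∈ frobSub F p 1 := by
  rw [mem_frobSub, pow_one, ← map_pow, ZMod.pow_card]

theorem exists_sq_add_sq (p : ℕ) [Fact p.Prime] [CharP F p] :
    ∃ α β : F, α ∈ frobSub F p 1 ∧ β ∈ frobSub F p 1 ∧ α ^ 2 + β ^ 2 = -1 := by
  obtain ⟨a, b, hab⟩ := ZMod.sq_add_sq p (-1)
  refine ⟨ZMod.castHom (dvd_refl p) F a, ZMod.castHom (dvd_refl p) F b,
    castHom_mem_frobSub p a, castHom_mem_frobSub p b, ?_⟩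
  rw [← map_pow, ← map_pow, ← map_add, hab, map_neg, map_one]

theorem exists_sq_eq_five (p : ℕ) [Fact p.Prime] [CharP F p] (hp : p % 10 = 1 ∨ p % 10 = 9) :
    ∃ s : F, s ∈ frobSub F p 1 ∧ s * s = 5 := by
  haveI : Fact (Nat.Prime 5) := ⟨by norm_num⟩
  have hp2 : p ≠ 2 := by rintro rfl; omega
  have h1 : IsSquare ((p : ℕ) : ZMod 5) := by
    have hp5 : p % 5 = 1 ∨ p % 5 = 4 := by omega
    have e : ((p : ℕ) : ZMod 5) = ((p % 5 : ℕ) : ZMod 5) := by
      rw [ZMod.natCast_mod]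
    rcases hp5 with h | h
    · exact ⟨1, by rw [e, h]; norm_num⟩
    · exact ⟨2, by rw [e, h]; norm_num⟩
  have h2 := (ZMod.exists_sq_eq_prime_iff_of_mod_four_eq_one (p := 5) (q := p)
    (by norm_num) hp2).1 h1
  obtain ⟨r, hr⟩ := h2
  refine ⟨ZMod.castHom (dvd_refl p) F r, castHom_mem_frobSub p r, ?_⟩
  rw [← map_mul, ← hr, map_natCast]
  norm_num

theorem exists_sq_eq_two (p : ℕ) [Fact p.Prime] [CharP F p] (hp : p % 8 = 1 ∨ p % 8 = 7) :
    ∃ s : F, s ∈ frobSub F p 1 ∧ s * s = 2 := by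
  have hp2 : p ≠ 2 := by rintro rfl; omega
  obtain ⟨r, hr⟩ := (ZMod.exists_sq_eq_two_iff hp2).2 hp
  refine ⟨ZMod.castHom (dvd_refl p) F r, castHom_mem_frobSub p r, ?_⟩
  rw [← map_mul, ← hr, map_ofNat]

/-! ### Standard subfield subgroups -/

/-- The matrices of `SL(2, F)` with all entries in the subfield `K`. -/
def stdSub (K : Subfield F) : Subgroup (Matrix.SpecialLinearGroup (Fin 2) F) where
  carrier := {x | x.1 0 0 ∈ K ∧ x.1 0 1 ∈ K ∧ x.1 1 0 ∈ K ∧ x.1 1 1 ∈ K}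
  mul_mem' := by
    rintro a b ⟨a00, a01, a10, a11⟩ ⟨b00, b01, b10, b11⟩
    refine ⟨?_, ?_, ?_, ?_⟩
    · rw [mul00]; exact K.add_mem (K.mul_mem a00 b00) (K.mul_mem a01 b10)
    · rw [mul01]; exact K.add_mem (K.mul_mem a00 b01) (K.mul_mem a01 b11)
    · rw [mul10]; exact K.add_mem (K.mul_mem a10 b00) (K.mul_mem a11 b10)
    · rw [mul11]; exact K.add_mem (K.mul_mem a10 b01) (K.mul_mem a11 b11)
  one_mem' := ⟨by rw [one00]; exact K.one_mem, by rw [one01]; exact K.zero_mem,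
    by rw [one10]; exact K.zero_mem, by rw [one11]; exact K.one_mem⟩
  inv_mem' := by
    rintro a ⟨a00, a01, a10, a11⟩
    exact ⟨by rw [inv00]; exact a11, by rw [inv01]; exact K.neg_mem a01,
      by rw [inv10]; exact K.neg_mem a10, by rw [inv11]; exact a00⟩

theorem mem_stdSub (K : Subfield F) (x : Matrix.SpecialLinearGroup (Fin 2) F) :
    x ∈ stdSub K ↔ x.1 0 0 ∈ K ∧ x.1 0 1 ∈ K ∧ x.1 1 0 ∈ K ∧ x.1 1 1 ∈ K := Iff.rfl

theorem mem_ratSub (K : Subfield F) (x : Matrix.SpecialLinearGroup (Fin 2) F) :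
    x ∈ Cfsg.Agent.H64.MX.ratSub K ↔ ∃ ν : F, ν ≠ 0 ∧ x.1 0 0 * ν ∈ K ∧ x.1 0 1 * ν ∈ K ∧
      x.1 1 0 * ν ∈ K ∧ x.1 1 1 * ν ∈ K := Iff.rfl

theorem stdSub_le_ratSub (K : Subfield F) : stdSub K ≤ Cfsg.Agent.H64.MX.ratSub K := by
  rintro x ⟨h00, h01, h10, h11⟩
  exact ⟨1, one_ne_zero, by rwa [mul_one], by rwa [mul_one], by rwa [mul_one], by rwa [mul_one]⟩

theorem ratSub_ne_top [Fintype F] {K : Subfield F} (hK : K ≠ ⊤) : Cfsg.Agent.H64.MX.ratSub K ≠ ⊤ := by
  intro h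
  apply hK
  rw [eq_top_iff]
  intro z _
  rw [← Cfsg.Agent.H64.MX.uT_mem_ratSub_iff, h]
  exact Subgroup.mem_top _

theorem ratSub_mono {K K' : Subfield F} (h : K ≤ K') :
    Cfsg.Agent.H64.MX.ratSub K ≤ Cfsg.Agent.H64.MX.ratSub K' := by
  rintro x ⟨ν, hν, h00, h01, h10, h11⟩
  exact ⟨ν, hν, h h00, h h01, h h10, h h11⟩

theorem elE_mem_stdSub {K : Subfield F} {t : F} (ht : t ∈ K) : elE t ∈ stdSub K := by
  refine ⟨?_, ?_, ?_, ?_⟩
  · show (!![0, -1; 1, t] : Matrix (Fin 2) (Fin 2) F) 0 0 ∈ K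
    simp
  · show (!![0, -1; 1, t] : Matrix (Fin 2) (Fin 2) F) 0 1 ∈ K
    simp
  · show (!![0, -1; 1, t] : Matrix (Fin 2) (Fin 2) F) 1 0 ∈ K
    simp
  · show (!![0, -1; 1, t] : Matrix (Fin 2) (Fin 2) F) 1 1 ∈ K
    simpa using ht

theorem elE_not_mem_Ze (t : F) : elE t ∉ (Ze : Subgroup (Matrix.SpecialLinearGroup (Fin 2) F)) := by
  intro h
  rw [mem_Ze] at h
  have h1 : (elE t).1 1 0 = 1 := by
    show (!![0, -1; 1, t] : Matrix (Fin 2) (Fin 2) F) 1 0 = 1
    simp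
  rw [h.1] at h1
  exact zero_ne_one h1

/-! ### The canonical quaternion pair -/

/-- The second canonical quaternion generator. -/
def jE (α β : F) (h : α ^ 2 + β ^ 2 = -1) : Matrix.SpecialLinearGroup (Fin 2) F :=
  ⟨!![α, β; β, -α], by rw [Matrix.det_fin_two_of]; linear_combination (-1 : F) * h⟩

theorem wE00 : (wE : Matrix.SpecialLinearGroup (Fin 2) F).1 0 0 = 0 := rfl
theorem wE01 : (wE : Matrix.SpecialLinearGroup (Fin 2) F).1 0 1 = 1 := rfl
theorem wE10 : (wE : Matrix.SpecialLinearGroup (Fin 2) F).1 1 0 = -1 := rfl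
theorem wE11 : (wE : Matrix.SpecialLinearGroup (Fin 2) F).1 1 1 = 0 := rfl
theorem jE00 (α β : F) (h : α ^ 2 + β ^ 2 = -1) : (jE α β h).1 0 0 = α := rfl
theorem jE01 (α β : F) (h : α ^ 2 + β ^ 2 = -1) : (jE α β h).1 0 1 = β := rfl
theorem jE10 (α β : F) (h : α ^ 2 + β ^ 2 = -1) : (jE α β h).1 1 0 = β := rfl
theorem jE11 (α β : F) (h : α ^ 2 + β ^ 2 = -1) : (jE α β h).1 1 1 = -α := rfl

theorem mul2 (A B : Matrix (Fin 2) (Fin 2) F) (i j : Fin 2) :
    (A * B) i j = A i 0 * B 0 j + A i 1 * B 1 j := by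
  rw [Matrix.mul_apply, Fin.sum_univ_two]

/-- A quaternion pair in `SL(2, F)` is `GL₂`-conjugate to the canonical one. -/
theorem exists_canon (h2 : (2 : F) ≠ 0) {I J : Matrix.SpecialLinearGroup (Fin 2) F}
    (hI : I * I = -1) (hJ : J * J = -1) (hIJ : I * J = -(J * I)) {α β : F}
    (h : α ^ 2 + β ^ 2 = -1) :
    ∃ (P : Matrix (Fin 2) (Fin 2) F) (hP : P.det ≠ 0),
      conjHom P hP I = wE ∧ conjHom P hP J = jE α β h := by
  obtain ⟨a, ha⟩ : ∃ a, I.1 0 0 = a := ⟨_, rfl⟩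
  obtain ⟨b, hb⟩ : ∃ b, I.1 0 1 = b := ⟨_, rfl⟩
  obtain ⟨c, hc⟩ : ∃ c, I.1 1 0 = c := ⟨_, rfl⟩
  obtain ⟨d, hd⟩ : ∃ d, I.1 1 1 = d := ⟨_, rfl⟩
  obtain ⟨a', ha'⟩ : ∃ a', J.1 0 0 = a' := ⟨_, rfl⟩
  obtain ⟨b', hb'⟩ : ∃ b', J.1 0 1 = b' := ⟨_, rfl⟩
  obtain ⟨c', hc'⟩ : ∃ c', J.1 1 0 = c' := ⟨_, rfl⟩
  obtain ⟨d', hd'⟩ : ∃ d', J.1 1 1 = d' := ⟨_, rfl⟩
  have hdI := det_eq I
  have hdJ := det_eq J
  have i00 := congrArg (fun M : Matrix.SpecialLinearGroup (Fin 2) F => M.1 0 0) hI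
  have i11 := congrArg (fun M : Matrix.SpecialLinearGroup (Fin 2) F => M.1 1 1) hI
  have j00 := congrArg (fun M : Matrix.SpecialLinearGroup (Fin 2) F => M.1 0 0) hJ
  have j11 := congrArg (fun M : Matrix.SpecialLinearGroup (Fin 2) F => M.1 1 1) hJ
  have k00 := congrArg (fun M : Matrix.SpecialLinearGroup (Fin 2) F => M.1 0 0) hIJ
  simp only [mul00, mul11, neg00, neg11, one00, one11] at i00 i11 j00 j11 k00
  rw [ha, hb, hc, hd] at hdI
  rw [ha', hb', hc', hd'] at hdJ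
  rw [ha, hb, hc] at i00
  rw [hb, hc, hd] at i11
  rw [ha', hb', hc'] at j00
  rw [hb', hc', hd'] at j11
  rw [ha, hb, ha', hb', hc, hc'] at k00
  have hda : d = -a := by
    have h0 : (a + d) ^ 2 = 0 := by linear_combination i00 + i11 + 2 * hdI
    have := pow_eq_zero_iff (two_ne_zero) |>.1 h0
    linear_combination this
  have hda' : d' = -a' := by
    have h0 : (a' + d') ^ 2 = 0 := by linear_combination j00 + j11 + 2 * hdJ
    have := pow_eq_zero_iff (two_ne_zero) |>.1 h0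
    linear_combination this
  subst hda
  subst hda'
  have k00' : 2 * a * a' + b * c' + b' * c = 0 := by linear_combination k00
  -- the singular matrix
  let N₂ : Matrix (Fin 2) (Fin 2) F := !![a' - β * a - α, b' - β * b; c' - β * c, -a' + β * a - α]
  have hN : N₂.det = 0 := by
    rw [Matrix.det_fin_two_of]
    linear_combination h - j00 + β * k00' - β ^ 2 * i00
  obtain ⟨r, hr0, hr⟩ := Matrix.exists_vecMul_eq_zero_iff.2 hN
  obtain ⟨x, hx⟩ : ∃ x, r 0 = x := ⟨_, rfl⟩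
  obtain ⟨y, hy⟩ : ∃ y, r 1 = y := ⟨_, rfl⟩
  have E1 : x * (a' - β * a - α) + y * (c' - β * c) = 0 := by
    have := congrFun hr 0
    rw [Matrix.vecMul, dotProduct, Fin.sum_univ_two, hx, hy] at this
    exact this
  have E2 : x * (b' - β * b) + y * (-a' + β * a - α) = 0 := by
    have := congrFun hr 1
    rw [Matrix.vecMul, dotProduct, Fin.sum_univ_two, hx, hy] at this
    exact this
  have hxy : x ≠ 0 ∨ y ≠ 0 := by
    by_contra hcon
    push Not at hcon
    apply hr0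
    funext i
    fin_cases i
    · exact hx.trans hcon.1
    · exact hy.trans hcon.2
  let P : Matrix (Fin 2) (Fin 2) F := !![x, y; x * a + y * c, x * b - y * a]
  have hP00 : P 0 0 = x := rfl
  have hP01 : P 0 1 = y := rfl
  have hP10 : P 1 0 = x * a + y * c := rfl
  have hP11 : P 1 1 = x * b - y * a := rfl
  have hP : P.det ≠ 0 := by
    rw [Matrix.det_fin_two, hP00, hP01, hP10, hP11]
    intro hD
    have hxV : x * (x * b' - y * a') - y * (x * a' + y * c') = 0 := by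
      linear_combination x * E2 - y * E1 + β * hD
    have h_uU : (x * a + y * c) * (x * a' + y * c') = 0 := by
      have h3 : 2 * ((x * a + y * c) * (x * a' + y * c')) = 0 := by
        linear_combination x ^ 2 * k00' - c' * hD - c * hxV
      rcases mul_eq_zero.1 h3 with h4 | h4
      · exact absurd h4 h2
      · exact h4
    have h_uu : (x * a + y * c) ^ 2 + x ^ 2 = 0 := by
      linear_combination x ^ 2 * i00 - c * hD
    have h_UU : (x * a' + y * c') ^ 2 + x ^ 2 = 0 := by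
      linear_combination x ^ 2 * j00 - c' * hxV
    have h_vV : (x * b - y * a) * (x * b' - y * a') = 0 := by
      have h3 : 2 * ((x * b - y * a) * (x * b' - y * a')) = 0 := by
        linear_combination y ^ 2 * k00' + b' * hD + b * hxV
      rcases mul_eq_zero.1 h3 with h4 | h4
      · exact absurd h4 h2
      · exact h4
    have h_vv : (x * b - y * a) ^ 2 + y ^ 2 = 0 := by
      linear_combination y ^ 2 * i00 + b * hD
    have h_VV : (x * b' - y * a') ^ 2 + y ^ 2 = 0 := by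
      linear_combination y ^ 2 * j00 + b' * hxV
    rcases hxy with hx0 | hy0
    · rcases mul_eq_zero.1 h_uU with h5 | h5
      · rw [h5] at h_uu
        have : x ^ 2 = 0 := by linear_combination h_uu
        exact hx0 (pow_eq_zero_iff two_ne_zero |>.1 this)
      · rw [h5] at h_UU
        have : x ^ 2 = 0 := by linear_combination h_UU
        exact hx0 (pow_eq_zero_iff two_ne_zero |>.1 this)
    · rcases mul_eq_zero.1 h_vV with h5 | h5
      · rw [h5] at h_vv
        have : y ^ 2 = 0 := by linear_combination h_vv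
        exact hy0 (pow_eq_zero_iff two_ne_zero |>.1 this)
      · rw [h5] at h_VV
        have : y ^ 2 = 0 := by linear_combination h_VV
        exact hy0 (pow_eq_zero_iff two_ne_zero |>.1 this)
  refine ⟨P, hP, conjHom_apply_eq _ hP _ _ ?_, conjHom_apply_eq _ hP _ _ ?_⟩
  · ext i j
    fin_cases i <;> fin_cases j
    · show ((wE : Matrix.SpecialLinearGroup (Fin 2) F).1 * P) 0 0 = (P * I.1) 0 0
      rw [mul2, mul2, wE00, wE01, hP00, hP01, hP10, ha, hc]
      ring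
    · show ((wE : Matrix.SpecialLinearGroup (Fin 2) F).1 * P) 0 1 = (P * I.1) 0 1
      rw [mul2, mul2, wE00, wE01, hP00, hP01, hP11, hb, hd]
      ring
    · show ((wE : Matrix.SpecialLinearGroup (Fin 2) F).1 * P) 1 0 = (P * I.1) 1 0
      rw [mul2, mul2, wE10, wE11, hP00, hP10, hP11, ha, hc]
      linear_combination (-x) * i00
    · show ((wE : Matrix.SpecialLinearGroup (Fin 2) F).1 * P) 1 1 = (P * I.1) 1 1
      rw [mul2, mul2, wE10, wE11, hP01, hP10, hP11, hb, hd]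
      linear_combination (-y) * i00
  · ext i j
    fin_cases i <;> fin_cases j
    · show ((jE α β h).1 * P) 0 0 = (P * J.1) 0 0
      rw [mul2, mul2, jE00, jE01, hP00, hP01, hP10, ha', hc']
      linear_combination (-1 : F) * E1
    · show ((jE α β h).1 * P) 0 1 = (P * J.1) 0 1
      rw [mul2, mul2, jE00, jE01, hP00, hP01, hP11, hb', hd']
      linear_combination (-1 : F) * E2
    · show ((jE α β h).1 * P) 1 0 = (P * J.1) 1 0
      rw [mul2, mul2, jE10, jE11, hP00, hP10, hP11, ha', hc']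
      linear_combination (-x) * k00' + a * E1 + c * E2 + β * x * i00
    · show ((jE α β h).1 * P) 1 1 = (P * J.1) 1 1
      rw [mul2, mul2, jE10, jE11, hP01, hP10, hP11, hb', hd']
      linear_combination (-y) * k00' + b * E1 - a * E2 + β * y * i00

theorem half_mem (h2 : (2 : F) ≠ 0) (K : Subfield F) {e E : F} (h : 2 * e = E) (hE : E ∈ K) :
    e ∈ K := by
  have h2K : (2 : F) ∈ K := by
    rw [← one_add_one_eq_two]; exact K.add_mem K.one_mem K.one_mem
  have : e = 2⁻¹ * E := by rw [← h]; field_simp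
  rw [this]
  exact K.mul_mem (K.inv_mem h2K) hE

/-- Entries from traces against the canonical quaternion basis. -/
theorem entries_of_traces (h2 : (2 : F) ≠ 0) (K : Subfield F) {α β : F} (hα : α ∈ K)
    (hβ : β ∈ K) (hαβ : α ^ 2 + β ^ 2 = -1) (g : Matrix.SpecialLinearGroup (Fin 2) F) (ν : F)
    (h1 : ν * tr g ∈ K) (h2' : ν * tr (g * wE) ∈ K) (h3 : ν * tr (g * jE α β hαβ) ∈ K)
    (h4 : ν * tr (g * wE * jE α β hαβ) ∈ K) :
    g.1 0 0 * ν ∈ K ∧ g.1 0 1 * ν ∈ K ∧ g.1 1 0 * ν ∈ K ∧ g.1 1 1 * ν ∈ K := by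
  obtain ⟨w, hw⟩ : ∃ w, g.1 0 0 = w := ⟨_, rfl⟩
  obtain ⟨x, hx⟩ : ∃ x, g.1 0 1 = x := ⟨_, rfl⟩
  obtain ⟨y, hy⟩ : ∃ y, g.1 1 0 = y := ⟨_, rfl⟩
  obtain ⟨z, hz⟩ : ∃ z, g.1 1 1 = z := ⟨_, rfl⟩
  have e1 : tr g = w + z := by unfold tr; rw [hw, hz]
  have e2 : tr (g * wE) = y - x := by
    unfold tr
    rw [mul00, mul11, wE00, wE10, wE01, wE11, hx, hy]; ring
  have e3 : tr (g * jE α β hαβ) = α * (w - z) + β * (x + y) := by
    unfold tr
    rw [mul00, mul11, jE00, jE10, jE01, jE11, hw, hx, hy, hz]; ring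
  have e4 : tr (g * wE * jE α β hαβ) = β * (w - z) - α * (x + y) := by
    unfold tr
    rw [mul00, mul11, mul00, mul01, mul10, mul11, jE00, jE10, jE01, jE11, wE00, wE10, wE01, wE11,
      hw, hx, hy, hz]; ring
  rw [e1] at h1
  rw [e2] at h2'
  rw [e3] at h3
  rw [e4] at h4
  have m34 := K.add_mem (K.mul_mem hα h3) (K.mul_mem hβ h4)
  have m34' := K.sub_mem (K.mul_mem hβ h3) (K.mul_mem hα h4)
  rw [hw, hx, hy, hz]
  refine ⟨?_, ?_, ?_, ?_⟩
  · refine half_mem h2 K ?_ (K.sub_mem h1 m34)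
    linear_combination (ν * (w - z)) * hαβ
  · refine half_mem h2 K ?_ (K.sub_mem (K.neg_mem m34') h2')
    linear_combination (ν * (x + y)) * hαβ
  · refine half_mem h2 K ?_ (K.add_mem (K.neg_mem m34') h2')
    linear_combination (ν * (x + y)) * hαβ
  · refine half_mem h2 K ?_ (K.add_mem h1 m34)
    linear_combination (-(ν * (w - z))) * hαβ

/-- **Descent**: a maximal subgroup of `SL(2, F)` containing a quaternion pair, whose traces
lie in a proper subfield `K` (up to a twist by an index-two subset), contains elements of every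
trace in `K`. -/
theorem descent [Fintype F] (h2 : (2 : F) ≠ 0)
    (L : Subgroup (Matrix.SpecialLinearGroup (Fin 2) F)) (hL : IsCoatom L)
    (K : Subfield F) (hK : K ≠ ⊤) {α β : F} (hα : α ∈ K) (hβ : β ∈ K)
    (hαβ : α ^ 2 + β ^ 2 = -1) {I J : Matrix.SpecialLinearGroup (Fin 2) F} (hIL : I ∈ L)
    (hJL : J ∈ L) (hI : I * I = -1) (hJ : J * J = -1) (hIJ : I * J = -(J * I))
    (N : Set (Matrix.SpecialLinearGroup (Fin 2) F)) (s : F) (hs : s ≠ 0)
    (hN1 : ∀ g ∈ L, g ∈ N → tr g ∈ K) (hN2 : ∀ g ∈ L, g ∉ N → s * tr g ∈ K)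
    (hNI : ∀ g ∈ L, (g * I ∈ N ↔ g ∈ N)) (hNJ : ∀ g ∈ L, (g * J ∈ N ↔ g ∈ N)) :
    ∀ t ∈ K, ∃ g ∈ L, g ∉ (Ze : Subgroup _) ∧ tr g = t := by
  obtain ⟨P, hP, hPI, hPJ⟩ := exists_canon h2 hI hJ hIJ hαβ
  let σ : Matrix.SpecialLinearGroup (Fin 2) F ≃* Matrix.SpecialLinearGroup (Fin 2) F :=
    MulEquiv.ofBijective (conjHom P hP)
      ⟨conjHom_injective P hP, Finite.surjective_of_injective (conjHom_injective P hP)⟩
  have hσ : ∀ x, σ x = conjHom P hP x := fun x => rfl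
  have hσI : σ I = wE := by rw [hσ]; exact hPI
  have hσJ : σ J = jE α β hαβ := by rw [hσ]; exact hPJ
  have htr : ∀ x, tr (σ x) = tr x := fun x => by rw [hσ]; exact tr_conjHom P hP x
  have hL' : IsCoatom (L.map σ.toMonoidHom) := Cfsg.Agent.H64.MX.isCoatom_map σ hL
  have hle : L.map σ.toMonoidHom ≤ Cfsg.Agent.H64.MX.ratSub K := by
    rintro g' ⟨g, hg, rfl⟩
    have hgI : g * I ∈ L := L.mul_mem hg hIL
    have hgJ : g * J ∈ L := L.mul_mem hg hJL
    have hgIJ : g * I * J ∈ L := L.mul_mem hgI hJL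
    have t1 : tr (σ g) = tr g := htr g
    have t2 : tr (σ g * wE) = tr (g * I) := by rw [← hσI, ← map_mul, htr]
    have t3 : tr (σ g * jE α β hαβ) = tr (g * J) := by rw [← hσJ, ← map_mul, htr]
    have t4 : tr (σ g * wE * jE α β hαβ) = tr (g * I * J) := by
      rw [← hσI, ← hσJ, ← map_mul, ← map_mul, htr]
    show σ g ∈ Cfsg.Agent.H64.MX.ratSub K
    by_cases hgN : g ∈ N
    · have hgIN : g * I ∈ N := (hNI g hg).2 hgN
      have hgJN : g * J ∈ N := (hNJ g hg).2 hgN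
      have hgIJN : g * I * J ∈ N := (hNJ _ hgI).2 hgIN
      have := entries_of_traces h2 K hα hβ hαβ (σ g) 1
        (by rw [one_mul, t1]; exact hN1 g hg hgN)
        (by rw [one_mul, t2]; exact hN1 _ hgI hgIN)
        (by rw [one_mul, t3]; exact hN1 _ hgJ hgJN)
        (by rw [one_mul, t4]; exact hN1 _ hgIJ hgIJN)
      exact ⟨1, one_ne_zero, this⟩
    · have hgIN : g * I ∉ N := fun h => hgN ((hNI g hg).1 h)
      have hgJN : g * J ∉ N := fun h => hgN ((hNJ g hg).1 h)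
      have hgIJN : g * I * J ∉ N := fun h => hgIN ((hNJ _ hgI).1 h)
      have := entries_of_traces h2 K hα hβ hαβ (σ g) s
        (by rw [t1]; exact hN2 g hg hgN)
        (by rw [t2]; exact hN2 _ hgI hgIN)
        (by rw [t3]; exact hN2 _ hgJ hgJN)
        (by rw [t4]; exact hN2 _ hgIJ hgIJN)
      exact ⟨s, hs, this⟩
  have heq : L.map σ.toMonoidHom = Cfsg.Agent.H64.MX.ratSub K := by
    by_contra hne
    exact ratSub_ne_top hK (hL'.2 _ (lt_of_le_of_ne hle hne))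
  intro t ht
  have hmem : elE t ∈ L.map σ.toMonoidHom := by
    rw [heq]; exact stdSub_le_ratSub K (elE_mem_stdSub ht)
  obtain ⟨g, hg, hgt⟩ := hmem
  have hgt' : σ g = elE t := hgt
  refine ⟨g, hg, ?_, ?_⟩
  · intro hZ
    have := equiv_mem_Ze σ hZ
    rw [hgt'] at this
    exact elE_not_mem_Ze t this
  · rw [← htr g, hgt', tr_elE]

end Cfsg.Agent.H18.Dk
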