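import Mathlib
import Cfsg.Agent.H18.DkMx1

/-!
# Maximal subgroups of `PSL(2, q)`, `q` odd: traces of elements of small order (helper18)
-/

set_option autoImplicit false
set_option linter.unusedSectionVars false
set_option linter.unusedVariables false
set_option linter.deprecated false
set_option linter.unusedSimpArgs false
set_option linter.style.haveILetI false

namespace Cfsg.Agent.H18.Dk

open Matrix Cfsg.Agent.H65.SL2 Cfsg.Agent.H29.Dk

variable {F : Type*} [Field F]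

/-! ### Powers in `SL(2, F)` -/

/-- The coefficients of `g ^ n = U_n g - U_{n-1}`. -/
def cU (t : F) : ℕ → F
  | 0 => 0
  | 1 => 1
  | (n + 2) => t * cU t (n + 1) - cU t n

theorem cU_zero (t : F) : cU t 0 = 0 := rfl
theorem cU_one (t : F) : cU t 1 = 1 := rfl
theorem cU_succ (t : F) (n : ℕ) : cU t (n + 2) = t * cU t (n + 1) - cU t n := rfl

theorem cU_two (t : F) : cU t 2 = t := by rw [cU_succ, cU_one, cU_zero]; ring
theorem cU_three (t : F) : cU t 3 = t ^ 2 - 1 := by rw [cU_succ, cU_two, cU_one]; ring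
theorem cU_four (t : F) : cU t 4 = t ^ 3 - 2 * t := by rw [cU_succ, cU_three, cU_two]; ring
theorem cU_five (t : F) : cU t 5 = t ^ 4 - 3 * t ^ 2 + 1 := by
  rw [cU_succ, cU_four, cU_three]; ring

theorem pow_entries (g : Matrix.SpecialLinearGroup (Fin 2) F) (n : ℕ) :
    (g ^ (n + 1)).1 0 0 = cU (tr g) (n + 1) * g.1 0 0 - cU (tr g) n ∧
    (g ^ (n + 1)).1 0 1 = cU (tr g) (n + 1) * g.1 0 1 ∧
    (g ^ (n + 1)).1 1 0 = cU (tr g) (n + 1) * g.1 1 0 ∧
    (g ^ (n + 1)).1 1 1 = cU (tr g) (n + 1) * g.1 1 1 - cU (tr g) n := by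
  induction n with
  | zero =>
    rw [zero_add, pow_one, cU_one, cU_zero]
    refine ⟨by ring, by ring, by ring, by ring⟩
  | succ n ih =>
    obtain ⟨h00, h01, h10, h11⟩ := ih
    have hd := det_eq g
    have e : g ^ (n + 1 + 1) = g ^ (n + 1) * g := pow_succ g (n + 1)
    rw [e, mul00, mul01, mul10, mul11, h00, h01, h10, h11, cU_succ]
    unfold tr
    refine ⟨?_, ?_, ?_, ?_⟩
    · linear_combination (-cU (g.1 0 0 + g.1 1 1) (n + 1)) * hd
    · ring
    · ring
    · linear_combination (-cU (g.1 0 0 + g.1 1 1) (n + 1)) * hd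

theorem cU_eq_zero_of_pow_mem_Ze {g : Matrix.SpecialLinearGroup (Fin 2) F} (n : ℕ)
    (hg : g ∉ (Ze : Subgroup _)) (h : g ^ (n + 1) ∈ (Ze : Subgroup _)) :
    cU (tr g) (n + 1) = 0 := by
  obtain ⟨h00, h01, h10, h11⟩ := pow_entries g n
  rw [mem_Ze, h10, h01, h00, h11] at h
  by_contra hU
  apply hg
  rw [mem_Ze]
  obtain ⟨e1, e2, e3⟩ := h
  refine ⟨?_, ?_, ?_⟩
  · exact (mul_eq_zero.1 e1).resolve_left hU
  · exact (mul_eq_zero.1 e2).resolve_left hU
  · have : cU (tr g) (n + 1) * (g.1 0 0 - g.1 1 1) = 0 := by linear_combination e3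
    have := (mul_eq_zero.1 this).resolve_left hU
    linear_combination this

theorem tr_of_sq_mem_Ze {g : Matrix.SpecialLinearGroup (Fin 2) F}
    (hg : g ∉ (Ze : Subgroup _)) (h : g ^ 2 ∈ (Ze : Subgroup _)) : tr g = 0 := by
  have := cU_eq_zero_of_pow_mem_Ze 1 hg h
  rwa [cU_two] at this

theorem tr_of_cube_mem_Ze {g : Matrix.SpecialLinearGroup (Fin 2) F}
    (hg : g ∉ (Ze : Subgroup _)) (h : g ^ 3 ∈ (Ze : Subgroup _)) : tr g = 1 ∨ tr g = -1 := by
  have := cU_eq_zero_of_pow_mem_Ze 2 hg h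
  rw [cU_three] at this
  have h2 : (tr g - 1) * (tr g + 1) = 0 := by linear_combination this
  rcases mul_eq_zero.1 h2 with h3 | h3
  · left; linear_combination h3
  · right; linear_combination h3

theorem tr_of_pow4_mem_Ze {g : Matrix.SpecialLinearGroup (Fin 2) F}
    (hg : g ∉ (Ze : Subgroup _)) (h : g ^ 4 ∈ (Ze : Subgroup _)) :
    tr g = 0 ∨ tr g * tr g = 2 := by
  have := cU_eq_zero_of_pow_mem_Ze 3 hg h
  rw [cU_four] at this
  have h2 : tr g * (tr g * tr g - 2) = 0 := by linear_combination this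
  rcases mul_eq_zero.1 h2 with h3 | h3
  · left; exact h3
  · right; linear_combination h3

theorem tr_of_pow5_mem_Ze {g : Matrix.SpecialLinearGroup (Fin 2) F}
    (hg : g ∉ (Ze : Subgroup _)) (h : g ^ 5 ∈ (Ze : Subgroup _)) :
    (2 * tr g + 1) * (2 * tr g + 1) = 5 ∨ (2 * tr g - 1) * (2 * tr g - 1) = 5 := by
  have := cU_eq_zero_of_pow_mem_Ze 4 hg h
  rw [cU_five] at this
  have h2 : ((2 * tr g + 1) * (2 * tr g + 1) - 5) * ((2 * tr g - 1) * (2 * tr g - 1) - 5) = 0 := by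
    linear_combination 16 * this
  rcases mul_eq_zero.1 h2 with h3 | h3
  · left; linear_combination h3
  · right; linear_combination h3

theorem tr_mem_of_mem_Ze (K : Subfield F) {g : Matrix.SpecialLinearGroup (Fin 2) F}
    (h : g ∈ (Ze : Subgroup _)) : tr g ∈ K := by
  have h2K : (2 : F) ∈ K := by
    rw [← one_add_one_eq_two]; exact K.add_mem K.one_mem K.one_mem
  rcases mem_Ze_iff.1 h with rfl | rfl
  · have : tr (1 : Matrix.SpecialLinearGroup (Fin 2) F) = 2 := by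
      unfold tr; rw [one00, one11]; norm_num
    rw [this]; exact h2K
  · have : tr (-1 : Matrix.SpecialLinearGroup (Fin 2) F) = -2 := by
      unfold tr; rw [neg00, neg11, one00, one11]; norm_num
    rw [this]; exact K.neg_mem h2K

theorem tr_mem_of_pow23 (K : Subfield F) {g : Matrix.SpecialLinearGroup (Fin 2) F}
    (h : g ^ 2 ∈ (Ze : Subgroup _) ∨ g ^ 3 ∈ (Ze : Subgroup _)) : tr g ∈ K := by
  by_cases hZ : g ∈ (Ze : Subgroup _)
  · exact tr_mem_of_mem_Ze K hZ
  rcases h with h | h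
  · rw [tr_of_sq_mem_Ze hZ h]; exact K.zero_mem
  · rcases tr_of_cube_mem_Ze hZ h with h1 | h1
    · rw [h1]; exact K.one_mem
    · rw [h1]; exact K.neg_mem K.one_mem

theorem tr_mem_of_pow235 (h2 : (2 : F) ≠ 0) (K : Subfield F) (hK5 : ∀ w : F, w * w = 5 → w ∈ K)
    {g : Matrix.SpecialLinearGroup (Fin 2) F}
    (h : g ^ 2 ∈ (Ze : Subgroup _) ∨ g ^ 3 ∈ (Ze : Subgroup _) ∨ g ^ 5 ∈ (Ze : Subgroup _)) :
    tr g ∈ K := by
  rcases h with h | h | h
  · exact tr_mem_of_pow23 K (Or.inl h)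
  · exact tr_mem_of_pow23 K (Or.inr h)
  by_cases hZ : g ∈ (Ze : Subgroup _)
  · exact tr_mem_of_mem_Ze K hZ
  rcases tr_of_pow5_mem_Ze hZ h with h1 | h1
  · have hw := hK5 _ h1
    exact half_mem h2 K (e := tr g) (E := (2 * tr g + 1) - 1) (by ring) (K.sub_mem hw K.one_mem)
  · have hw := hK5 _ h1
    exact half_mem h2 K (e := tr g) (E := (2 * tr g - 1) + 1) (by ring) (K.add_mem hw K.one_mem)

/-! ### Lifting through an isomorphism -/

theorem pow_mem_Ze_of_equiv {X : Type*} [Group X]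
    (M : Subgroup (Matrix.ProjectiveSpecialLinearGroup (Fin 2) F)) (f : ↥M ≃* X)
    {g : Matrix.SpecialLinearGroup (Fin 2) F} (hg : mkP F g ∈ M) (n : ℕ)
    (h : f ⟨mkP F g, hg⟩ ^ n = 1) : g ^ n ∈ (Ze : Subgroup _) := by
  rw [← map_pow, ← map_one f] at h
  have h1 := f.injective h
  have h2 := congrArg Subtype.val h1
  rw [Subgroup.coe_pow, Subgroup.coe_one] at h2
  rw [← mkP_eq_one_iff, map_pow]
  exact h2

/-- Lifting a pair of commuting involutions to a quaternion pair. -/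
theorem exists_quat_of_equiv {X : Type*} [Group X] (h2 : (2 : F) ≠ 0)
    (M : Subgroup (Matrix.ProjectiveSpecialLinearGroup (Fin 2) F)) (f : ↥M ≃* X) (a b : X)
    (ha1 : a ≠ 1) (hb1 : b ≠ 1) (hab : a ≠ b) (ha2 : a * a = 1) (hb2 : b * b = 1)
    (hc : a * b = b * a) :
    ∃ (I J : Matrix.SpecialLinearGroup (Fin 2) F) (hI : mkP F I ∈ M) (hJ : mkP F J ∈ M),
      f ⟨mkP F I, hI⟩ = a ∧ f ⟨mkP F J, hJ⟩ = b ∧ I * I = -1 ∧ J * J = -1 ∧ I * J = -(J * I) := by
  obtain ⟨I, hI⟩ := mkP_surjective ((f.symm a : ↥M) : Matrix.ProjectiveSpecialLinearGroup (Fin 2) F)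
  obtain ⟨J, hJ⟩ := mkP_surjective ((f.symm b : ↥M) : Matrix.ProjectiveSpecialLinearGroup (Fin 2) F)
  have hIM : mkP F I ∈ M := by rw [hI]; exact (f.symm a).2
  have hJM : mkP F J ∈ M := by rw [hJ]; exact (f.symm b).2
  have hfI : f ⟨mkP F I, hIM⟩ = a := by
    have : (⟨mkP F I, hIM⟩ : ↥M) = f.symm a := Subtype.ext hI
    rw [this, MulEquiv.apply_symm_apply]
  have hfJ : f ⟨mkP F J, hJM⟩ = b := by
    have : (⟨mkP F J, hJM⟩ : ↥M) = f.symm b := Subtype.ext hJ
    rw [this, MulEquiv.apply_symm_apply]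
  have hIZ : I ∉ (Ze : Subgroup _) := by
    intro hZ
    apply ha1
    have : (⟨mkP F I, hIM⟩ : ↥M) = 1 := Subtype.ext (mkP_eq_one_iff.2 hZ)
    rw [← hfI, this, map_one]
  have hJZ : J ∉ (Ze : Subgroup _) := by
    intro hZ
    apply hb1
    have : (⟨mkP F J, hJM⟩ : ↥M) = 1 := Subtype.ext (mkP_eq_one_iff.2 hZ)
    rw [← hfJ, this, map_one]
  have hII : I * I = -1 := by
    have h1 : I ^ 2 ∈ (Ze : Subgroup _) :=
      pow_mem_Ze_of_equiv M f hIM 2 (by rw [hfI, pow_two, ha2])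
    rw [pow_two] at h1
    rcases mem_Ze_iff.1 h1 with h3 | h3
    · exact absurd (mem_Ze_of_mul_self h2 h3) hIZ
    · exact h3
  have hJJ : J * J = -1 := by
    have h1 : J ^ 2 ∈ (Ze : Subgroup _) :=
      pow_mem_Ze_of_equiv M f hJM 2 (by rw [hfJ, pow_two, hb2])
    rw [pow_two] at h1
    rcases mem_Ze_iff.1 h1 with h3 | h3
    · exact absurd (mem_Ze_of_mul_self h2 h3) hJZ
    · exact h3
  refine ⟨I, J, hIM, hJM, hfI, hfJ, hII, hJJ, ?_⟩
  have hcomm : mkP F (I * J) = mkP F (J * I) := by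
    rw [map_mul, map_mul, hI, hJ, ← Subgroup.coe_mul, ← Subgroup.coe_mul, ← map_mul, ← map_mul, hc]
  rw [mkP_eq_iff] at hcomm
  rcases mem_Ze_iff.1 hcomm with h3 | h3
  · -- `I` and `J` commute: impossible
    exfalso
    have h4 : J * I = I * J := by
      have := inv_mul_eq_one.1 h3
      exact this.symm
    have h5 : (I * J) * (I * J) = 1 := by
      calc (I * J) * (I * J) = I * (J * I) * J := by group
        _ = I * (I * J) * J := by rw [h4]
        _ = (I * I) * (J * J) := by group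
        _ = 1 := by rw [hII, hJJ]; simp
    have h6 := mem_Ze_of_mul_self h2 h5
    have h7 : mkP F I * mkP F J = 1 := by rw [← map_mul]; exact mkP_eq_one_iff.2 h6
    have h8 : (⟨mkP F I, hIM⟩ : ↥M) * ⟨mkP F J, hJM⟩ = 1 := Subtype.ext h7
    have h9 := congrArg f h8
    rw [map_mul, hfI, hfJ, map_one] at h9
    apply hab
    calc a = a * (b * b) := by rw [hb2, mul_one]
      _ = (a * b) * b := by group
      _ = b := by rw [h9, one_mul]
  · have h4 : J * I = (I * J) * (-1) := by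
      rw [← h3]; group
    rw [h4]
    simp

end Cfsg.Agent.H18.Dk
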