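import Mathlib
import Cfsg.Agent.H18.DkMx2

/-!
# Maximal subgroups of `PSL(2, q)`, `q` odd: the unipotent reduction, refined (helper18)
-/

set_option autoImplicit false
set_option linter.unusedSectionVars false
set_option linter.unusedVariables false
set_option linter.deprecated false
set_option linter.unusedSimpArgs false

namespace Cfsg.Agent.H18.Dk

open Matrix Cfsg.Agent.H65.SL2 Cfsg.Agent.H29.Dk

variable {F : Type*} [Field F] [Fintype F] (L : Subgroup (Matrix.SpecialLinearGroup (Fin 2) F))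

/-- **Refined reduction** (odd characteristic): a subgroup containing `uT 1` is triangular, or
is `A₅` in characteristic `3`, or is not triangular and has order `(q₀ + 1) |L ∩ B|`. -/
theorem dk_unip_red' (p : ℕ) [Fact p.Prime] [CharP F p] (hp2 : p ≠ 2)
    (hZL : (Ze : Subgroup _) ≤ L) (h1 : uT (1 : F) ∈ L) :
    L ≤ (Bo : Subgroup _) ∨
    (p = 3 ∧ Nonempty (↥(L.map (mkP F)) ≃* alternatingGroup (Fin 5))) ∨
    (¬ L ≤ (Bo : Subgroup _) ∧
      Nat.card L = (Nat.card (L ⊓ Un : Subgroup _) + 1) * Nat.card (L ⊓ Bo : Subgroup _)) := by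
  classical
  by_cases hLB : L ≤ (Bo : Subgroup _)
  · left; exact hLB
  obtain ⟨g₀, hg₀L, hg₀B⟩ := SetLike.not_le_iff_exists.1 hLB
  have hu1 : uT (1 : F) ≠ 1 := uT_ne_one one_ne_zero
  have hu1Z : uT (1 : F) ∉ (Ze : Subgroup _) := uT_one_not_mem_Ze
  have hzpos : 0 < Nat.card (Ze : Subgroup (Matrix.SpecialLinearGroup (Fin 2) F)) := Nat.card_pos
  have hβpos : 0 < Nat.card (L ⊓ Bo : Subgroup _) := Nat.card_pos
  have hLpos : 0 < Nat.card L := Nat.card_pos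
  have hq2 : 2 ≤ Nat.card (L ⊓ Un : Subgroup _) := by
    have hne : (L ⊓ Un : Subgroup (Matrix.SpecialLinearGroup (Fin 2) F)) ≠ ⊥ := by
      intro h
      have hmem : uT (1 : F) ∈ (L ⊓ Un : Subgroup _) := Subgroup.mem_inf.2 ⟨h1, uT_mem_Un 1⟩
      rw [h, Subgroup.mem_bot] at hmem
      exact hu1 hmem
    exact (Subgroup.one_lt_card_iff_ne_bot _).2 hne
  have hUZ := card_UZ L hZL
  have hcen1 : Cen L (uT (1 : F)) = L ⊓ UZ := cen_of_mem_T L (uT_mem_Un 1) hu1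
  have hnb1 : Nb L (uT (1 : F)) = L ⊓ Bo := nb_of_mem_T L h1 (uT_mem_Un 1) hu1
  have hLZ : (L ⊓ Ze : Subgroup (Matrix.SpecialLinearGroup (Fin 2) F)) = Ze := inf_eq_right.2 hZL
  obtain ⟨t, ht⟩ : Nat.card (Ze : Subgroup (Matrix.SpecialLinearGroup (Fin 2) F)) *
      Nat.card (L ⊓ Un : Subgroup _) ∣ Nat.card (L ⊓ Bo : Subgroup _) := by
    rw [← hUZ]; exact Subgroup.card_dvd_of_le (inf_le_inf_left L UZ_le_Bo)
  obtain ⟨s, hs⟩ : Nat.card (L ⊓ Bo : Subgroup _) ∣ Nat.card L :=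
    Subgroup.card_dvd_of_le inf_le_left
  have hBle := card_B_le L h1
  rw [hUZ] at hBle
  have hDsub : Dc L g₀ ⊆ (L : Set (Matrix.SpecialLinearGroup (Fin 2) F)) \
      ((L ⊓ Bo : Subgroup _) : Set (Matrix.SpecialLinearGroup (Fin 2) F)) := fun x hx =>
    ⟨Dc_subset L hg₀L hx, fun hxB => Dc_not_Bo L hg₀B hx (Subgroup.mem_inf.1 hxB).2⟩
  have hD := Set.ncard_le_ncard hDsub (Set.toFinite _)
  rw [Dc_card L hg₀B, Set.ncard_diff (fun x hx => (Subgroup.mem_inf.1 hx).1)] at hD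
  have e1 : ((L : Set (Matrix.SpecialLinearGroup (Fin 2) F))).ncard = Nat.card L := rfl
  have e2 : ((L ⊓ Bo : Subgroup _) : Set (Matrix.SpecialLinearGroup (Fin 2) F)).ncard =
      Nat.card (L ⊓ Bo : Subgroup _) := rfl
  rw [e1, e2] at hD
  have hLcard := card_L_eq L hZL
  -- classes
  obtain ⟨T, hT1, hT2, hT3, hT4⟩ := class_sum L Ze hZc_Ze hCA_Ze
  obtain ⟨u₀, hu₀T, hu₀⟩ := hT3 (uT 1) h1 hu1Z
  have hu₀Z := (hT1 u₀ hu₀T).2
  have hObeq : Ob L Ze (uT (1 : F)) = Ob L Ze u₀ := ob_eq_of_mem hZc_Ze hCA_Ze hu₀Z hu₀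
  have hsemi : ∀ x ∈ T.erase u₀, tr x ^ 2 ≠ 4 := by
    intro x hx htr
    obtain ⟨hxne, hxT⟩ := Finset.mem_erase.1 hx
    have h2 := mem_ob_of_tr' L p hZL h1 (hT1 x hxT).1 (hT1 x hxT).2 htr
    rw [hObeq] at h2
    exact hT2 u₀ hu₀T x hxT (Ne.symm hxne) h2
  have hW := fun x (hx : x ∈ T.erase u₀) =>
    cls_weight L hZL (hT1 x (Finset.mem_of_mem_erase hx)).1 (hT1 x (Finset.mem_of_mem_erase hx)).2
      (hsemi x hx)
  have hob := ob_card hZc_Ze hCA_Ze (L := L) hu1Z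
  have hyb := yb_card (L := L) (Zs := Ze) (uT (1 : F)) (zs_le_cen hZc_Ze _)
  rw [hLZ, hcen1, hUZ] at hyb
  rw [hyb, hnb1, hObeq] at hob
  have hcU := card_of_mem_ob hZc_Ze hCA_Ze hu₀Z hu₀
  rw [hcen1, hnb1, hUZ] at hcU
  have hsplit := Finset.add_sum_erase T (fun x => (Ob L Ze x).ncard) hu₀T
  rw [← hsplit, Finset.sum_congr rfl (fun x hx => (hW x hx).2.2.2.2.2), ← Finset.mul_sum,
    hLZ] at hT4
  have hcB := fun y hyL hyBo hytr => cen_card_of_B L (h := y) hyL hyBo hytr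
  -- abstract the numbers
  generalize hzdef : Nat.card (Ze : Subgroup (Matrix.SpecialLinearGroup (Fin 2) F)) = z at *
  generalize hq₀def : Nat.card (L ⊓ Un : Subgroup _) = q₀ at *
  generalize hβdef : Nat.card (L ⊓ Bo : Subgroup _) = β at *
  generalize hndef : Nat.card L = n at *
  generalize hobdef : (Ob L Ze u₀).ncard = ob at *
  subst ht
  subst hs
  have hq₀pos : 0 < q₀ := by omega
  have hzq : 0 < z * q₀ := Nat.mul_pos hzpos hq₀pos
  have ht1 : 1 ≤ t := by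
    rcases Nat.eq_zero_or_pos t with h | h
    · rw [h, mul_zero] at hβpos; omega
    · exact h
  have hs1 : 1 ≤ s := by
    rcases Nat.eq_zero_or_pos s with h | h
    · rw [h, mul_zero] at hLpos; omega
    · exact h
  have htq : t + 1 ≤ q₀ := by
    have h2 : (z * q₀) * (t + 1) ≤ (z * q₀) * q₀ := by
      calc (z * q₀) * (t + 1) = z * q₀ * t + z * q₀ := by ring
        _ ≤ q₀ * (z * q₀) := hBle
        _ = (z * q₀) * q₀ := by ring
    exact Nat.le_of_mul_le_mul_left h2 hzq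
  have hsq : q₀ + 1 ≤ s := by
    have h2 : (z * q₀ * t) * (q₀ + 1) ≤ (z * q₀ * t) * s := by
      have h3 : z * q₀ * t ≤ z * q₀ * t * s := Nat.le_mul_of_pos_right _ hs1
      calc (z * q₀ * t) * (q₀ + 1) = q₀ * (z * q₀ * t) + z * q₀ * t := by ring
        _ ≤ (z * q₀ * t * s - z * q₀ * t) + z * q₀ * t := Nat.add_le_add_right hD _
        _ = z * q₀ * t * s := Nat.sub_add_cancel h3
    exact Nat.le_of_mul_le_mul_left h2 hβpos
  have hh : hC L = s * q₀ * t := by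
    have h2 : z * hC L = z * (s * q₀ * t) := by rw [← hLcard]; ring
    exact Nat.eq_of_mul_eq_mul_left hzpos h2
  have hObU : ob = z * (s * (q₀ - 1)) := by
    have h2 : z * q₀ - z = z * (q₀ - 1) := by rw [Nat.mul_sub, mul_one]
    rw [h2] at hob
    have h3 : ob * (z * q₀ * t) = (z * (s * (q₀ - 1))) * (z * q₀ * t) := by rw [hob]; ring
    exact Nat.eq_of_mul_eq_mul_right hβpos h3
  have hsum : ∑ x ∈ T.erase u₀, hC L / (eC L x * fC L x) * (eC L x - 1) + s * (q₀ - 1) + 1 =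
      hC L := by
    rw [hObU, hLcard] at hT4
    have h2 : z * (∑ x ∈ T.erase u₀, hC L / (eC L x * fC L x) * (eC L x - 1) + s * (q₀ - 1) + 1) =
        z * hC L := by rw [← hT4]; ring
    exact Nat.eq_of_mul_eq_mul_left hzpos h2
  have hi₀ : 2 ≤ t → ∃ i ∈ T.erase u₀, eC L i = t := by
    intro ht2
    have hne : ¬ ((L ⊓ Bo : Subgroup (Matrix.SpecialLinearGroup (Fin 2) F)) ≤ L ⊓ UZ) := by
      intro hle
      have h2 : Nat.card (L ⊓ Bo : Subgroup _) ≤ Nat.card (L ⊓ UZ : Subgroup _) :=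
        Nat.card_mono (Set.toFinite _) (fun g hg => hle hg)
      rw [hβdef, hUZ] at h2
      have h3 : z * q₀ * t ≤ z * q₀ * 1 := by rw [mul_one]; exact h2
      have := Nat.le_of_mul_le_mul_left h3 hzq
      omega
    obtain ⟨y, hyB, hyU⟩ := SetLike.not_le_iff_exists.1 hne
    obtain ⟨hyL, hyBo⟩ := Subgroup.mem_inf.1 hyB
    have hytr : tr y ^ 2 ≠ 4 := fun h => hyU (Subgroup.mem_inf.2 ⟨hyL, mem_UZ_of_tr hyBo h⟩)
    have hyZ : y ∉ (Ze : Subgroup _) := not_mem_Ze_of_tr hytr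
    have hcy := hcB y hyL hyBo hytr
    obtain ⟨i, hiT, hyi⟩ := hT3 y hyL hyZ
    have hine : i ≠ u₀ := by
      intro hiu
      rw [hiu, ← hObeq] at hyi
      exact hytr (tr_sq_of_mem_ob L hyi)
    have hc := card_of_mem_ob hZc_Ze hCA_Ze (hT1 i hiT).2 hyi
    refine ⟨i, Finset.mem_erase.2 ⟨hine, hiT⟩, ?_⟩
    have h2 : Nat.card (Cen L y) = z * t := by
      have h3 : Nat.card (Cen L y) * q₀ = (z * t) * q₀ := by rw [hcy]; ring
      exact Nat.eq_of_mul_eq_mul_right hq₀pos h3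
    unfold eC
    rw [← hc.1, h2, hzdef, Nat.mul_div_cancel_left _ hzpos]
  rcases numU (T.erase u₀) (eC L) (fC L) (hC L) s q₀ t hq2 ht1 htq hsq hh (fun x hx => (hW x hx).1)
    (fun x hx => (hW x hx).2.1) (fun x hx => (hW x hx).2.2.1) hsum hi₀ with
    hα | ⟨hq, x, hxT, hf, hhx⟩ | ⟨hq, ht2, hh60, i, j, hTe, hei, hfi, hej, hfj⟩
  · right; right
    exact ⟨hLB, by rw [hα]; ring⟩
  · exfalso
    have h2 : orderOf (uT (1 : F)) = p :=
      orderOf_eq_prime (pow_p_of_mem_Un (uT_mem_Un 1)) hu1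
    have h3 : orderOf (uT (1 : F)) ∣ Nat.card (L ⊓ Un : Subgroup _) :=
      Subgroup.orderOf_dvd_natCard _ (Subgroup.mem_inf.2 ⟨h1, uT_mem_Un 1⟩)
    rw [h2, hq₀def, hq] at h3
    exact hp2 ((Nat.prime_dvd_prime_iff_eq (Fact.out : p.Prime) Nat.prime_two).1 h3)
  · right; left
    subst hq
    subst ht2
    -- the characteristic is `3`
    have hp3' : p = 3 := by
      have h2 : orderOf (uT (1 : F)) = p :=
        orderOf_eq_prime (pow_p_of_mem_Un (uT_mem_Un 1)) hu1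
      have h3 : orderOf (uT (1 : F)) ∣ Nat.card (L ⊓ Un : Subgroup _) :=
        Subgroup.orderOf_dvd_natCard _ (Subgroup.mem_inf.2 ⟨h1, uT_mem_Un 1⟩)
      rw [h2, hq₀def] at h3
      exact (Nat.prime_dvd_prime_iff_eq (Fact.out : p.Prime) Nat.prime_three).1 h3
    have hp3 : p ≠ 2 := hp2
    have h2F : (2 : F) ≠ 0 := two_ne_zero_of hp3
    have hiT : i ∈ T.erase u₀ := by rw [hTe]; simp
    have hjT : j ∈ T.erase u₀ := by rw [hTe]; simp
    have hiT' := Finset.mem_of_mem_erase hiT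
    have hjT' := Finset.mem_of_mem_erase hjT
    obtain ⟨hiL, hiZ⟩ := hT1 i hiT'
    have htri := hsemi i hiT
    obtain ⟨-, -, -, hceni, hnbi, -⟩ := hW i hiT
    obtain ⟨-, -, -, hcenj, hnbj, -⟩ := hW j hjT
    rw [hei] at hceni hnbi
    rw [hfi] at hnbi
    rw [hej] at hcenj hnbj
    rw [hfj] at hnbj
    have hcases : ∀ y ∈ L, y ∉ (Ze : Subgroup _) → ∃ t' ∈ T, y ∈ Ob L Ze t' ∧
        (t' = u₀ ∨ t' = i ∨ t' = j) := by
      intro y hy hyZ
      obtain ⟨t', ht', hyt⟩ := hT3 y hy hyZ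
      refine ⟨t', ht', hyt, ?_⟩
      by_cases h : t' = u₀
      · left; exact h
      · right
        have h2 : t' ∈ T.erase u₀ := Finset.mem_erase.2 ⟨h, ht'⟩
        rw [hTe] at h2
        simpa using h2
    have hcls : ∀ y ∈ L, y ∉ (Ze : Subgroup _) →
        (Nat.card (Cen L y) = 2 * z ∧ Nat.card (Nb L y) = 4 * z) ∨
        (Nat.card (Cen L y) = 3 * z ∧ Nat.card (Nb L y) = 6 * z) ∨
        (Nat.card (Cen L y) = 5 * z ∧ Nat.card (Nb L y) = 10 * z) := by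
      intro y hy hyZ
      obtain ⟨t', ht', hyt, h | h | h⟩ := hcases y hy hyZ
      · have hc := card_of_mem_ob hZc_Ze hCA_Ze (hT1 t' ht').2 hyt
        rw [h] at hc
        right; left
        exact ⟨by rw [hc.1, ← hcU.1]; ring, by rw [hc.2, ← hcU.2]; ring⟩
      · have hc := card_of_mem_ob hZc_Ze hCA_Ze (hT1 t' ht').2 hyt
        rw [h] at hc
        left; exact ⟨by rw [hc.1, hceni]; ring, by rw [hc.2, hnbi]; ring⟩
      · have hc := card_of_mem_ob hZc_Ze hCA_Ze (hT1 t' ht').2 hyt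
        rw [h] at hc
        right; right; exact ⟨by rw [hc.1, hcenj]; ring, by rw [hc.2, hnbj]; ring⟩
    have hsqv : ∀ v ∈ Nb L i, v * v ∈ (Ze : Subgroup _) := by
      intro v hv
      by_cases hvC : v ∈ Cen L i
      · have hidx := index_subgroupOf (Cen L i) Ze (Ze_le_Cen L hZL i) 2
          (by rw [hceni, hzdef]; ring)
        have h1 := Subgroup.mul_self_mem_of_index_two hidx ⟨v, hvC⟩
        rw [Subgroup.mem_subgroupOf] at h1
        simpa using h1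
      · exact nb_sq L hiL htri hv hvC
    have hinvol : ∀ y ∈ L, y ∉ (Ze : Subgroup _) → y * y ∈ (Ze : Subgroup _) →
        y ∈ Ob L Ze i := by
      intro y hy hyZ hyy
      obtain ⟨t', ht', hyt, h | h | h⟩ := hcases y hy hyZ
      · have hc := card_of_mem_ob hZc_Ze hCA_Ze (hT1 t' ht').2 hyt
        rw [h] at hc
        exfalso
        apply hyZ
        exact mem_Ze_of_mul_self h2F (sq_eq_one_of_odd L hy 3 ⟨1, rfl⟩
          (by rw [hc.1, ← hcU.1, hzdef]; ring) hyy)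
      · rw [h] at hyt; exact hyt
      · have hc := card_of_mem_ob hZc_Ze hCA_Ze (hT1 t' ht').2 hyt
        rw [h] at hc hyt
        exact absurd (sq_eq_one_of_odd L hy 5 ⟨2, rfl⟩ (by rw [hc.1, hcenj, hzdef]; ring) hyy)
          (sq_ne_one_of_semi (semi_of_mem_ob L (hsemi j hjT) hyt))
    obtain ⟨e0⟩ := bar_equiv L
    obtain ⟨e1⟩ := rec_A5 hZc_Ze hCA_Ze hZL z hzdef (by rw [hndef, hLcard, hh60]; ring) hcls hiL hiZ
      (by rw [hceni]; ring) (by rw [hnbi]; ring) hsqv hinvol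
    exact ⟨hp3', ⟨e0.symm.trans e1⟩⟩


end Cfsg.Agent.H18.Dk
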