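import Mathlib
import Cfsg.Agent.H18.DkMx3

/-!
# Maximal subgroups of `PSL(2, q)`, `q` odd: the subfield case (helper18)
-/

set_option autoImplicit false
set_option linter.unusedSectionVars false
set_option linter.unusedVariables false
set_option linter.deprecated false
set_option linter.unusedSimpArgs false
set_option linter.style.haveILetI false

namespace Cfsg.Agent.H18.Dk

open Matrix Cfsg.Agent.H65.SL2 Cfsg.Agent.H29.Dk Polynomial

variable {F : Type*} [Field F] [Fintype F]

/-- Transport of the image in `PSL(2, F)` along an automorphism of `SL(2, F)`. -/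
theorem transport_equiv
    (e : Matrix.SpecialLinearGroup (Fin 2) F ≃* Matrix.SpecialLinearGroup (Fin 2) F)
    (L : Subgroup (Matrix.SpecialLinearGroup (Fin 2) F)) :
    Nonempty (↥(L.map (mkP F)) ≃* ↥((L.map e.toMonoidHom).map (mkP F))) := by
  have hc : (Subgroup.center (Matrix.SpecialLinearGroup (Fin 2) F)).map e.toMonoidHom =
      Subgroup.center (Matrix.SpecialLinearGroup (Fin 2) F) := by
    ext y
    constructor
    · rintro ⟨x, hx, rfl⟩
      have hx' : x ∈ Subgroup.center (Matrix.SpecialLinearGroup (Fin 2) F) := hx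
      rw [Subgroup.mem_center_iff] at hx' ⊢
      intro g
      have := congrArg e (hx' (e.symm g))
      simpa using this
    · intro hy
      have hy' := Subgroup.mem_center_iff.1 hy
      refine ⟨e.symm y, ?_, by simp⟩
      show e.symm y ∈ Subgroup.center (Matrix.SpecialLinearGroup (Fin 2) F)
      rw [Subgroup.mem_center_iff]
      intro g
      have := congrArg e.symm (hy' (e g))
      simpa using this
  let eb : Matrix.ProjectiveSpecialLinearGroup (Fin 2) F ≃*
      Matrix.ProjectiveSpecialLinearGroup (Fin 2) F := QuotientGroup.congr _ _ e hc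
  have heb : ∀ x, eb (mkP F x) = mkP F (e x) := fun x => rfl
  have hmap : (L.map (mkP F)).map eb.toMonoidHom = (L.map e.toMonoidHom).map (mkP F) := by
    rw [Subgroup.map_map, Subgroup.map_map]
    congr 1
  have e1 := (L.map (mkP F)).equivMapOfInjective eb.toMonoidHom eb.injective
  rw [hmap] at e1
  exact ⟨e1⟩

/-! ### Intermediate fields -/

theorem exists_intermediate' (p : ℕ) [Fact p.Prime] [CharP F p] (K : Subfield F) (a b : ℕ)
    (ha : 2 ≤ a) (hb : 2 ≤ b) (hq : Fintype.card F = Nat.card K ^ (a * b)) :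
    ∃ K' : Subfield F, K ≤ K' ∧ (∃ y ∈ K', y ∉ K) ∧ (∃ z : F, z ∉ K') := by
  classical
  haveI : Fintype K := Fintype.ofFinite K
  obtain ⟨q₀, hq₀⟩ : ∃ q₀, q₀ = Nat.card K := ⟨_, rfl⟩
  rw [← hq₀] at hq
  have hq₀2 : 2 ≤ q₀ := by
    rw [hq₀, Nat.card_eq_fintype_card]; exact Fintype.one_lt_card
  obtain ⟨f, -, hf⟩ := FiniteField.card F p
  have hab0 : a * b ≠ 0 := by positivity
  have hdvd : q₀ ∣ p ^ (f : ℕ) := by
    rw [← hf, hq]; exact dvd_pow_self _ hab0
  obtain ⟨e, -, he⟩ := (Nat.dvd_prime_pow (Fact.out : p.Prime)).mp hdvd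
  have hN : q₀ ^ a = p ^ (e * a) := by rw [he, pow_mul]
  let K' : Subfield F := frobSub F p (e * a)
  have hmem : ∀ x : F, x ∈ K' ↔ x ^ (q₀ ^ a) = x := by
    intro x
    rw [hN]; exact mem_frobSub p (e * a) x
  have hpowK : ∀ x ∈ K, x ^ q₀ = x := by
    intro x hx
    have h := FiniteField.pow_card (⟨x, hx⟩ : K)
    rw [← Nat.card_eq_fintype_card, ← hq₀] at h
    have := congrArg Subtype.val h
    simpa using this
  have hKK' : K ≤ K' := by
    intro x hx
    rw [hmem]
    have : ∀ n : ℕ, x ^ (q₀ ^ n) = x := by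
      intro n
      induction n with
      | zero => simp
      | succ n ih => rw [pow_succ, pow_mul, ih, hpowK x hx]
    exact this a
  obtain ⟨ζ, hζ⟩ := IsCyclic.exists_generator (α := Fˣ)
  have hord : orderOf ζ = Fintype.card F - 1 := by
    rw [orderOf_eq_card_of_forall_mem_zpowers hζ, Nat.card_units, Nat.card_eq_fintype_card]
  have hNlt : q₀ ^ a < Fintype.card F := by
    rw [hq]; exact Nat.pow_lt_pow_right (by omega) (by nlinarith)
  have hN4 : 4 ≤ q₀ ^ a := by
    calc 4 = 2 ^ 2 := by norm_num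
      _ ≤ q₀ ^ 2 := Nat.pow_le_pow_left hq₀2 2
      _ ≤ q₀ ^ a := Nat.pow_le_pow_right (by omega) ha
  refine ⟨K', hKK', ?_, ?_⟩
  · have hd : q₀ ^ a - 1 ∣ Fintype.card F - 1 := by
      rw [hq]; exact Nat.pow_sub_one_dvd_pow_sub_one q₀ (Dvd.intro b rfl)
    obtain ⟨d, hd'⟩ := hd
    refine ⟨((ζ ^ d : Fˣ) : F), ?_, ?_⟩
    · rw [hmem]
      have h1 : (ζ ^ d) ^ (q₀ ^ a - 1) = 1 := by
        rw [← pow_mul, mul_comm, ← hd', ← hord]; exact pow_orderOf_eq_one ζ
      have h3 : (ζ ^ d) ^ (q₀ ^ a) = ζ ^ d := by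
        have : q₀ ^ a = (q₀ ^ a - 1) + 1 := by omega
        rw [this, pow_succ, h1, one_mul]
      have := congrArg (fun u : Fˣ => (u : F)) h3
      simpa using this
    · intro hyK
      have hy0 : ((ζ ^ d : Fˣ) : F) ≠ 0 := Units.ne_zero _
      have h := FiniteField.pow_card_sub_one_eq_one (⟨_, hyK⟩ : K) (by
        intro h0; exact hy0 (congrArg Subtype.val h0))
      rw [← Nat.card_eq_fintype_card, ← hq₀] at h
      have h' : ((ζ ^ d : Fˣ) : F) ^ (q₀ - 1) = 1 := by
        have := congrArg Subtype.val h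
        simpa using this
      have h'' : (ζ ^ d) ^ (q₀ - 1) = 1 := by
        apply Units.ext
        simpa using h'
      rw [← pow_mul] at h''
      have hdv := orderOf_dvd_of_pow_eq_one h''
      rw [hord, hd'] at hdv
      have hdpos : 0 < d := by
        rcases Nat.eq_zero_or_pos d with h0 | h0
        · rw [h0, mul_zero] at hd'; omega
        · exact h0
      have h5 : q₀ ^ a - 1 ∣ q₀ - 1 := by
        have : d * (q₀ ^ a - 1) ∣ d * (q₀ - 1) := by rwa [mul_comm d (q₀ ^ a - 1)]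
        exact Nat.dvd_of_mul_dvd_mul_left hdpos this
      have h6 := Nat.le_of_dvd (by omega) h5
      have h7 : q₀ ^ 2 ≤ q₀ ^ a := Nat.pow_le_pow_right (by omega) ha
      have h8 : q₀ * 2 ≤ q₀ ^ 2 := by rw [sq]; exact Nat.mul_le_mul_left q₀ hq₀2
      omega
  · refine ⟨(ζ : F), ?_⟩
    rw [hmem]
    intro h
    have h1 : ζ ^ (q₀ ^ a) = ζ := by apply Units.ext; simpa using h
    have h2' : ζ ^ (q₀ ^ a - 1) = 1 := by
      have : q₀ ^ a = (q₀ ^ a - 1) + 1 := by omega
      rw [this, pow_succ] at h1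
      exact mul_right_cancel (b := ζ) (by rw [h1, one_mul])
    have hdv := orderOf_dvd_of_pow_eq_one h2'
    rw [hord] at hdv
    have := Nat.le_of_dvd (by omega) hdv
    omega

/-! ### Membership in a subfield -/

theorem mem_subfield_of_pow_card (K : Subfield F) (x : F) (hx : x ^ Nat.card K = x) : x ∈ K := by
  classical
  haveI : Fintype K := Fintype.ofFinite K
  obtain ⟨k, hk⟩ : ∃ k, k = Nat.card K := ⟨_, rfl⟩
  rw [← hk] at hx
  have hk1 : 1 < k := by rw [hk, Nat.card_eq_fintype_card]; exact Fintype.one_lt_card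
  have hP : (X ^ k - X : F[X]) ≠ 0 := FiniteField.X_pow_card_sub_X_ne_zero F hk1
  have hdeg : (X ^ k - X : F[X]).natDegree = k := FiniteField.X_pow_card_sub_X_natDegree_eq F hk1
  have hroots : (X ^ k - X : F[X]).roots.toFinset.card ≤ k :=
    (Multiset.toFinset_card_le _).trans ((Polynomial.card_roots' _).trans_eq hdeg)
  have hsub : (Finset.univ.image (fun c : K => (c : F))) ⊆ (X ^ k - X : F[X]).roots.toFinset := by
    intro y hy
    obtain ⟨c, -, rfl⟩ := Finset.mem_image.1 hy
    rw [Multiset.mem_toFinset, Polynomial.mem_roots hP, Polynomial.IsRoot, Polynomial.eval_sub,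
      Polynomial.eval_pow, Polynomial.eval_X, sub_eq_zero]
    have h := FiniteField.pow_card c
    rw [← Nat.card_eq_fintype_card, ← hk] at h
    have := congrArg Subtype.val h
    simpa using this
  have hcard : (Finset.univ.image (fun c : K => (c : F))).card = k := by
    rw [Finset.card_image_of_injective _ Subtype.val_injective, Finset.card_univ,
      ← Nat.card_eq_fintype_card, hk]
  have heq := Finset.eq_of_subset_of_card_le hsub (by rw [hcard]; exact hroots)
  have hx' : x ∈ (X ^ k - X : F[X]).roots.toFinset := by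
    rw [Multiset.mem_toFinset, Polynomial.mem_roots hP, Polynomial.IsRoot, Polynomial.eval_sub,
      Polynomial.eval_pow, Polynomial.eval_X, sub_eq_zero]
    exact hx
  rw [← heq] at hx'
  obtain ⟨c, -, rfl⟩ := Finset.mem_image.1 hx'
  exact c.2

theorem mem_of_sq_mem_odd (h2 : (2 : F) ≠ 0) (K : Subfield F) (r : ℕ) (hr : Odd r)
    (hk : Odd (Nat.card K)) (hq : Fintype.card F = Nat.card K ^ r) {ν : F} (hν : ν ≠ 0)
    (h : ν * ν ∈ K) : ν ∈ K := by
  classical
  haveI : Fintype K := Fintype.ofFinite K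
  obtain ⟨k, hkdef⟩ : ∃ k, k = Nat.card K := ⟨_, rfl⟩
  rw [← hkdef] at hq hk
  have hk1 : 1 ≤ k := by
    rcases hk with ⟨j, hj⟩; omega
  apply mem_subfield_of_pow_card
  rw [← hkdef]
  -- `(ν ^ k)² = ν²`
  have hsq : (ν * ν) ^ k = ν * ν := by
    have h' := FiniteField.pow_card (⟨ν * ν, h⟩ : K)
    rw [← Nat.card_eq_fintype_card, ← hkdef] at h'
    have := congrArg Subtype.val h'
    simpa using this
  have h3 : (ν ^ k - ν) * (ν ^ k + ν) = 0 := by
    have : (ν ^ k) * (ν ^ k) = ν * ν := by rw [← mul_pow]; exact hsq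
    linear_combination this
  rcases mul_eq_zero.1 h3 with h4 | h4
  · linear_combination h4
  · exfalso
    have hneg : ν ^ k = -ν := by linear_combination h4
    have hiter : ∀ i : ℕ, ν ^ (k ^ i) = (-1) ^ i * ν := by
      intro i
      induction i with
      | zero => simp
      | succ i ih =>
        rw [pow_succ, pow_mul, ih, mul_pow, hneg, ← pow_mul, mul_comm i k, pow_mul,
          Odd.neg_one_pow hk, pow_succ]
        ring
    have hF := FiniteField.pow_card ν
    rw [hq, hiter r, Odd.neg_one_pow hr] at hF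
    have : 2 * ν = 0 := by linear_combination -hF
    rcases mul_eq_zero.1 this with h5 | h5
    · exact h2 h5
    · exact hν h5

/-! ### Cardinality of the standard subfield subgroup -/

theorem card_stdSub (K : Subfield F) :
    Nat.card (stdSub K) = Nat.card K * (Nat.card K ^ 2 - 1) := by
  classical
  haveI : Fintype K := Fintype.ofFinite K
  have h1 : Nat.card (Matrix.SpecialLinearGroup (Fin 2) K) =
      Nat.card K * (Nat.card K ^ 2 - 1) := by
    rw [Nat.card_eq_fintype_card (α := K)]; exact Cfsg.Agent.H44.card_SL2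
  rw [← h1]
  apply Nat.card_congr
  refine
    { toFun := fun x => ⟨!![⟨x.1.1 0 0, x.2.1⟩, ⟨x.1.1 0 1, x.2.2.1⟩;
          ⟨x.1.1 1 0, x.2.2.2.1⟩, ⟨x.1.1 1 1, x.2.2.2.2⟩], ?_⟩
      invFun := fun A => ⟨⟨!![(A.1 0 0 : F), (A.1 0 1 : F); (A.1 1 0 : F), (A.1 1 1 : F)], ?_⟩,
        ⟨(A.1 0 0).2, (A.1 0 1).2, (A.1 1 0).2, (A.1 1 1).2⟩⟩
      left_inv := ?_
      right_inv := ?_ }
  · rw [Matrix.det_fin_two_of]
    apply Subtype.ext
    have := det_eq x.1
    simpa using this
  · rw [Matrix.det_fin_two_of]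
    have := A.det_coe
    rw [Matrix.det_fin_two] at this
    have h2 := congrArg Subtype.val this
    simpa using h2
  · intro x
    apply Subtype.ext
    apply ext4 <;> rfl
  · intro A
    apply Subtype.ext
    ext i j
    fin_cases i <;> fin_cases j <;> rfl

theorem ringChar_ne_two_of {R : Type*} [Field R] (h2 : (2 : R) ≠ 0) : ringChar R ≠ 2 := by
  intro h
  apply h2
  have := ringChar.Nat.cast_ringChar (R := R)
  rw [h] at this
  exact_mod_cast this

/-- In a quadratic extension the projective subfield group is strictly larger. -/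
theorem exists_rat_not_std (hodd : Odd (Fintype.card F)) (K : Subfield F)
    (hq : Fintype.card F = Nat.card K ^ 2) :
    ∃ x ∈ Cfsg.Agent.H64.MX.ratSub K, x ∉ stdSub K := by
  classical
  haveI : Fintype K := Fintype.ofFinite K
  have h2 : (2 : F) ≠ 0 := Cfsg.Agent.H44.two_ne_zero_of_odd hodd
  have h2K : (2 : K) ≠ 0 := by
    intro h
    apply h2
    have h' : (1 : K) + 1 = 0 := by rw [one_add_one_eq_two]; exact h
    have h'' := congrArg Subtype.val h'
    rw [Subfield.coe_add, Subfield.coe_one, Subfield.coe_zero, one_add_one_eq_two] at h''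
    exact h''
  obtain ⟨c, hc⟩ := FiniteField.exists_nonsquare (F := K) (ringChar_ne_two_of h2K)
  have hc0 : c ≠ 0 := by
    rintro rfl
    exact hc ⟨0, by simp⟩
  have hcF0 : (c : F) ≠ 0 := fun h => hc0 (Subtype.ext h)
  obtain ⟨k, hkdef⟩ : ∃ k, k = Nat.card K := ⟨_, rfl⟩
  rw [← hkdef] at hq
  have hck : (c : F) ^ (k - 1) = 1 := by
    have h := FiniteField.pow_card_sub_one_eq_one c hc0
    rw [← Nat.card_eq_fintype_card, ← hkdef] at h
    have := congrArg Subtype.val h
    simpa using this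
  have hkodd : Odd k := by
    have hFodd := hodd
    rw [hq] at hFodd
    exact (Nat.odd_pow_iff (by norm_num)).1 hFodd
  obtain ⟨j, hj⟩ := hkodd
  have hsq : IsSquare (c : F) := by
    rw [FiniteField.isSquare_iff (ringChar_ne_two_of h2) hcF0, hq]
    have e1 : k ^ 2 / 2 = (k - 1) * (j + 1) := by
      rw [hj]
      have : (2 * j + 1) ^ 2 = 2 * (2 * j * (j + 1)) + 1 := by ring
      rw [this, Nat.add_sub_cancel]
      omega
    rw [e1, pow_mul, hck, one_pow]
  obtain ⟨ν, hν⟩ := hsq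
  have hν0 : ν ≠ 0 := by
    rintro rfl
    rw [mul_zero] at hν
    exact hcF0 hν
  have hνK : ν ∉ K := by
    intro hmem
    apply hc
    exact ⟨⟨ν, hmem⟩, Subtype.ext hν⟩
  refine ⟨⟨!![0, -(c : F) * ν⁻¹; ν⁻¹, 0], ?_⟩, ?_, ?_⟩
  · rw [Matrix.det_fin_two_of, hν]
    field_simp
    ring
  · refine ⟨ν, hν0, ?_, ?_, ?_, ?_⟩
    · show (0 : F) * ν ∈ K
      rw [zero_mul]; exact K.zero_mem
    · show -(c : F) * ν⁻¹ * ν ∈ K
      rw [mul_assoc, inv_mul_cancel₀ hν0, mul_one]; exact K.neg_mem c.2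
    · show ν⁻¹ * ν ∈ K
      rw [inv_mul_cancel₀ hν0]; exact K.one_mem
    · show (0 : F) * ν ∈ K
      rw [zero_mul]; exact K.zero_mem
  · intro hmem
    have h10 : ν⁻¹ ∈ K := hmem.2.2.1
    apply hνK
    have := K.inv_mem h10
    rwa [inv_inv] at this

/-- **The subfield case**: a maximal subgroup with the field structure of `field_str` is
`PGL₂` over a subfield of index `2` or `PSL₂` over a subfield of odd prime index. -/
theorem field_case_odd (p : ℕ) [Fact p.Prime] [CharP F p] (hodd : Odd (Fintype.card F))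
    (L : Subgroup (Matrix.SpecialLinearGroup (Fin 2) F)) (hL : IsCoatom L)
    (hZL : (Ze : Subgroup _) ≤ L) (K : Subfield F)
    (hK1 : ∀ k ∈ K, uT k ∈ L ∧ lT k ∈ L)
    (hK2 : ∀ x ∈ L, ∃ ν : F, ν ≠ 0 ∧ x.1 0 0 * ν ∈ K ∧ x.1 0 1 * ν ∈ K ∧ x.1 1 0 * ν ∈ K ∧
      x.1 1 1 * ν ∈ K)
    (hK3 : ∀ a, uT a ∈ L → a ∈ K) :
    (∃ (F₀ : Type) (_ : Field F₀) (_ : Fintype F₀), Fintype.card F = Fintype.card F₀ ^ 2 ∧
        Nonempty (↥(L.map (mkP F)) ≃* Matrix.ProjGenLinGroup (Fin 2) F₀)) ∨
    (∃ (F₀ : Type) (_ : Field F₀) (_ : Fintype F₀) (r : ℕ), r.Prime ∧ Odd r ∧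
        Fintype.card F = Fintype.card F₀ ^ r ∧
        Nonempty (↥(L.map (mkP F)) ≃* Matrix.ProjectiveSpecialLinearGroup (Fin 2) F₀)) := by
  classical
  have h2 : (2 : F) ≠ 0 := Cfsg.Agent.H44.two_ne_zero_of_odd hodd
  have hLR : L ≤ Cfsg.Agent.H64.MX.ratSub K := fun x hx => hK2 x hx
  have hKtop : K ≠ ⊤ := by
    intro h
    apply hL.1
    exact sl2_gen L (fun s => (hK1 s (by rw [h]; exact Subfield.mem_top s)).1)
      (fun s => (hK1 s (by rw [h]; exact Subfield.mem_top s)).2)
  have hLeq : L = Cfsg.Agent.H64.MX.ratSub K := by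
    by_contra hne
    exact ratSub_ne_top hKtop (hL.2 _ (lt_of_le_of_ne hLR hne))
  have hnoint : ∀ K' : Subfield F, K ≤ K' → K' ≠ ⊤ → K' ≤ K := by
    intro K' hKK' hK'
    have hL' : L = Cfsg.Agent.H64.MX.ratSub K' := by
      by_contra hne
      exact ratSub_ne_top hK' (hL.2 _ (lt_of_le_of_ne (hLR.trans (ratSub_mono hKK')) hne))
    intro y hy
    apply hK3
    rw [hL', Cfsg.Agent.H64.MX.uT_mem_ratSub_iff]
    exact hy
  haveI : Fintype K := Fintype.ofFinite K
  obtain ⟨k, hkdef⟩ : ∃ k, k = Nat.card K := ⟨_, rfl⟩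
  obtain ⟨r, hrdef⟩ : ∃ r, r = Module.finrank ↥K F := ⟨_, rfl⟩
  have hq : Fintype.card F = k ^ r := by
    rw [hkdef, hrdef, ← Nat.card_eq_fintype_card (α := F)]
    exact Module.natCard_eq_pow_finrank (K := ↥K) (V := F)
  have hk2 : 2 ≤ k := by
    rw [hkdef, Nat.card_eq_fintype_card]; exact Fintype.one_lt_card
  have hqF : 2 ≤ Fintype.card F := Fintype.one_lt_card
  have hr0 : r ≠ 0 := by
    rintro rfl
    rw [pow_zero] at hq; omega
  have hr1 : r ≠ 1 := by
    rintro rfl
    rw [pow_one] at hq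
    apply hKtop
    have hadd : K.toAddSubgroup = ⊤ := by
      apply AddSubgroup.eq_top_of_card_eq
      rw [Nat.card_eq_fintype_card (α := F), hq, hkdef]
      rfl
    rw [eq_top_iff]
    intro x _
    have : x ∈ K.toAddSubgroup := by rw [hadd]; exact AddSubgroup.mem_top x
    exact this
  have hrprime : r.Prime := by
    by_contra hnp
    have hr2 : 2 ≤ r := by omega
    obtain ⟨a, b, ha, hb, hab⟩ := (Nat.not_prime_iff_exists_mul_eq hr2).1 hnp
    have ha2 : 2 ≤ a := by
      by_contra hcon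
      have : a ≤ 1 := by omega
      have : a * b ≤ 1 * b := Nat.mul_le_mul_right b this
      omega
    have hb2 : 2 ≤ b := by
      by_contra hcon
      have : b ≤ 1 := by omega
      have : a * b ≤ a * 1 := Nat.mul_le_mul_left a this
      omega
    obtain ⟨K', hKK', ⟨y, hyK', hyK⟩, ⟨z, hz⟩⟩ := exists_intermediate' p K a b ha2 hb2
      (by rw [← hkdef, hab]; exact hq)
    have hK'top : K' ≠ ⊤ := by
      intro h
      apply hz
      rw [h]; exact Subfield.mem_top z
    exact hyK (hnoint K' hKK' hK'top hyK')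
  -- the small field
  obtain ⟨K₀, iF, iFin, ⟨e⟩⟩ := exists_small_field ↥K
  let ι₀ : K₀ →+* F := K.subtype.comp e.toRingHom
  have hι : ∀ c : K₀, ι₀ c = (e c : F) := fun c => rfl
  have hi : ∀ c : K₀, uT (ι₀ c) ∈ L ∧ lT (ι₀ c) ∈ L := fun c => hK1 _ (e c).2
  have hii : ∀ x ∈ L, ∃ ν : F, ν ≠ 0 ∧ ∃ a b c d : K₀, x.1 0 0 * ν = ι₀ a ∧ x.1 0 1 * ν = ι₀ b ∧
      x.1 1 0 * ν = ι₀ c ∧ x.1 1 1 * ν = ι₀ d := by
    intro x hx
    obtain ⟨ν, hν, h00, h01, h10, h11⟩ := hK2 x hx
    refine ⟨ν, hν, e.symm ⟨_, h00⟩, e.symm ⟨_, h01⟩, e.symm ⟨_, h10⟩, e.symm ⟨_, h11⟩,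
      ?_, ?_, ?_, ?_⟩ <;> rw [hι, RingEquiv.apply_symm_apply]
  have hfin := pgl_finish ι₀ L hi hii
  have hcK₀ : Fintype.card K₀ = k := by
    rw [hkdef, ← Nat.card_eq_fintype_card]; exact Nat.card_congr e.toEquiv
  have hkodd : Odd k := by
    have hFodd := hodd
    rw [hq] at hFodd
    exact (Nat.odd_pow_iff hr0).1 hFodd
  -- orders
  have hZ2 : Nat.card (Ze : Subgroup (Matrix.SpecialLinearGroup (Fin 2) F)) = 2 := by
    rw [card_Ze]
    obtain ⟨j, hj⟩ := hodd
    rw [hj, Nat.add_sub_cancel]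
    simp
  have hcardL := card_map_mkP hZL
  rw [hZ2] at hcardL
  have hpsl : 2 * Nat.card (Matrix.ProjectiveSpecialLinearGroup (Fin 2) K₀) = k * (k ^ 2 - 1) := by
    have h := card_PSL2_mul (F := K₀)
    rw [hcK₀] at h
    obtain ⟨j, hj⟩ := hkodd
    have hg : Nat.gcd 2 (k - 1) = 2 := by rw [hj, Nat.add_sub_cancel]; simp
    rw [hg] at h
    exact h
  have hpgl : Nat.card (Matrix.ProjGenLinGroup (Fin 2) K₀) = k * (k ^ 2 - 1) := by
    rw [Cfsg.Agent.S0806.card_PGL2', hcK₀]
  have hstd := card_stdSub K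
  rw [← hkdef] at hstd
  have hpos : 0 < k * (k ^ 2 - 1) := by
    apply Nat.mul_pos (by omega)
    have : 4 ≤ k ^ 2 := by nlinarith
    omega
  rcases hrprime.eq_two_or_odd' with hr2 | hrodd
  · -- quadratic: `PGL₂`
    left
    subst hr2
    refine ⟨K₀, iF, iFin, by rw [hcK₀]; exact hq, ?_⟩
    rcases hfin with ⟨⟨f⟩⟩ | hf
    · exfalso
      have hcM : Nat.card ↥(L.map (mkP F)) =
          Nat.card (Matrix.ProjectiveSpecialLinearGroup (Fin 2) K₀) := Nat.card_congr f.toEquiv
      have hLcard : Nat.card L = k * (k ^ 2 - 1) := by rw [hcardL, hcM, hpsl]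
      have hle : stdSub K ≤ L := by rw [hLeq]; exact stdSub_le_ratSub K
      have heq : stdSub K = L :=
        Subgroup.eq_of_le_of_card_ge hle (by rw [hLcard, hstd])
      obtain ⟨x, hx, hxs⟩ := exists_rat_not_std hodd K (by rw [← hkdef]; exact hq)
      apply hxs
      rw [heq, hLeq]; exact hx
    · exact hf
  · -- odd degree: `PSL₂`
    right
    refine ⟨K₀, iF, iFin, r, hrprime, hrodd, by rw [hcK₀]; exact hq, ?_⟩
    rcases hfin with hf | ⟨⟨f⟩⟩
    · exact hf
    · exfalso
      have hcM : Nat.card ↥(L.map (mkP F)) =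
          Nat.card (Matrix.ProjGenLinGroup (Fin 2) K₀) := Nat.card_congr f.toEquiv
      have hLcard : Nat.card L = 2 * (k * (k ^ 2 - 1)) := by rw [hcardL, hcM, hpgl]
      have hle : L ≤ stdSub K := by
        intro x hx
        obtain ⟨ν, hν, h00, h01, h10, h11⟩ := hK2 x hx
        have hνν : ν * ν ∈ K := by
          have hd := det_eq x
          have : ν * ν = (x.1 0 0 * ν) * (x.1 1 1 * ν) - (x.1 0 1 * ν) * (x.1 1 0 * ν) := by
            linear_combination (-(ν * ν)) * hd
          rw [this]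
          exact K.sub_mem (K.mul_mem h00 h11) (K.mul_mem h01 h10)
        have hνK : ν ∈ K := mem_of_sq_mem_odd h2 K r hrodd (by rw [← hkdef]; exact hkodd)
          (by rw [← hkdef]; exact hq) hν hνν
        have hinv := K.inv_mem hνK
        refine ⟨?_, ?_, ?_, ?_⟩
        · have := K.mul_mem h00 hinv
          rwa [mul_assoc, mul_inv_cancel₀ hν, mul_one] at this
        · have := K.mul_mem h01 hinv
          rwa [mul_assoc, mul_inv_cancel₀ hν, mul_one] at this
        · have := K.mul_mem h10 hinv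
          rwa [mul_assoc, mul_inv_cancel₀ hν, mul_one] at this
        · have := K.mul_mem h11 hinv
          rwa [mul_assoc, mul_inv_cancel₀ hν, mul_one] at this
      have := Subgroup.card_le_of_le hle
      rw [hLcard, hstd] at this
      omega

end Cfsg.Agent.H18.Dk
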