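import Mathlib
import Cfsg.Agent.H18.DkMx4
import Cfsg.Agent.H44.SL2Sylow

/-!
# Maximal subgroups of `PSL(2, q)`, `q` odd: generic lemmas (helper18)
-/

set_option autoImplicit false
set_option linter.unusedSectionVars false
set_option linter.unusedVariables false
set_option linter.deprecated false
set_option linter.unusedSimpArgs false
set_option linter.style.haveILetI false

namespace Cfsg.Agent.H18.Dk

section Generic

variable {G : Type*} [Group G]

theorem mem_map_conj_iff (R : Subgroup G) (g x : G) :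
    x ∈ R.map (MulAut.conj g).toMonoidHom ↔ g⁻¹ * x * g ∈ R := by
  constructor
  · rintro ⟨y, hy, rfl⟩
    have : g⁻¹ * ((MulAut.conj g).toMonoidHom y) * g = y := by
      show g⁻¹ * (g * y * g⁻¹) * g = y
      group
    rw [this]; exact hy
  · intro h
    refine ⟨g⁻¹ * x * g, h, ?_⟩
    show g * (g⁻¹ * x * g) * g⁻¹ = x
    group

theorem normalizer_map_conj (R : Subgroup G) (g : G) :
    Subgroup.normalizer ((R.map (MulAut.conj g).toMonoidHom : Subgroup G) : Set G) =
      (Subgroup.normalizer (R : Set G)).map (MulAut.conj g).toMonoidHom := by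
  ext x
  rw [mem_map_conj_iff, Subgroup.mem_normalizer_iff, Subgroup.mem_normalizer_iff]
  constructor
  · intro h y
    have := h (g * y * g⁻¹)
    rw [mem_map_conj_iff, mem_map_conj_iff] at this
    have e1 : g⁻¹ * (g * y * g⁻¹) * g = y := by group
    have e2 : g⁻¹ * (x * (g * y * g⁻¹) * x⁻¹) * g = g⁻¹ * x * g * y * (g⁻¹ * x * g)⁻¹ := by group
    rw [e1, e2] at this
    exact this
  · intro h y
    rw [mem_map_conj_iff, mem_map_conj_iff]
    have := h (g⁻¹ * y * g)
    have e2 : g⁻¹ * x * g * (g⁻¹ * y * g) * (g⁻¹ * x * g)⁻¹ = g⁻¹ * (x * y * x⁻¹) * g := by group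
    rw [e2] at this
    exact this

theorem card_map_conj (R : Subgroup G) (g : G) :
    Nat.card ↥(R.map (MulAut.conj g).toMonoidHom) = Nat.card R :=
  Subgroup.card_map_of_injective (MulAut.conj g).injective

variable [Finite G]

/-- A maximal subgroup normalising `R` cannot have a conjugate of `R` whose normaliser meets a
proper subgroup `A` of a different order in at least `|M|` elements. -/
theorem coatom_conj_contra {M A R Q : Subgroup G} (hM : IsCoatom M)
    (hRM : M ≤ Subgroup.normalizer (R : Set G)) (hRn : Subgroup.normalizer (R : Set G) ≠ ⊤)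
    (hA : A ≠ ⊤) (g : G) (hQ : Q = R.map (MulAut.conj g).toMonoidHom)
    (hle : Nat.card M ≤ Nat.card (A ⊓ Subgroup.normalizer (Q : Set G) : Subgroup G))
    (hne : Nat.card A ≠ Nat.card M) : False := by
  have hN : Subgroup.normalizer (R : Set G) = M := by
    by_contra h
    exact hRn (hM.2 _ (lt_of_le_of_ne hRM (Ne.symm h)))
  have hNQ : Subgroup.normalizer (Q : Set G) = M.map (MulAut.conj g).toMonoidHom := by
    rw [hQ, normalizer_map_conj, hN]
  rw [hNQ] at hle
  have hcard : Nat.card ↥(M.map (MulAut.conj g).toMonoidHom) = Nat.card M := card_map_conj M g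
  have heq : A ⊓ M.map (MulAut.conj g).toMonoidHom = M.map (MulAut.conj g).toMonoidHom := by
    apply Subgroup.eq_of_le_of_card_ge inf_le_right
    rw [hcard]; exact hle
  have hle2 : M.map (MulAut.conj g).toMonoidHom ≤ A := by
    rw [← heq]; exact inf_le_left
  have hco : IsCoatom (M.map (MulAut.conj g).toMonoidHom) :=
    Cfsg.Agent.H64.MX.isCoatom_map (MulAut.conj g) hM
  have hAeq : M.map (MulAut.conj g).toMonoidHom = A := by
    by_contra h
    exact hA (hco.2 _ (lt_of_le_of_ne hle2 h))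
  apply hne
  rw [← hAeq, hcard]

theorem factorization_prime_pow_mul (r a m : ℕ) (hr : r.Prime) (hm : ¬ r ∣ m) :
    (r ^ a * m).factorization r = a := by
  have hm0 : m ≠ 0 := by rintro rfl; exact hm (dvd_zero r)
  rw [Nat.factorization_mul (pow_ne_zero a hr.ne_zero) hm0, Finsupp.add_apply,
    Nat.Prime.factorization_pow hr, Finsupp.single_eq_same,
    Nat.factorization_eq_zero_of_not_dvd hm, add_zero]

/-- Subgroups of Sylow order are conjugate. -/
theorem conj_of_card_sylow (r : ℕ) [Fact r.Prime] {a m : ℕ} (hG : Nat.card G = r ^ a * m)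
    (hm : ¬ r ∣ m) (R Q : Subgroup G) (hR : Nat.card R = r ^ a) (hQ : Nat.card Q = r ^ a) :
    ∃ g : G, Q = R.map (MulAut.conj g).toMonoidHom := by
  have hf : (Nat.card G).factorization r = a := by
    rw [hG]; exact factorization_prime_pow_mul r a m Fact.out hm
  let P₁ : Sylow r G := Sylow.ofCard R (by rw [hf]; exact hR)
  let P₂ : Sylow r G := Sylow.ofCard Q (by rw [hf]; exact hQ)
  obtain ⟨g, hg⟩ := MulAction.exists_smul_eq G P₁ P₂
  refine ⟨g, ?_⟩
  have h1 : ((g • P₁ : Sylow r G) : Subgroup G) = (P₂ : Subgroup G) := by rw [hg]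
  rw [Sylow.coe_subgroup_smul] at h1
  have h2 : (P₁ : Subgroup G) = R := rfl
  have h3 : (P₂ : Subgroup G) = Q := rfl
  rw [h2, h3] at h1
  rw [← h1]
  ext x
  rw [mem_map_conj_iff, Subgroup.mem_pointwise_smul_iff_inv_smul_mem]
  simp [MulAut.smul_def, MulAut.conj_inv_apply]

end Generic

section Generic2


variable {G : Type*} [Group G]

theorem mem_normalizer_map_subtype (A : Subgroup G) (Q₀ : Subgroup A) (x : A)
    (hx : x ∈ Subgroup.normalizer (Q₀ : Set A)) :
    (x : G) ∈ Subgroup.normalizer ((Q₀.map A.subtype : Subgroup G) : Set G) := by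
  rw [Subgroup.mem_normalizer_iff] at hx ⊢
  intro y
  constructor
  · rintro ⟨y₀, hy₀, rfl⟩
    exact ⟨x * y₀ * x⁻¹, (hx y₀).1 hy₀, by simp⟩
  · rintro ⟨z, hz, hze⟩
    have hyA : y ∈ A := by
      have : y = (x : G)⁻¹ * ((x : G) * y * (x : G)⁻¹) * (x : G) := by group
      rw [this, ← hze]
      exact A.mul_mem (A.mul_mem (A.inv_mem x.2) z.2) x.2
    refine ⟨⟨y, hyA⟩, (hx ⟨y, hyA⟩).2 ?_, rfl⟩
    have : x * ⟨y, hyA⟩ * x⁻¹ = z := by
      apply Subtype.ext
      simp only [Subgroup.coe_mul, Subgroup.coe_inv]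
      exact hze.symm
    rw [this]; exact hz

variable [Finite G]

/-- A Sylow subgroup of a subgroup `A`, with the count of its normaliser in `A`. -/
theorem exists_sylow_in (r : ℕ) [Fact r.Prime] (A : Subgroup G) :
    ∃ (Q : Subgroup G) (n : ℕ), Q ≤ A ∧ Nat.card Q = r ^ (Nat.card A).factorization r ∧
      n % r = 1 ∧ n ∣ Nat.card A / r ^ (Nat.card A).factorization r ∧
      Nat.card A ≤ Nat.card (A ⊓ Subgroup.normalizer (Q : Set G) : Subgroup G) * n := by
  classical
  obtain ⟨Q₀⟩ : Nonempty (Sylow r ↥A) := inferInstance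
  have hr : r.Prime := Fact.out
  have hcQ : Nat.card (Q₀ : Subgroup A) = r ^ (Nat.card A).factorization r :=
    Sylow.card_eq_multiplicity Q₀
  refine ⟨(Q₀ : Subgroup A).map A.subtype, Nat.card (Sylow r ↥A), ?_, ?_, ?_, ?_, ?_⟩
  · rintro x ⟨y, hy, rfl⟩
    exact y.2
  · rw [Subgroup.card_map_of_injective A.subtype_injective, hcQ]
  · have h := card_sylow_modEq_one r ↥A
    have h1 : Nat.card (Sylow r ↥A) % r = 1 % r := h
    rw [h1]
    exact Nat.mod_eq_of_lt hr.one_lt
  · have h := Sylow.card_dvd_index Q₀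
    have h2 := Subgroup.card_mul_index (Q₀ : Subgroup A)
    rw [hcQ] at h2
    have h3 : (Q₀ : Subgroup A).index = Nat.card A / r ^ (Nat.card A).factorization r := by
      apply (Nat.div_eq_of_eq_mul_right (pow_pos hr.pos _) h2.symm).symm
    rw [← h3]; exact h
  · have h1 : Nat.card (Sylow r ↥A) = (Subgroup.normalizer ((Q₀ : Subgroup A) : Set A)).index :=
      Sylow.card_eq_index_normalizer Q₀
    have h2 := Subgroup.card_mul_index (Subgroup.normalizer ((Q₀ : Subgroup A) : Set A))
    rw [← h1] at h2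
    rw [← h2]
    apply Nat.mul_le_mul_right
    have h3 : (Subgroup.normalizer ((Q₀ : Subgroup A) : Set A)).map A.subtype ≤
        A ⊓ Subgroup.normalizer ((((Q₀ : Subgroup A).map A.subtype : Subgroup G)) : Set G) := by
      rintro x ⟨y, hy, rfl⟩
      exact Subgroup.mem_inf.2 ⟨y.2, mem_normalizer_map_subtype A _ y hy⟩
    have h4 := Subgroup.card_le_of_le h3
    rw [Subgroup.card_map_of_injective A.subtype_injective] at h4
    exact h4

/-- A Sylow subgroup of `M` forced to be normal by Sylow counting. -/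
theorem exists_normal_sylow_sub (r : ℕ) [Fact r.Prime] (M : Subgroup G) {a : ℕ}
    (hfa : (Nat.card M).factorization r = a)
    (hn : ∀ n, n ∣ Nat.card M / r ^ a → n % r = 1 → n = 1) :
    ∃ R : Subgroup G, Nat.card R = r ^ a ∧ M ≤ Subgroup.normalizer (R : Set G) := by
  classical
  obtain ⟨Q₀⟩ : Nonempty (Sylow r ↥M) := inferInstance
  have hr : r.Prime := Fact.out
  have hcQ : Nat.card (Q₀ : Subgroup M) = r ^ a := by
    rw [← hfa]; exact Sylow.card_eq_multiplicity Q₀
  have hmod : Nat.card (Sylow r ↥M) % r = 1 := by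
    have h := card_sylow_modEq_one r ↥M
    have h1 : Nat.card (Sylow r ↥M) % r = 1 % r := h
    rw [h1]
    exact Nat.mod_eq_of_lt hr.one_lt
  have hdvd : Nat.card (Sylow r ↥M) ∣ Nat.card M / r ^ a := by
    have h := Sylow.card_dvd_index Q₀
    have h2 := Subgroup.card_mul_index (Q₀ : Subgroup M)
    rw [hcQ] at h2
    have h3 : (Q₀ : Subgroup M).index = Nat.card M / r ^ a := by
      rw [← h2, Nat.mul_div_cancel_left _ (pow_pos hr.pos _)]
    rw [← h3]; exact h
  have h1 := hn _ hdvd hmod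
  have h2 : (Subgroup.normalizer ((Q₀ : Subgroup M) : Set M)).index = 1 := by
    have h0 : Nat.card (Sylow r ↥M) =
      (Subgroup.normalizer ((Q₀ : Subgroup M) : Set M)).index := Sylow.card_eq_index_normalizer Q₀
    rw [← h0]; exact h1
  have h3 : Subgroup.normalizer ((Q₀ : Subgroup M) : Set M) = ⊤ := Subgroup.index_eq_one.1 h2
  refine ⟨(Q₀ : Subgroup M).map M.subtype, ?_, ?_⟩
  · rw [Subgroup.card_map_of_injective M.subtype_injective, hcQ]
  · intro x hx
    exact mem_normalizer_map_subtype M _ ⟨x, hx⟩ (by rw [h3]; exact Subgroup.mem_top _)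


/-- **Non-maximality by Sylow counting.** -/
theorem coatom_sylow_contra [IsSimpleGroup G] (r : ℕ) [Fact r.Prime] {a m : ℕ} (ha : 1 ≤ a)
    (hG : Nat.card G = r ^ a * m) (hm : ¬ r ∣ m) (hm1 : m ≠ 1) {M A R : Subgroup G}
    (hM : IsCoatom M) (hR : Nat.card R = r ^ a) (hRM : M ≤ Subgroup.normalizer (R : Set G))
    (hA : A ≠ ⊤) (hAr : r ^ a ∣ Nat.card A)
    (hn : ∀ n, n ∣ Nat.card A / r ^ a → n % r = 1 → Nat.card M * n ≤ Nat.card A)
    (hne : Nat.card A ≠ Nat.card M) : False := by
  have hr : r.Prime := Fact.out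
  have hApos : 0 < Nat.card A := Nat.card_pos
  have hfG : (Nat.card G).factorization r = a := by
    rw [hG]; exact factorization_prime_pow_mul r a m hr hm
  have hfA : (Nat.card A).factorization r = a := by
    apply le_antisymm
    · rw [← hfG]
      have hd : Nat.card A ∣ Nat.card G := Subgroup.card_subgroup_dvd_card A
      exact (Nat.factorization_le_iff_dvd hApos.ne' Nat.card_pos.ne').2 hd r
    · exact (hr.pow_dvd_iff_le_factorization hApos.ne').1 hAr
  obtain ⟨Q, n, hQA, hQc, hn1, hn2, hn3⟩ := exists_sylow_in r A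
  rw [hfA] at hQc hn2
  obtain ⟨g, hg⟩ := conj_of_card_sylow r hG hm R Q hR hQc
  have hRn : Subgroup.normalizer (R : Set G) ≠ ⊤ := by
    intro h
    have hnorm : R.Normal := Subgroup.normalizer_eq_top_iff.mp h
    rcases hnorm.eq_bot_or_eq_top with h1 | h1
    · rw [h1, Subgroup.card_bot] at hR
      have : 1 < r ^ a := Nat.one_lt_pow (by omega) hr.one_lt
      omega
    · rw [h1, Subgroup.card_top, hG] at hR
      have hpos : 0 < r ^ a := pow_pos hr.pos _
      have : r ^ a * m = r ^ a * 1 := by rw [hR, mul_one]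
      exact hm1 (Nat.eq_of_mul_eq_mul_left hpos this)
  refine coatom_conj_contra hM hRM hRn hA g hg ?_ hne
  have h1 := hn n hn2 hn1
  have hnpos : 0 < n := by
    rcases Nat.eq_zero_or_pos n with h | h
    · rw [h] at hn1; simp at hn1
    · exact h
  exact Nat.le_of_mul_le_mul_right (h1.trans hn3) hnpos

end Generic2



open Matrix Cfsg.Agent.H65.SL2 Cfsg.Agent.H29.Dk

section SL

variable {F : Type*} [Field F] [Fintype F]

theorem isCoatom_comap_mkP {M : Subgroup (Matrix.ProjectiveSpecialLinearGroup (Fin 2) F)}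
    (hM : IsCoatom M) : IsCoatom (M.comap (mkP F)) := by
  constructor
  · intro h
    apply hM.1
    rw [← map_comap_mkP M, h]
    exact Subgroup.map_top_of_surjective _ mkP_surjective
  · intro L' hL'
    have h1 : M ≤ L'.map (mkP F) := by
      rw [← map_comap_mkP M]
      exact Subgroup.map_mono hL'.le
    have hZ : (Ze : Subgroup _) ≤ L' := (Ze_le_comap M).trans hL'.le
    have h2 : (L'.map (mkP F)).comap (mkP F) = L' := by
      rw [Subgroup.comap_map_eq, mkP_ker]
      exact sup_eq_left.2 hZ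
    have h3 : M ≠ L'.map (mkP F) := by
      intro h
      rw [h, h2] at hL'
      exact lt_irrefl _ hL'
    have h4 := hM.2 _ (lt_of_le_of_ne h1 h3)
    rw [← h2, h4]
    exact Subgroup.comap_top _

/-- If all noncentral elements are semisimple then `p` does not divide the order of the image. -/
theorem not_dvd_card_of_semi (p : ℕ) [Fact p.Prime] [CharP F p] (h2 : (2 : F) ≠ 0)
    (L : Subgroup (Matrix.SpecialLinearGroup (Fin 2) F)) (hZL : (Ze : Subgroup _) ≤ L)
    (hss : ∀ x ∈ L, x ∉ (Ze : Subgroup _) → tr x ^ 2 ≠ 4) :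
    ¬ p ∣ Nat.card ↥(L.map (mkP F)) := by
  intro hdvd
  have hp : p.Prime := Fact.out
  obtain ⟨y, hy⟩ := exists_prime_orderOf_dvd_card' (G := ↥(L.map (mkP F))) p hdvd
  obtain ⟨g, hgL, hgy⟩ := y.2
  have hgZ : g ∉ (Ze : Subgroup _) := by
    intro h
    have h1 : (y : Matrix.ProjectiveSpecialLinearGroup (Fin 2) F) = 1 := by
      rw [← hgy]; exact mkP_eq_one_iff.2 h
    have h3 : y = 1 := Subtype.ext h1
    rw [h3, orderOf_one] at hy
    exact hp.one_lt.ne hy
  have hgp : g ^ p ∈ (Ze : Subgroup _) := by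
    rw [← mkP_eq_one_iff, map_pow, hgy, ← Subgroup.coe_pow, ← hy, pow_orderOf_eq_one]
    rfl
  have hg2p : g ^ (2 * p) = 1 := by
    rw [mul_comm, pow_mul]
    rcases mem_Ze_iff.1 hgp with h | h
    · rw [h, one_pow]
    · rw [h]; simp
  have htr := hss g hgL hgZ
  have hgC : g ∈ Subgroup.centralizer ({g} : Set (Matrix.SpecialLinearGroup (Fin 2) F)) := by
    rw [Subgroup.mem_centralizer_iff]
    intro z hz
    rw [Set.mem_singleton_iff] at hz
    rw [hz]
  have hpow : g ^ Nat.card ↥(Subgroup.centralizer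
      ({g} : Set (Matrix.SpecialLinearGroup (Fin 2) F))) = 1 := by
    have h := pow_card_eq_one' (G := ↥(Subgroup.centralizer
      ({g} : Set (Matrix.SpecialLinearGroup (Fin 2) F)))) (x := ⟨g, hgC⟩)
    have h' := congrArg Subtype.val h
    rw [Subgroup.coe_pow, Subgroup.coe_one] at h'
    exact h'
  obtain ⟨n, -, hn⟩ := FiniteField.card F p
  have hpq : p ∣ Fintype.card F := by
    rw [hn]; exact dvd_pow_self p (by positivity)
  have hq : 2 ≤ Fintype.card F := Fintype.one_lt_card
  have hp2 : p ≠ 2 := by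
    rintro rfl
    exact h2 (CharTwo.two_eq_zero)
  have hcop : ∀ c : ℕ, (c ∣ Fintype.card F - 1 ∨ c ∣ Fintype.card F + 1) → g ^ c = 1 →
      g ^ 2 = 1 := by
    intro c hc hgc
    have h3 : orderOf g ∣ c := orderOf_dvd_of_pow_eq_one hgc
    have h4 : orderOf g ∣ 2 * p := orderOf_dvd_of_pow_eq_one hg2p
    have h5 : Nat.Coprime (orderOf g) p := by
      rw [Nat.coprime_comm, hp.coprime_iff_not_dvd]
      intro h6
      have h7 : p ∣ c := h6.trans h3
      rcases hc with hc | hc
      · have h8 : p ∣ Fintype.card F - 1 := h7.trans hc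
        have h9 : p ∣ 1 := by
          have : Fintype.card F = (Fintype.card F - 1) + 1 := by omega
          rw [this] at hpq
          exact (Nat.dvd_add_right h8).1 hpq
        exact hp.one_lt.ne' (Nat.dvd_one.1 h9)
      · have h8 : p ∣ Fintype.card F + 1 := h7.trans hc
        have h9 : p ∣ 1 := (Nat.dvd_add_right hpq).1 h8
        exact hp.one_lt.ne' (Nat.dvd_one.1 h9)
    have h6 : orderOf g ∣ 2 := h5.dvd_of_dvd_mul_right h4
    exact orderOf_dvd_iff_pow_eq_one.1 h6
  have hg2 : g ^ 2 = 1 := by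
    rcases cen_card_dvd htr with h | h
    · exact hcop _ (Or.inl h) hpow
    · exact hcop _ (Or.inr h) hpow
  rw [pow_two] at hg2
  exact hgZ (mem_Ze_of_mul_self h2 hg2)

/-- A `p'`-subgroup of the normaliser of a Sylow `p`-subgroup of `PSL(2, q)` is abelian. -/
theorem abelian_of_normalizer_sylow (p : ℕ) [Fact p.Prime] [CharP F p]
    (P : Sylow p (Matrix.ProjectiveSpecialLinearGroup (Fin 2) F))
    (K : Subgroup (Matrix.ProjectiveSpecialLinearGroup (Fin 2) F))
    (hK : K ≤ Subgroup.normalizer ((P : Subgroup (Matrix.ProjectiveSpecialLinearGroup (Fin 2) F)) :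
        Set (Matrix.ProjectiveSpecialLinearGroup (Fin 2) F)))
    (hp : ¬ p ∣ Nat.card K) : ∀ a ∈ K, ∀ b ∈ K, a * b = b * a := by
  intro a ha b hb
  have hc := Cfsg.Agent.H64.DU.comm_mem_sylow_of_mem_normalizer p P a b (hK ha) (hK hb)
  have hcK : a * b * a⁻¹ * b⁻¹ ∈ K :=
    K.mul_mem (K.mul_mem (K.mul_mem ha hb) (K.inv_mem ha)) (K.inv_mem hb)
  have hpr : p.Prime := Fact.out
  -- the commutator is a `p`-element of `K`
  obtain ⟨k, hk⟩ := IsPGroup.iff_orderOf.1 P.isPGroup' ⟨_, hc⟩
  have hord : orderOf (a * b * a⁻¹ * b⁻¹) = p ^ k := by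
    rw [← hk]; exact (Subgroup.orderOf_mk _ hc).symm
  have hdvd : orderOf (a * b * a⁻¹ * b⁻¹) ∣ Nat.card K := by
    have := orderOf_dvd_natCard (⟨_, hcK⟩ : K)
    rwa [Subgroup.orderOf_mk] at this
  rw [hord] at hdvd
  have hk0 : k = 0 := by
    by_contra hk0
    exact hp ((dvd_pow_self p hk0).trans hdvd)
  rw [hk0, pow_zero, orderOf_eq_one_iff] at hord
  calc a * b = (a * b * a⁻¹ * b⁻¹) * (b * a) := by group
    _ = b * a := by rw [hord, one_mul]

end SL


end Cfsg.Agent.H18.Dk
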