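import Mathlib
import Cfsg.Agent.H18.DkMx5
import Cfsg.Agent.S0803
import Cfsg.Agent.S0804

/-!
# Maximal subgroups of `PSL(2, q)`, `q` odd: the dihedral case (helper18)
-/

set_option autoImplicit false
set_option linter.unusedSectionVars false
set_option linter.unusedVariables false
set_option linter.deprecated false
set_option linter.unusedSimpArgs false
set_option linter.style.haveILetI false
set_option linter.unnecessarySeqFocus false

namespace Cfsg.Agent.H18.Dk

open Matrix Cfsg.Agent.H65.SL2 Cfsg.Agent.H29.Dk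

section Exc

variable {G : Type*} [Group G] [Finite G]

theorem dih_exc_aux [IsSimpleGroup G] (r a m cM cA : ℕ) [Fact r.Prime] (ha : 1 ≤ a)
    (hG : Nat.card G = r ^ a * m) (hm : ¬ r ∣ m) (hm1 : m ≠ 1)
    {M A : Subgroup G} (hM : IsCoatom M) (hcM : Nat.card M = cM) (hcA : Nat.card A = cA)
    (hfa : cM.factorization r = a)
    (hn1 : ∀ n, n ∣ cM / r ^ a → n % r = 1 → n = 1) (hAr : r ^ a ∣ cA)
    (hn2 : ∀ n, n ∣ cA / r ^ a → n % r = 1 → cM * n ≤ cA) (hne : cA ≠ cM)
    (hAG : cA ≠ r ^ a * m) : False := by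
  obtain ⟨R, hR, hRM⟩ := exists_normal_sylow_sub r M (a := a) (by rw [hcM]; exact hfa)
    (by rw [hcM]; exact hn1)
  have hA : A ≠ ⊤ := by
    intro h
    rw [h, Subgroup.card_top, hG] at hcA
    exact hAG hcA.symm
  exact coatom_sylow_contra r ha hG hm hm1 hM hR hRM hA (by rw [hcA]; exact hAr)
    (by rw [hcA, hcM]; exact hn2) (by rw [hcA, hcM]; exact hne)

end Exc

section SL

variable {F : Type*} [Field F] [Fintype F]

theorem card_PSL2_odd (hodd : Odd (Fintype.card F)) :
    2 * Nat.card (Matrix.ProjectiveSpecialLinearGroup (Fin 2) F) =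
      Fintype.card F * (Fintype.card F ^ 2 - 1) := by
  have h := card_PSL2_mul (F := F)
  have hgcd : Nat.gcd 2 (Fintype.card F - 1) = 2 := by
    obtain ⟨j, hj⟩ := hodd
    have : 2 ∣ Fintype.card F - 1 := ⟨j, by omega⟩
    exact Nat.gcd_eq_left this
  rw [hgcd] at h
  exact h

/-- The small dihedral torus normalisers are not maximal. -/
theorem dih_exc (hodd : Odd (Fintype.card F)) (h5 : 5 ≤ Fintype.card F)
    (M : Subgroup (Matrix.ProjectiveSpecialLinearGroup (Fin 2) F)) (hM : IsCoatom M)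
    (h : (Fintype.card F = 7 ∧ Nat.card M = 6) ∨ (Fintype.card F = 9 ∧ Nat.card M = 8) ∨
      (Fintype.card F = 7 ∧ Nat.card M = 8) ∨ (Fintype.card F = 9 ∧ Nat.card M = 10) ∨
      (Fintype.card F = 11 ∧ Nat.card M = 10)) : False := by
  haveI := Cfsg.Agent.H64.MX.simple_PSL2 (F := F) (by omega)
  have hG := card_PSL2_odd hodd
  haveI : Fact (Nat.Prime 2) := ⟨Nat.prime_two⟩
  haveI : Fact (Nat.Prime 3) := ⟨Nat.prime_three⟩
  haveI : Fact (Nat.Prime 5) := ⟨Nat.prime_five⟩
  rcases h with ⟨hq, hc⟩ | ⟨hq, hc⟩ | ⟨hq, hc⟩ | ⟨hq, hc⟩ | ⟨hq, hc⟩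
  · -- q = 7, |M| = 6, inside S₄
    rw [hq] at hG
    have hG' : Nat.card (Matrix.ProjectiveSpecialLinearGroup (Fin 2) F) = 3 ^ 1 * 56 := by omega
    obtain ⟨A, ⟨e⟩⟩ := (Cfsg.Agent.S0803.result (F := F) rfl).2 (by rw [hq]; norm_num)
    have hcA : Nat.card A = 24 := by rw [Nat.card_congr e.toEquiv, card_S4]
    refine dih_exc_aux 3 1 56 6 24 le_rfl hG' (by norm_num) (by norm_num) hM hc hcA ?_ ?_
      (by norm_num) ?_ (by norm_num) (by norm_num)
    · have : (6 : ℕ) = 3 ^ 1 * 2 := by norm_num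
      rw [this]; exact factorization_prime_pow_mul 3 1 2 Nat.prime_three (by norm_num)
    · intro n hn hmod
      have hle := Nat.le_of_dvd (by norm_num) hn
      norm_num at hle
      interval_cases n <;> omega
    · intro n hn hmod
      have hle := Nat.le_of_dvd (by norm_num) hn
      norm_num at hle hn
      interval_cases n <;> omega
  · -- q = 9, |M| = 8, inside S₄
    rw [hq] at hG
    have hG' : Nat.card (Matrix.ProjectiveSpecialLinearGroup (Fin 2) F) = 2 ^ 3 * 45 := by omega
    obtain ⟨A, ⟨e⟩⟩ := (Cfsg.Agent.S0803.result (F := F) rfl).2 (by rw [hq]; norm_num)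
    have hcA : Nat.card A = 24 := by rw [Nat.card_congr e.toEquiv, card_S4]
    refine dih_exc_aux 2 3 45 8 24 (by norm_num) hG' (by norm_num) (by norm_num) hM hc hcA ?_ ?_
      (by norm_num) ?_ (by norm_num) (by norm_num)
    · have : (8 : ℕ) = 2 ^ 3 * 1 := by norm_num
      rw [this]; exact factorization_prime_pow_mul 2 3 1 Nat.prime_two (by norm_num)
    · intro n hn hmod
      have hle := Nat.le_of_dvd (by norm_num) hn
      norm_num at hle
      interval_cases n <;> omega
    · intro n hn hmod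
      have hle := Nat.le_of_dvd (by norm_num) hn
      norm_num at hle hn
      interval_cases n <;> omega
  · -- q = 7, |M| = 8, inside S₄
    rw [hq] at hG
    have hG' : Nat.card (Matrix.ProjectiveSpecialLinearGroup (Fin 2) F) = 2 ^ 3 * 21 := by omega
    obtain ⟨A, ⟨e⟩⟩ := (Cfsg.Agent.S0803.result (F := F) rfl).2 (by rw [hq]; norm_num)
    have hcA : Nat.card A = 24 := by rw [Nat.card_congr e.toEquiv, card_S4]
    refine dih_exc_aux 2 3 21 8 24 (by norm_num) hG' (by norm_num) (by norm_num) hM hc hcA ?_ ?_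
      (by norm_num) ?_ (by norm_num) (by norm_num)
    · have : (8 : ℕ) = 2 ^ 3 * 1 := by norm_num
      rw [this]; exact factorization_prime_pow_mul 2 3 1 Nat.prime_two (by norm_num)
    · intro n hn hmod
      have hle := Nat.le_of_dvd (by norm_num) hn
      norm_num at hle
      interval_cases n <;> omega
    · intro n hn hmod
      have hle := Nat.le_of_dvd (by norm_num) hn
      norm_num at hle hn
      interval_cases n <;> omega
  · -- q = 9, |M| = 10, inside A₅
    rw [hq] at hG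
    have hG' : Nat.card (Matrix.ProjectiveSpecialLinearGroup (Fin 2) F) = 5 ^ 1 * 72 := by omega
    obtain ⟨A, ⟨e⟩⟩ := (Cfsg.Agent.S0804.result (F := F) rfl).2 (by rw [hq]; norm_num)
    have hcA : Nat.card A = 60 := by rw [Nat.card_congr e.toEquiv, card_A5]
    refine dih_exc_aux 5 1 72 10 60 (by norm_num) hG' (by norm_num) (by norm_num) hM hc hcA ?_ ?_
      (by norm_num) ?_ (by norm_num) (by norm_num)
    · have : (10 : ℕ) = 5 ^ 1 * 2 := by norm_num
      rw [this]; exact factorization_prime_pow_mul 5 1 2 Nat.prime_five (by norm_num)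
    · intro n hn hmod
      have hle := Nat.le_of_dvd (by norm_num) hn
      norm_num at hle
      interval_cases n <;> omega
    · intro n hn hmod
      have hle := Nat.le_of_dvd (by norm_num) hn
      norm_num at hle hn
      interval_cases n <;> omega
  · -- q = 11, |M| = 10, inside A₅
    rw [hq] at hG
    have hG' : Nat.card (Matrix.ProjectiveSpecialLinearGroup (Fin 2) F) = 5 ^ 1 * 132 := by omega
    obtain ⟨A, ⟨e⟩⟩ := (Cfsg.Agent.S0804.result (F := F) rfl).2 (by rw [hq]; norm_num)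
    have hcA : Nat.card A = 60 := by rw [Nat.card_congr e.toEquiv, card_A5]
    refine dih_exc_aux 5 1 132 10 60 (by norm_num) hG' (by norm_num) (by norm_num) hM hc hcA ?_ ?_
      (by norm_num) ?_ (by norm_num) (by norm_num)
    · have : (10 : ℕ) = 5 ^ 1 * 2 := by norm_num
      rw [this]; exact factorization_prime_pow_mul 5 1 2 Nat.prime_five (by norm_num)
    · intro n hn hmod
      have hle := Nat.le_of_dvd (by norm_num) hn
      norm_num at hle
      interval_cases n <;> omega
    · intro n hn hmod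
      have hle := Nat.le_of_dvd (by norm_num) hn
      norm_num at hle hn
      interval_cases n <;> omega



theorem mul_self_of_tr_zero {x : Matrix.SpecialLinearGroup (Fin 2) F} (h : tr x = 0) :
    x * x = -1 := by
  have hd := det_eq x
  unfold tr at h
  apply ext4 <;> simp only [mul00, mul01, mul10, mul11, neg00, neg01, neg10, neg11, one00, one01,
    one10, one11, neg_zero]
  · linear_combination x.1 0 0 * h - hd
  · linear_combination x.1 0 1 * h
  · linear_combination x.1 1 0 * h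
  · linear_combination x.1 1 1 * h - hd

/-- Elements whose images commute in `PSL₂` commute, unless the trace vanishes. -/
theorem comm_of_mkP_comm {x y : Matrix.SpecialLinearGroup (Fin 2) F} (h2 : (2 : F) ≠ 0)
    (hy : tr y ≠ 0) (h : mkP F x * mkP F y = mkP F y * mkP F x) : x * y = y * x := by
  rw [← map_mul, ← map_mul, mkP_eq_iff] at h
  rcases mem_Ze_iff.1 h with h3 | h3
  · have := inv_mul_eq_one.1 h3
    exact this
  · exfalso
    apply hy
    have h4 : y * x = (x * y) * (-1) := by rw [← h3]; group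
    have h5 : x * y * x⁻¹ = -y := by
      have h6 : y = (x * y) * (-1) * x⁻¹ := by rw [← h4]; group
      have h7 : (x * y) * (-1) * x⁻¹ = -(x * y * x⁻¹) := by simp
      rw [h7] at h6
      rw [h6, neg_neg]
      rw [← h6]
    have h6 : tr (x * y * x⁻¹) = tr y := tr_conj x y
    rw [h5, tr_neg] at h6
    have h7 : 2 * tr y = 0 := by linear_combination -h6
    rcases mul_eq_zero.1 h7 with h8 | h8
    · exact absurd h8 h2
    · exact h8

/-- **The torus case**: a maximal subgroup normalising a cyclic subgroup generated by a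
semisimple non-involution is a dihedral torus normaliser. -/
theorem torus_case (hodd : Odd (Fintype.card F)) (h5 : 5 ≤ Fintype.card F)
    (M : Subgroup (Matrix.ProjectiveSpecialLinearGroup (Fin 2) F)) (hM : IsCoatom M)
    (hss : ∀ x ∈ M.comap (mkP F), x ∉ (Ze : Subgroup _) → tr x ^ 2 ≠ 4)
    (ρ : Matrix.ProjectiveSpecialLinearGroup (Fin 2) F) (hρM : ρ ∈ M) (hρ2 : ρ ^ 2 ≠ 1)
    (hconj : ∀ m ∈ M, m * ρ * m⁻¹ ∈ Subgroup.zpowers ρ) :
    (∃ k, 2 * k = Fintype.card F - 1 ∧ Nonempty (M ≃* DihedralGroup k)) ∨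
    (∃ k, 2 * k = Fintype.card F + 1 ∧ Nonempty (M ≃* DihedralGroup k)) := by
  classical
  have h2 : (2 : F) ≠ 0 := Cfsg.Agent.H44.two_ne_zero_of_odd hodd
  have hL : IsCoatom (M.comap (mkP F)) := isCoatom_comap_mkP hM
  obtain ⟨x, hx⟩ := mkP_surjective ρ
  have hxL : x ∈ M.comap (mkP F) := by rw [Subgroup.mem_comap, hx]; exact hρM
  have hxZ : x ∉ (Ze : Subgroup _) := by
    intro h
    apply hρ2
    rw [← hx, mkP_eq_one_iff.2 h, one_pow]
  have htr := hss x hxL hxZ
  have htr0 : tr x ≠ 0 := by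
    intro h
    apply hρ2
    rw [← hx, ← map_pow, pow_two, mul_self_of_tr_zero h]
    exact mkP_eq_one_iff.2 neg_one_mem_Ze
  have hLN : M.comap (mkP F) ≤ NT x := by
    intro g hg
    have hgM : mkP F g ∈ M := hg
    have hy : mkP F (g * x * g⁻¹) ∈ Subgroup.zpowers ρ := by
      rw [map_mul, map_mul, map_inv, hx]
      exact hconj _ hgM
    obtain ⟨j, hj⟩ := Subgroup.mem_zpowers_iff.1 hy
    have hcomm : mkP F x * mkP F (g * x * g⁻¹) = mkP F (g * x * g⁻¹) * mkP F x := by
      rw [← hj, hx]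
      exact ((Commute.refl ρ).zpow_right j).eq
    have htry : tr (g * x * g⁻¹) ≠ 0 := by rw [tr_conj]; exact htr0
    have hxy : x * (g * x * g⁻¹) = (g * x * g⁻¹) * x := comm_of_mkP_comm h2 htry hcomm
    have hyZ : g * x * g⁻¹ ∉ (Ze : Subgroup _) := by
      intro h
      apply hxZ
      have h3 : x = g⁻¹ * (g * x * g⁻¹) * g := by group
      rw [h3, ← Ze_comm h g⁻¹]
      have : g * x * g⁻¹ * g⁻¹ * g = g * x * g⁻¹ := by group
      rw [this]; exact h
    unfold NT
    rw [Subgroup.mem_normalizer_iff]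
    intro c
    rw [Subgroup.mem_centralizer_singleton_iff, Subgroup.mem_centralizer_singleton_iff]
    constructor
    · intro hc
      have h3 : (g * x * g⁻¹) * (g * c * g⁻¹) = (g * c * g⁻¹) * (g * x * g⁻¹) := by
        calc (g * x * g⁻¹) * (g * c * g⁻¹) = g * (x * c) * g⁻¹ := by group
          _ = g * (c * x) * g⁻¹ := by rw [hc]
          _ = (g * c * g⁻¹) * (g * x * g⁻¹) := by group
      exact (comm_trans hyZ hxy.symm h3).symm
    · intro hc
      have h3 : (g * x * g⁻¹) * (g * c * g⁻¹) = (g * c * g⁻¹) * (g * x * g⁻¹) :=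
        comm_trans hxZ hxy hc.symm
      calc c * x = g⁻¹ * ((g * c * g⁻¹) * (g * x * g⁻¹)) * g := by group
        _ = g⁻¹ * ((g * x * g⁻¹) * (g * c * g⁻¹)) * g := by rw [h3]
        _ = x * c := by group
  have htr' : (x.1 0 0 + x.1 1 1) ^ 2 ≠ 4 := htr
  have hq : 2 ≤ Fintype.card F := Fintype.one_lt_card
  have hcard : Nat.card (Subgroup.centralizer
      ({x} : Set (Matrix.SpecialLinearGroup (Fin 2) F))) = Fintype.card F - 1 ∨
      Nat.card (Subgroup.centralizer
      ({x} : Set (Matrix.SpecialLinearGroup (Fin 2) F))) = Fintype.card F + 1 := by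
    by_cases hE : Cfsg.Agent.H44.Elliptic (x : Matrix (Fin 2) (Fin 2) F)
    · right; exact Cfsg.Agent.H44.sl2_card_centralizer_elliptic hodd x hE
    · left; exact Cfsg.Agent.H44.sl2_card_centralizer_split hodd x htr' hE
  have hNtop : NT x ≠ ⊤ := by
    intro h
    have h3 := Cfsg.Agent.H44.sl2_card_normalizer hodd htr'
    have h4 : Nat.card (NT x) = Nat.card (Matrix.SpecialLinearGroup (Fin 2) F) := by
      rw [h]; exact Subgroup.card_top
    have h9 : Nat.card (NT x) = 2 * Nat.card (Subgroup.centralizer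
      ({x} : Set (Matrix.SpecialLinearGroup (Fin 2) F))) := h3
    rw [h4, Cfsg.Agent.H44.card_SL2, sq_sub_one_eq _ (by omega)] at h9
    have h6 : 2 * Nat.card (Subgroup.centralizer
      ({x} : Set (Matrix.SpecialLinearGroup (Fin 2) F))) ≤ 2 * (Fintype.card F + 1) := by
      rcases hcard with h | h <;> rw [h] <;> omega
    have h7 : 4 * (Fintype.card F + 1) ≤ Fintype.card F * ((Fintype.card F - 1) * (Fintype.card F + 1)) := by
      have h8 : 4 ≤ Fintype.card F * (Fintype.card F - 1) := by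
        have : 5 * 4 ≤ Fintype.card F * (Fintype.card F - 1) := Nat.mul_le_mul h5 (by omega)
        omega
      calc 4 * (Fintype.card F + 1) ≤ (Fintype.card F * (Fintype.card F - 1)) * (Fintype.card F + 1) :=
            Nat.mul_le_mul_right _ h8
        _ = Fintype.card F * ((Fintype.card F - 1) * (Fintype.card F + 1)) := by ring
    omega
  have hLeq : M.comap (mkP F) = NT x := by
    by_contra hne
    exact hNtop (hL.2 _ (lt_of_le_of_ne hLN hne))
  have hMeq : M = (NT x).map (mkP F) := by rw [← hLeq, map_comap_mkP]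
  obtain ⟨τ, hτ⟩ : ∃ τ : Matrix.SpecialLinearGroup (Fin 2) F, τ * x * τ⁻¹ = x⁻¹ := by
    have hc : IsConj x x⁻¹ := by
      apply Cfsg.Agent.H44.SL2_isConj_of_trace_odd hodd x x⁻¹
      · rw [Matrix.trace_fin_two, Matrix.trace_fin_two]
        have e1 : (x⁻¹).1 0 0 = x.1 1 1 := inv00 x
        have e2 : (x⁻¹).1 1 1 = x.1 0 0 := inv11 x
        rw [e1, e2, add_comm]
      · rw [Matrix.trace_fin_two]; exact htr'
    exact isConj_iff.1 hc
  obtain ⟨e⟩ := torus_dih htr hτ
  have hgcd : Nat.gcd 2 (Fintype.card F - 1) = 2 := by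
    obtain ⟨j, hj⟩ := hodd
    have : 2 ∣ Fintype.card F - 1 := ⟨j, by omega⟩
    exact Nat.gcd_eq_left this
  rw [hgcd] at e
  obtain ⟨j, hj⟩ := hodd
  rcases hcard with h | h
  · left
    rw [h] at e
    refine ⟨(Fintype.card F - 1) / 2, by omega, ⟨(MulEquiv.subgroupCongr hMeq).trans e⟩⟩
  · right
    rw [h] at e
    refine ⟨(Fintype.card F + 1) / 2, by omega, ⟨(MulEquiv.subgroupCongr hMeq).trans e⟩⟩


/-- **The dihedral case.** -/
theorem dih_case (hodd : Odd (Fintype.card F)) (h5 : 5 ≤ Fintype.card F)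
    (M : Subgroup (Matrix.ProjectiveSpecialLinearGroup (Fin 2) F)) (hM : IsCoatom M)
    (hss : ∀ x ∈ M.comap (mkP F), x ∉ (Ze : Subgroup _) → tr x ^ 2 ≠ 4)
    (k : ℕ) (f : M ≃* DihedralGroup k) :
    (13 ≤ Fintype.card F ∧
      (∃ k : ℕ, 2 * k = Fintype.card F - 1 ∧ Nonempty (M ≃* DihedralGroup k))) ∨
    (Fintype.card F ≠ 7 ∧ Fintype.card F ≠ 9 ∧
      (∃ k : ℕ, 2 * k = Fintype.card F + 1 ∧ Nonempty (M ≃* DihedralGroup k))) := by
  classical
  haveI := Cfsg.Agent.H64.MX.simple_PSL2 (F := F) (by omega)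
  have hnc := Cfsg.Agent.H64.MX.noncomm_PSL2 (F := F)
  have habel : (∀ a b : M, a * b = b * a) → False := by
    intro h
    exact Cfsg.Agent.H64.MX.abelian_coatom_false hnc M hM
      (fun a ha b hb => congrArg Subtype.val (h ⟨a, ha⟩ ⟨b, hb⟩))
  have hcard : Nat.card M = 2 * k := by rw [Nat.card_congr f.toEquiv, DihedralGroup.nat_card]
  have hMpos : 0 < Nat.card M := Nat.card_pos
  have hk3 : 3 ≤ k := by
    by_contra hk
    have hk12 : k = 1 ∨ k = 2 := by omega
    apply habel
    intro a b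
    apply f.injective
    rw [map_mul, map_mul]
    rcases hk12 with rfl | rfl
    · exact Cfsg.Agent.H64.MX.dih1_comm _ _
    · exact Cfsg.Agent.H64.MX.dih2_comm _ _
  obtain ⟨x, hx2, hxn, -⟩ := Cfsg.Agent.H64.MX.dih_struct k hk3 f
  have hXsq : (x : Matrix.ProjectiveSpecialLinearGroup (Fin 2) F) ^ 2 ≠ 1 := by
    intro h
    apply hx2
    apply Subtype.ext
    simpa using h
  have hconj : ∀ m ∈ M, m * (x : Matrix.ProjectiveSpecialLinearGroup (Fin 2) F) * m⁻¹ ∈
      Subgroup.zpowers (x : Matrix.ProjectiveSpecialLinearGroup (Fin 2) F) := by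
    intro m hm
    obtain ⟨j, hj⟩ := Subgroup.mem_zpowers_iff.mp (hxn ⟨m, hm⟩)
    refine Subgroup.mem_zpowers_iff.mpr ⟨j, ?_⟩
    have := congrArg Subtype.val hj
    simpa using this
  obtain ⟨j, hj⟩ := hodd
  rcases torus_case ⟨j, hj⟩ h5 M hM hss _ x.2 hXsq hconj with ⟨k', hk', ⟨g⟩⟩ | ⟨k', hk', ⟨g⟩⟩
  · left
    refine ⟨?_, k', hk', ⟨g⟩⟩
    by_contra h13
    have hcard' : Nat.card M = 2 * k' := by rw [Nat.card_congr g.toEquiv, DihedralGroup.nat_card]
    have hq : Fintype.card F = 5 ∨ Fintype.card F = 7 ∨ Fintype.card F = 9 ∨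
        Fintype.card F = 11 := by omega
    rcases hq with hq | hq | hq | hq
    · have hk2 : k' = 2 := by omega
      subst hk2
      apply habel
      intro a b
      apply g.injective
      rw [map_mul, map_mul]
      exact Cfsg.Agent.H64.MX.dih2_comm _ _
    · exact dih_exc ⟨j, hj⟩ h5 M hM (Or.inl ⟨hq, by omega⟩)
    · exact dih_exc ⟨j, hj⟩ h5 M hM (Or.inr (Or.inl ⟨hq, by omega⟩))
    · exact dih_exc ⟨j, hj⟩ h5 M hM (Or.inr (Or.inr (Or.inr (Or.inr ⟨hq, by omega⟩))))
  · right
    have hcard' : Nat.card M = 2 * k' := by rw [Nat.card_congr g.toEquiv, DihedralGroup.nat_card]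
    refine ⟨?_, ?_, k', hk', ⟨g⟩⟩
    · intro hq
      exact dih_exc ⟨j, hj⟩ h5 M hM (Or.inr (Or.inr (Or.inl ⟨hq, by omega⟩)))
    · intro hq
      exact dih_exc ⟨j, hj⟩ h5 M hM (Or.inr (Or.inr (Or.inr (Or.inl ⟨hq, by omega⟩))))

end SL

end Cfsg.Agent.H18.Dk
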