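import Mathlib

/-!
# A subgroup `K` with a normal 2-subgroup `O` of index 3 is `O⟨k⟩` with `k` of order 3
(interface fact for the kill of S2953, case `V ⊄ Q₁`)
-/

set_option autoImplicit false

namespace Cfsg.Agent.H18.Jx

universe u

theorem k3_core {G : Type u} [Group G] [Finite G] (K O : Subgroup G) (hOK : O ≤ K)
    (hKN : K ≤ Subgroup.normalizer (O : Set G)) (hO2 : IsPGroup 2 ↥O) (h3 : O.relIndex K = 3) :
    ∃ k ∈ K, k ^ 3 = 1 ∧ k ∉ O ∧ ∀ g ∈ K, ∃ o ∈ O, ∃ i : ℕ, g = o * k ^ i := by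
  have hdiv : 3 ∣ Nat.card K := by
    have := Subgroup.relIndex_mul_relIndex (⊥ : Subgroup G) O K bot_le hOK
    rw [Subgroup.relIndex_bot_left, Subgroup.relIndex_bot_left, h3] at this
    exact Dvd.intro_left _ this
  have : Fact (Nat.Prime 3) := ⟨Nat.prime_three⟩
  obtain ⟨k0, hk0⟩ := exists_prime_orderOf_dvd_card' 3 hdiv
  have hk3 : (k0 : G) ^ 3 = 1 := by
    have h := pow_orderOf_eq_one k0
    rw [hk0] at h
    have h' := congrArg (Subtype.val) h
    simpa using h'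
  have hord : orderOf (k0 : G) = 3 := by
    rw [Subgroup.orderOf_coe, hk0]
  have hkO : (k0 : G) ∉ O := by
    intro hk
    obtain ⟨n, hn⟩ := hO2 ⟨(k0 : G), hk⟩
    have hn' : (k0 : G) ^ 2 ^ n = 1 := by
      have h' := congrArg (Subtype.val) hn
      simpa using h'
    have hd : 3 ∣ 2 ^ n := by
      rw [← hord]; exact orderOf_dvd_of_pow_eq_one hn'
    have := Nat.Prime.dvd_of_dvd_pow Nat.prime_three hd
    omega
  refine ⟨(k0 : G), k0.2, hk3, hkO, ?_⟩
  -- H := O ⊔ zpowers k = K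
  set Z : Subgroup G := Subgroup.zpowers (k0 : G) with hZ
  have hZK : Z ≤ K := by
    rw [hZ, Subgroup.zpowers_le]; exact k0.2
  have hH : O ⊔ Z ≤ K := sup_le hOK hZK
  have hmul := Subgroup.relIndex_mul_relIndex O (O ⊔ Z) K le_sup_left hH
  rw [h3] at hmul
  have h1 : O.relIndex (O ⊔ Z) ≠ 1 := by
    intro h
    have hle := Subgroup.relIndex_eq_one.mp h
    exact hkO (hle (le_sup_right (a := O) (Subgroup.mem_zpowers (k0 : G))))
  have h2 : (O ⊔ Z).relIndex K = 1 := by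
    have hd : O.relIndex (O ⊔ Z) ∣ 3 := Dvd.intro _ hmul
    rcases (Nat.dvd_prime Nat.prime_three).mp hd with h | h
    · exact absurd h h1
    · rw [h] at hmul; omega
  have hKH : K ≤ O ⊔ Z := Subgroup.relIndex_eq_one.mp h2
  intro g hg
  have hg' : g ∈ ((O ⊔ Z : Subgroup G) : Set G) := hKH hg
  rw [Subgroup.coe_mul_of_right_le_normalizer_left O Z (hZK.trans hKN)] at hg'
  obtain ⟨o, ho, y, hy, rfl⟩ := hg'
  have hy' : y ∈ Submonoid.powers (k0 : G) := by
    rw [mem_powers_iff_mem_zpowers]; exact hy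
  obtain ⟨i, rfl⟩ := hy'
  exact ⟨o, ho, i, rfl⟩

end Cfsg.Agent.H18.Jx
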