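import Cfsg.Agent.H26.SE2

/-!
# (G2) for the JZ project (S2951 / S2952, helper64)

A strongly embedded subgroup is transitive on its involutions, and every involution of the group
is conjugate to each involution of the subgroup.  Thin wrappers around helper26's `H26.SE2`.
-/

set_option autoImplicit false

namespace Cfsg.Agent.H18.Jz

open Subgroup

variable {G : Type*} [Group G] [Finite G]

/-- A strongly embedded subgroup does not contain every involution: any conjugate of an involution of
`H` by an element outside `H` lies outside `H`. -/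
theorem se_conj_not_mem {H : Subgroup G} (hH : Cfsg.IsStronglyEmbedded H) {s g : G}
    (hs : orderOf s = 2) (hsH : s ∈ H) (hg : g ∉ H) : g * s * g⁻¹ ∉ H := by
  intro hmem
  have h2 : orderOf (g * s * g⁻¹) = 2 := by
    rw [Cfsg.Agent.H26.orderOf_conj_eq]; exact hs
  apply hg
  apply Cfsg.Agent.H26.se_mem_of_inv_mem_inter hH h2 hmem
  have : g⁻¹ * (g * s * g⁻¹) * g = s := by group
  rw [this]; exact hsH

/-- A strongly embedded subgroup has an involution of the group outside it. -/
theorem se_exists_inv_not_mem {H : Subgroup G} (hH : Cfsg.IsStronglyEmbedded H) :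
    ∃ u : G, orderOf u = 2 ∧ u ∉ H := by
  obtain ⟨s, hs, hsH⟩ := Cfsg.Agent.H26.se_exists_inv hH
  have hne : H ≠ ⊤ := hH.1
  have : ∃ g : G, g ∉ H := by
    by_contra hcon
    exact hne ((Subgroup.eq_top_iff' H).mpr (fun g => by
      by_contra h
      exact hcon ⟨g, h⟩))
  obtain ⟨g, hg⟩ := this
  refine ⟨g * s * g⁻¹, ?_, se_conj_not_mem hH hs hsH hg⟩
  rw [Cfsg.Agent.H26.orderOf_conj_eq]; exact hs

/-- **(G2)** A strongly embedded subgroup `H` is transitive on its involutions: any two involutions
of `H` are conjugate by an element of `H`. -/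
theorem se_transitive_on_involutions {H : Subgroup G} (hH : Cfsg.IsStronglyEmbedded H) {s t : G}
    (hs : orderOf s = 2) (hsH : s ∈ H) (ht : orderOf t = 2) (htH : t ∈ H) :
    ∃ h ∈ H, h * s * h⁻¹ = t := by
  obtain ⟨u, hu, huH⟩ := se_exists_inv_not_mem hH
  obtain ⟨d, hd, hdst⟩ := Cfsg.Agent.H26.se_D_trans hH hu huH hs hsH ht htH
  exact ⟨d, (Subgroup.mem_inf.mp hd).1, hdst⟩

/-- All involutions of a group with a strongly embedded subgroup `H` are conjugate to any given
involution of `H`. -/
theorem se_isConj_of_involution {H : Subgroup G} (hH : Cfsg.IsStronglyEmbedded H) {s a : G}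
    (hs : orderOf s = 2) (hsH : s ∈ H) (ha : orderOf a = 2) : IsConj s a := by
  obtain ⟨u, hu, huH⟩ := se_exists_inv_not_mem hH
  exact Cfsg.Agent.H26.se_all_conj hH hu huH hs hsH ha

/-- Subgroup form of (G2): for `L` strongly embedded and involutions `s t ∈ L`, there is `h ∈ L`
with `h s h⁻¹ = t`; in particular a central involution of a Sylow 2-subgroup of `L` is `L`-conjugate
to every involution of `L`. -/
theorem se_transitive_on_involutions' {L : Subgroup G} (hL : Cfsg.IsStronglyEmbedded L) {s t : G}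
    (hs : s ∈ L) (hs1 : s ≠ 1) (hs2 : s * s = 1) (ht : t ∈ L) (ht1 : t ≠ 1) (ht2 : t * t = 1) :
    ∃ h ∈ L, h * s * h⁻¹ = t :=
  se_transitive_on_involutions hL (Cfsg.Agent.H26.orderOf_eq_two_of hs2 hs1) hs
    (Cfsg.Agent.H26.orderOf_eq_two_of ht2 ht1) ht

end Cfsg.Agent.H18.Jz

example {G : Type*} [Group G] [Finite G] {H : Subgroup G} (hH : Cfsg.IsStronglyEmbedded H) {s t : G}
    (hs : orderOf s = 2) (hsH : s ∈ H) (ht : orderOf t = 2) (htH : t ∈ H) :
    ∃ h ∈ H, h * s * h⁻¹ = t := Cfsg.Agent.H18.Jz.se_transitive_on_involutions hH hs hsH ht htH
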