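import Mathlib
import Cfsg.Agent.S0828

/-!
helper18: counting Klein four-subgroups through ordered pairs of distinct commuting involutions.
-/

set_option autoImplicit false

namespace Cfsg.Agent.H18

/-- ordered pairs of distinct commuting involutions -/
def InvPair {G : Type*} [Group G] (x y : G) : Prop :=
  orderOf x = 2 ∧ orderOf y = 2 ∧ x ≠ y ∧ x * y = y * x

theorem mul_self_of_orderOf_two {G : Type*} [Group G] {x : G} (h : orderOf x = 2) : x * x = 1 := by
  have := pow_orderOf_eq_one x
  rw [h, pow_two] at this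
  exact this

theorem ne_one_of_orderOf_two {G : Type*} [Group G] {x : G} (h : orderOf x = 2) : x ≠ 1 := by
  rintro rfl
  rw [orderOf_one] at h
  omega

theorem orderOf_two_of {G : Type*} [Group G] {x : G} (h1 : x * x = 1) (h2 : x ≠ 1) :
    orderOf x = 2 := by
  have : Fact (Nat.Prime 2) := ⟨Nat.prime_two⟩
  exact orderOf_eq_prime (by rw [pow_two, h1]) h2

/-- the four-group generated by a pair of distinct commuting involutions -/
def pairSubgroup {G : Type*} [Group G] (x y : G) (h : InvPair x y) : Subgroup G where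
  carrier := {g | g = 1 ∨ g = x ∨ g = y ∨ g = x * y}
  one_mem' := Or.inl rfl
  mul_mem' := by
    have hx2 := mul_self_of_orderOf_two h.1
    have hy2 := mul_self_of_orderOf_two h.2.1
    have hc := h.2.2.2
    have e1 : x * (x * y) = y := by rw [← mul_assoc, hx2, one_mul]
    have e2 : y * (x * y) = x := by rw [← mul_assoc, ← hc, mul_assoc, hy2, mul_one]
    have e3 : x * y * x = y := by rw [mul_assoc, ← hc, e1]
    have e4 : x * y * y = x := by rw [mul_assoc, hy2, mul_one]
    have e5 : x * y * (x * y) = 1 := by rw [mul_assoc, e2, hx2]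
    rintro a b (rfl | rfl | rfl | rfl) (rfl | rfl | rfl | rfl)
    · left; simp
    · right; left; simp
    · right; right; left; simp
    · right; right; right; simp
    · right; left; simp
    · left; exact hx2
    · right; right; right; rfl
    · right; right; left; exact e1
    · right; right; left; simp
    · right; right; right; exact hc.symm
    · left; exact hy2
    · right; left; exact e2
    · right; right; right; simp
    · right; right; left; exact e3
    · right; left; exact e4
    · left; exact e5
  inv_mem' := by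
    have hx2 := mul_self_of_orderOf_two h.1
    have hy2 := mul_self_of_orderOf_two h.2.1
    have hc := h.2.2.2
    rintro a (rfl | rfl | rfl | rfl)
    · left; simp
    · right; left; exact inv_eq_of_mul_eq_one_left hx2
    · right; right; left; exact inv_eq_of_mul_eq_one_left hy2
    · right; right; right
      apply inv_eq_of_mul_eq_one_left
      rw [mul_assoc, ← mul_assoc y, ← hc, mul_assoc, hy2, mul_one, hx2]

theorem mem_pairSubgroup {G : Type*} [Group G] (x y : G) (h : InvPair x y) (g : G) :
    g ∈ pairSubgroup x y h ↔ g = 1 ∨ g = x ∨ g = y ∨ g = x * y := Iff.rfl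

theorem card_pairSubgroup {G : Type*} [Group G] (x y : G) (h : InvPair x y) :
    Nat.card (pairSubgroup x y h) = 4 := by
  classical
  have hx2 := mul_self_of_orderOf_two h.1
  have hy2 := mul_self_of_orderOf_two h.2.1
  have hx1 := ne_one_of_orderOf_two h.1
  have hy1 := ne_one_of_orderOf_two h.2.1
  have hxy := h.2.2.1
  have hset : ((pairSubgroup x y h : Subgroup G) : Set G) = ↑({1, x, y, x * y} : Finset G) := by
    ext g
    simp only [SetLike.mem_coe, mem_pairSubgroup, Finset.coe_insert, Finset.coe_singleton,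
      Set.mem_insert_iff, Set.mem_singleton_iff]
  have hcard : Nat.card (pairSubgroup x y h) = Nat.card ((pairSubgroup x y h : Subgroup G) : Set G) :=
    rfl
  rw [hcard, hset, Nat.card_coe_set_eq, Set.ncard_coe_finset]
  have n1 : x ≠ x * y := by
    intro e
    apply hy1
    have := mul_left_cancel (a := x) (b := 1) (c := y) (by rw [mul_one]; exact e)
    exact this.symm
  have n2 : y ≠ x * y := by
    intro e
    apply hx1
    have := mul_right_cancel (a := 1) (b := y) (c := x) (by rw [one_mul]; exact e)
    exact this.symm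
  have n3 : (1 : G) ≠ x * y := by
    intro e
    apply hxy
    have : x * x = x * y := by rw [hx2]; exact e
    exact mul_left_cancel this
  rw [Finset.card_insert_of_notMem, Finset.card_insert_of_notMem, Finset.card_insert_of_notMem,
    Finset.card_singleton]
  · simp only [Finset.mem_singleton]; exact n2
  · simp only [Finset.mem_insert, Finset.mem_singleton, not_or]; exact ⟨hxy, n1⟩
  · simp only [Finset.mem_insert, Finset.mem_singleton, not_or]
    exact ⟨fun e => hx1 e.symm, fun e => hy1 e.symm, n3⟩

theorem isKleinFour_pairSubgroup {G : Type*} [Group G] (x y : G) (h : InvPair x y) :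
    IsKleinFour (pairSubgroup x y h) := by
  have hx2 := mul_self_of_orderOf_two h.1
  have hy2 := mul_self_of_orderOf_two h.2.1
  have hc := h.2.2.2
  have hcard := card_pairSubgroup x y h
  have hfin : Finite (pairSubgroup x y h) := Nat.finite_of_card_ne_zero (by rw [hcard]; norm_num)
  have hnt : Nontrivial (pairSubgroup x y h) := by
    rw [← Finite.one_lt_card_iff_nontrivial, hcard]
    norm_num
  refine ⟨hcard, ?_⟩
  rw [Monoid.exponent_eq_prime_iff Nat.prime_two]
  intro g hg
  have hg1 : (g : G) ≠ 1 := fun e => hg (Subtype.ext e)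
  rw [← Subgroup.orderOf_coe]
  apply orderOf_two_of _ hg1
  rcases g.2 with e | e | e | e
  · exact absurd e hg1
  · rw [e]; exact hx2
  · rw [e]; exact hy2
  · rw [e, mul_assoc, ← mul_assoc y, ← hc, mul_assoc, hy2, mul_one, hx2]

theorem kf_pairs_card (K : Type*) [Group K] [IsKleinFour K] :
    Nat.card {p : K × K // p.1 ≠ 1 ∧ p.2 ≠ 1 ∧ p.1 ≠ p.2} = 6 := by
  classical
  have hK : Nat.card K = 4 := IsKleinFour.card_four
  have hfin : Finite K := Nat.finite_of_card_ne_zero (by rw [hK]; norm_num)
  let e₀ : K ≃ Fin 4 := Finite.equivFinOfCardEq hK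
  let e : K ≃ Fin 4 := e₀.trans (Equiv.swap (e₀ 1) 0)
  have he1 : e 1 = 0 := by
    show Equiv.swap (e₀ 1) 0 (e₀ 1) = 0
    exact Equiv.swap_apply_left _ _
  have hcongr : Nat.card {p : K × K // p.1 ≠ 1 ∧ p.2 ≠ 1 ∧ p.1 ≠ p.2} =
      Nat.card {p : Fin 4 × Fin 4 // p.1 ≠ 0 ∧ p.2 ≠ 0 ∧ p.1 ≠ p.2} := by
    apply Nat.card_congr
    refine Equiv.subtypeEquiv (e.prodCongr e) ?_
    intro p
    simp only [Equiv.prodCongr_apply, Prod.map_fst, Prod.map_snd, ← he1, e.injective.ne_iff]
  rw [hcongr, Nat.card_eq_fintype_card]
  decide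

/-- six times the number of Klein four-subgroups is the number of ordered pairs of distinct
commuting involutions -/
theorem card_kleinFour_mul_six {G : Type*} [Group G] [Finite G] :
    Nat.card {V : Subgroup G // IsKleinFour V} * 6 =
      Nat.card {p : G × G // InvPair p.1 p.2} := by
  have key := Cfsg.Agent.S0828.double_count' (A := Subgroup G) (B := G × G)
    (fun V : Subgroup G => IsKleinFour V) (fun p : G × G => InvPair p.1 p.2)
    (fun V p => p.1 ∈ V ∧ p.2 ∈ V) 6 1 ?_ ?_
  · rw [key, mul_one]
  · intro V hV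
    rw [← kf_pairs_card V]
    apply Nat.card_congr
    refine
      { toFun := fun p => ⟨(⟨p.1.1, p.2.2.1⟩, ⟨p.1.2, p.2.2.2⟩), ?_⟩
        invFun := fun q => ⟨(q.1.1.1, q.1.2.1), ?_⟩
        left_inv := fun p => rfl
        right_inv := fun q => rfl }
    · obtain ⟨⟨h1, h2, h3, h4⟩, -, -⟩ := p.2
      refine ⟨fun e => ne_one_of_orderOf_two h1 (congrArg Subtype.val e),
        fun e => ne_one_of_orderOf_two h2 (congrArg Subtype.val e),
        fun e => h3 (congrArg Subtype.val e)⟩
    · obtain ⟨h1, h2, h3⟩ := q.2
      have hx1 : (q.1.1 : G) ≠ 1 := fun e => h1 (Subtype.ext e)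
      have hy1 : (q.1.2 : G) ≠ 1 := fun e => h2 (Subtype.ext e)
      have hx2 : (q.1.1 : G) * (q.1.1 : G) = 1 := congrArg Subtype.val (IsKleinFour.mul_self q.1.1)
      have hy2 : (q.1.2 : G) * (q.1.2 : G) = 1 := congrArg Subtype.val (IsKleinFour.mul_self q.1.2)
      have hc : (q.1.1 : G) * (q.1.2 : G) = (q.1.2 : G) * (q.1.1 : G) :=
        congrArg Subtype.val (mul_comm_of_exponent_two IsKleinFour.exponent_two q.1.1 q.1.2)
      exact ⟨⟨orderOf_two_of hx2 hx1, orderOf_two_of hy2 hy1, fun e => h3 (Subtype.ext e), hc⟩,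
        q.1.1.2, q.1.2.2⟩
  · intro p hp
    rw [Nat.card_eq_one_iff_unique]
    have huniq : ∀ V : Subgroup G, IsKleinFour V ∧ p.1 ∈ V ∧ p.2 ∈ V →
        V = pairSubgroup p.1 p.2 hp := by
      rintro V ⟨hV, h1, h2⟩
      symm
      have hVfin : Finite V := Nat.finite_of_card_ne_zero (by rw [hV.card_four]; norm_num)
      apply Subgroup.eq_of_le_of_card_ge
      · rintro g (rfl | rfl | rfl | rfl)
        · exact V.one_mem
        · exact h1
        · exact h2
        · exact V.mul_mem h1 h2
      · rw [card_pairSubgroup, hV.card_four]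
    constructor
    · constructor
      intro V W
      apply Subtype.ext
      rw [huniq V.1 V.2, huniq W.1 W.2]
    · refine ⟨⟨pairSubgroup p.1 p.2 hp, isKleinFour_pairSubgroup p.1 p.2 hp, ?_, ?_⟩⟩
      · right; left; rfl
      · right; right; left; rfl

end Cfsg.Agent.H18
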