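import Mathlib
import Cfsg.Agent.H18.KleinCount

/-!
helper18: conjugacy of Klein four-subgroups through conjugacy of pairs of commuting involutions.
-/

set_option autoImplicit false

namespace Cfsg.Agent.H18

/-- every Klein four-subgroup is the four-group of a pair of distinct commuting involutions -/
theorem exists_pair_of_kleinFour {G : Type*} [Group G] (V : Subgroup G) (hV : IsKleinFour V) :
    ∃ (x y : G) (h : InvPair x y), V = pairSubgroup x y h := by
  have h6 := kf_pairs_card V
  have hne : Nonempty {p : V × V // p.1 ≠ 1 ∧ p.2 ≠ 1 ∧ p.1 ≠ p.2} := by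
    by_contra hcon
    rw [not_nonempty_iff] at hcon
    rw [Nat.card_of_isEmpty] at h6
    omega
  obtain ⟨q, h1, h2, h3⟩ := hne
  have hx1 : (q.1 : G) ≠ 1 := fun e => h1 (Subtype.ext e)
  have hy1 : (q.2 : G) ≠ 1 := fun e => h2 (Subtype.ext e)
  have hx2 : (q.1 : G) * (q.1 : G) = 1 := congrArg Subtype.val (IsKleinFour.mul_self q.1)
  have hy2 : (q.2 : G) * (q.2 : G) = 1 := congrArg Subtype.val (IsKleinFour.mul_self q.2)
  have hc : (q.1 : G) * (q.2 : G) = (q.2 : G) * (q.1 : G) :=
    congrArg Subtype.val (mul_comm_of_exponent_two IsKleinFour.exponent_two q.1 q.2)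
  have hp : InvPair (q.1 : G) (q.2 : G) :=
    ⟨orderOf_two_of hx2 hx1, orderOf_two_of hy2 hy1, fun e => h3 (Subtype.ext e), hc⟩
  refine ⟨q.1, q.2, hp, ?_⟩
  symm
  have hVfin : Finite V := Nat.finite_of_card_ne_zero (by rw [hV.card_four]; norm_num)
  apply Subgroup.eq_of_le_of_card_ge
  · rintro g (rfl | rfl | rfl | rfl)
    · exact V.one_mem
    · exact q.1.2
    · exact q.2.2
    · exact V.mul_mem q.1.2 q.2.2
  · rw [card_pairSubgroup, hV.card_four]

theorem invPair_conj {G : Type*} [Group G] (g x y : G) (h : InvPair x y) :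
    InvPair (g * x * g⁻¹) (g * y * g⁻¹) := by
  obtain ⟨h1, h2, h3, h4⟩ := h
  refine ⟨?_, ?_, ?_, ?_⟩
  · rw [← MulAut.conj_apply, MulEquiv.orderOf_eq]; exact h1
  · rw [← MulAut.conj_apply, MulEquiv.orderOf_eq]; exact h2
  · intro e
    apply h3
    have := mul_right_cancel e
    exact mul_left_cancel this
  · calc g * x * g⁻¹ * (g * y * g⁻¹) = g * (x * y) * g⁻¹ := by group
      _ = g * (y * x) * g⁻¹ := by rw [h4]
      _ = g * y * g⁻¹ * (g * x * g⁻¹) := by group

theorem pairSubgroup_conj {G : Type*} [Group G] (g x y : G) (h : InvPair x y)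
    (h' : InvPair (g * x * g⁻¹) (g * y * g⁻¹)) :
    pairSubgroup (g * x * g⁻¹) (g * y * g⁻¹) h' =
      (pairSubgroup x y h).map (MulAut.conj g).toMonoidHom := by
  ext z
  rw [Subgroup.mem_map, mem_pairSubgroup]
  constructor
  · rintro (rfl | rfl | rfl | rfl)
    · exact ⟨1, Or.inl rfl, by simp⟩
    · exact ⟨x, Or.inr (Or.inl rfl), by simp [MulAut.conj_apply]⟩
    · exact ⟨y, Or.inr (Or.inr (Or.inl rfl)), by simp [MulAut.conj_apply]⟩
    · refine ⟨x * y, Or.inr (Or.inr (Or.inr rfl)), ?_⟩
      simp only [MulEquiv.toMonoidHom_eq_coe, MonoidHom.coe_coe, MulAut.conj_apply]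
      group
  · rintro ⟨w, (rfl | rfl | rfl | rfl), rfl⟩
    · left; simp
    · right; left; simp [MulAut.conj_apply]
    · right; right; left; simp [MulAut.conj_apply]
    · right; right; right
      simp only [MulEquiv.toMonoidHom_eq_coe, MonoidHom.coe_coe, MulAut.conj_apply]
      group

theorem isKleinFour_map_conj {G : Type*} [Group G] (V : Subgroup G) (hV : IsKleinFour V) (g : G) :
    IsKleinFour (V.map (MulAut.conj g).toMonoidHom) := by
  obtain ⟨x, y, h, rfl⟩ := exists_pair_of_kleinFour V hV
  rw [← pairSubgroup_conj g x y h (invPair_conj g x y h)]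
  exact isKleinFour_pairSubgroup _ _ _

theorem mem_normalizer_iff_map_conj {G : Type*} [Group G] (V : Subgroup G) (g : G) :
    g ∈ Subgroup.normalizer (V : Set G) ↔ V.map (MulAut.conj g).toMonoidHom = V := by
  rw [Subgroup.mem_set_normalizer_iff]
  constructor
  · intro hg
    ext z
    rw [Subgroup.mem_map]
    constructor
    · rintro ⟨w, hw, rfl⟩
      simp only [MulEquiv.toMonoidHom_eq_coe, MonoidHom.coe_coe, MulAut.conj_apply]
      exact (hg w).mp hw
    · intro hz
      refine ⟨g⁻¹ * z * g, ?_, ?_⟩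
      · have := (hg (g⁻¹ * z * g))
        apply this.mpr
        have e : g * (g⁻¹ * z * g) * g⁻¹ = z := by group
        rw [SetLike.mem_coe, e]
        exact hz
      · simp only [MulEquiv.toMonoidHom_eq_coe, MonoidHom.coe_coe, MulAut.conj_apply]
        group
  · intro hV n
    constructor
    · intro hn
      have : g * n * g⁻¹ ∈ V.map (MulAut.conj g).toMonoidHom :=
        Subgroup.mem_map.mpr ⟨n, hn, by simp [MulAut.conj_apply]⟩
      rw [hV] at this
      exact this
    · intro hn
      have hn' : g * n * g⁻¹ ∈ V := hn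
      rw [← hV] at hn'
      obtain ⟨w, hw, e⟩ := Subgroup.mem_map.mp hn'
      simp only [MulEquiv.toMonoidHom_eq_coe, MonoidHom.coe_coe, MulAut.conj_apply] at e
      have := mul_right_cancel e
      have := mul_left_cancel this
      rw [← this]
      exact hw

theorem card_orbit_mul_card_stabilizer' {G X : Type*} [Group G] [MulAction G X] (b : X) :
    Nat.card (MulAction.orbit G b) * Nat.card (MulAction.stabilizer G b) = Nat.card G := by
  rw [Nat.card_congr (MulAction.orbitEquivQuotientStabilizer G b)]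
  exact (Subgroup.card_eq_card_quotient_mul_card_subgroup _).symm

/-- orbit–stabiliser for the conjugates of a subgroup -/
theorem card_conj_mul_card_normalizer {G : Type*} [Group G] [Finite G] (V : Subgroup G) :
    Nat.card {W : Subgroup G // ∃ g : G, W = V.map (MulAut.conj g).toMonoidHom} *
      Nat.card (Subgroup.normalizer (V : Set G)) = Nat.card G := by
  classical
  let _ : MulAction G (Subgroup G) :=
    { smul := fun g W => W.map (MulAut.conj g).toMonoidHom
      one_smul := by
        intro W
        show W.map (MulAut.conj (1 : G)).toMonoidHom = W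
        rw [map_one]
        exact Subgroup.map_id W
      mul_smul := by
        intro a b W
        show W.map (MulAut.conj (a * b)).toMonoidHom =
          (W.map (MulAut.conj b).toMonoidHom).map (MulAut.conj a).toMonoidHom
        rw [Subgroup.map_map, map_mul]
        rfl }
  have hsmul : ∀ (g : G) (W : Subgroup G), g • W = W.map (MulAut.conj g).toMonoidHom :=
    fun g W => rfl
  have h := card_orbit_mul_card_stabilizer' (G := G) V
  have e1 : Nat.card (MulAction.stabilizer G V) = Nat.card (Subgroup.normalizer (V : Set G)) := by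
    apply Nat.card_congr
    apply Equiv.subtypeEquivRight
    intro g
    rw [MulAction.mem_stabilizer_iff, hsmul]
    exact (mem_normalizer_iff_map_conj V g).symm
  have e2 : Nat.card (MulAction.orbit G V) =
      Nat.card {W : Subgroup G // ∃ g : G, W = V.map (MulAut.conj g).toMonoidHom} := by
    apply Nat.card_congr
    apply Equiv.subtypeEquivRight
    intro W
    rw [MulAction.mem_orbit_iff]
    constructor
    · rintro ⟨g, rfl⟩; exact ⟨g, rfl⟩
    · rintro ⟨g, rfl⟩; exact ⟨g, rfl⟩
  rw [e1, e2] at h
  exact h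

/-- among three pairs with centralisers of order at most four, in a conjugation-stable family of
`|G|/2` pairs, two are conjugate -/
theorem conj_of_three_pairs {G : Type*} [Group G] [Finite G] (P : G × G → Prop)
    (hP : ∀ (g : G) (p : G × G), P p → P (g * p.1 * g⁻¹, g * p.2 * g⁻¹))
    (hcard : 2 * Nat.card {p : G × G // P p} = Nat.card G)
    (hstab : ∀ p : G × G, P p →
      Nat.card {c : G // c * p.1 = p.1 * c ∧ c * p.2 = p.2 * c} ≤ 4)
    (p1 p2 p3 : G × G) (h1 : P p1) (h2 : P p2) (h3 : P p3) :
    (∃ g : G, p2 = (g * p1.1 * g⁻¹, g * p1.2 * g⁻¹)) ∨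
    (∃ g : G, p3 = (g * p1.1 * g⁻¹, g * p1.2 * g⁻¹)) ∨
    (∃ g : G, p3 = (g * p2.1 * g⁻¹, g * p2.2 * g⁻¹)) := by
  classical
  have hact : ∀ (c : ConjAct G) (p : G × G),
      c • p = (ConjAct.ofConjAct c * p.1 * (ConjAct.ofConjAct c)⁻¹,
        ConjAct.ofConjAct c * p.2 * (ConjAct.ofConjAct c)⁻¹) := by
    intro c p
    rfl
  -- orbit sizes
  have horb : ∀ p : G × G, P p → Nat.card G ≤ 4 * (MulAction.orbit (ConjAct G) p).ncard := by
    intro p hp
    have h := card_orbit_mul_card_stabilizer' (G := ConjAct G) p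
    have e1 : Nat.card (MulAction.stabilizer (ConjAct G) p) =
        Nat.card {c : G // c * p.1 = p.1 * c ∧ c * p.2 = p.2 * c} := by
      apply Nat.card_congr
      refine Equiv.subtypeEquiv ConjAct.ofConjAct.toEquiv ?_
      intro c
      rw [MulAction.mem_stabilizer_iff, hact, Prod.ext_iff]
      simp only [MulEquiv.toEquiv_eq_coe, EquivLike.coe_coe]
      rw [mul_inv_eq_iff_eq_mul, mul_inv_eq_iff_eq_mul]
    have e2 : Nat.card (ConjAct G) = Nat.card G := rfl
    rw [e1, e2, Nat.card_coe_set_eq] at h
    have h4 := hstab p hp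
    calc Nat.card G = (MulAction.orbit (ConjAct G) p).ncard *
          Nat.card {c : G // c * p.1 = p.1 * c ∧ c * p.2 = p.2 * c} := h.symm
      _ ≤ (MulAction.orbit (ConjAct G) p).ncard * 4 := Nat.mul_le_mul_left _ h4
      _ = 4 * (MulAction.orbit (ConjAct G) p).ncard := mul_comm _ _
  have hsub : ∀ p : G × G, P p → MulAction.orbit (ConjAct G) p ⊆ {p : G × G | P p} := by
    rintro p hp _ ⟨c, rfl⟩
    show P (c • p)
    rw [hact]
    exact hP _ p hp
  have hmem : ∀ p p' : G × G, p' ∈ MulAction.orbit (ConjAct G) p →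
      ∃ g : G, p' = (g * p.1 * g⁻¹, g * p.2 * g⁻¹) := by
    rintro p _ ⟨c, rfl⟩
    exact ⟨ConjAct.ofConjAct c, hact c p⟩
  by_contra hcon
  rw [not_or, not_or] at hcon
  obtain ⟨n12, n13, n23⟩ := hcon
  have d12 : Disjoint (MulAction.orbit (ConjAct G) p1) (MulAction.orbit (ConjAct G) p2) := by
    rcases MulAction.orbit.eq_or_disjoint (G := ConjAct G) p1 p2 with h | h
    · exfalso
      apply n12
      apply hmem
      rw [h]
      exact MulAction.mem_orbit_self p2
    · exact h
  have d13 : Disjoint (MulAction.orbit (ConjAct G) p1) (MulAction.orbit (ConjAct G) p3) := by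
    rcases MulAction.orbit.eq_or_disjoint (G := ConjAct G) p1 p3 with h | h
    · exfalso
      apply n13
      apply hmem
      rw [h]
      exact MulAction.mem_orbit_self p3
    · exact h
  have d23 : Disjoint (MulAction.orbit (ConjAct G) p2) (MulAction.orbit (ConjAct G) p3) := by
    rcases MulAction.orbit.eq_or_disjoint (G := ConjAct G) p2 p3 with h | h
    · exfalso
      apply n23
      apply hmem
      rw [h]
      exact MulAction.mem_orbit_self p3
    · exact h
  have hfin : ∀ s : Set (G × G), s.Finite := fun s => Set.toFinite s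
  have hu1 := Set.ncard_union_eq d12 (hfin _) (hfin _)
  have d123 : Disjoint (MulAction.orbit (ConjAct G) p1 ∪ MulAction.orbit (ConjAct G) p2)
      (MulAction.orbit (ConjAct G) p3) := Disjoint.union_left d13 d23
  have hu2 := Set.ncard_union_eq d123 (hfin _) (hfin _)
  have hle : (MulAction.orbit (ConjAct G) p1 ∪ MulAction.orbit (ConjAct G) p2 ∪
      MulAction.orbit (ConjAct G) p3).ncard ≤ ({p : G × G | P p} : Set (G × G)).ncard := by
    apply Set.ncard_le_ncard _ (hfin _)
    exact Set.union_subset (Set.union_subset (hsub p1 h1) (hsub p2 h2)) (hsub p3 h3)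
  have hN : ({p : G × G | P p} : Set (G × G)).ncard = Nat.card {p : G × G // P p} := by
    rw [← Nat.card_coe_set_eq]
    rfl
  have o1 := horb p1 h1
  have o2 := horb p2 h2
  have o3 := horb p3 h3
  have hpos : 0 < Nat.card G := Nat.card_pos
  omega

end Cfsg.Agent.H18
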