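import Mathlib
import Cfsg.Agent.H91.L34Defs

/-!
# Pieces FUS1 and FUS2 of helper91's S5387 project (helper18)

The non-identity elements `[1,0,r; 0,1,s; 0,0,1]` (resp. `[1,p,r; 0,1,0; 0,0,1]`) of the
Heisenberg group are fused in `PSL₃(F)`.
-/

set_option autoImplicit false
set_option linter.unusedVariables false
set_option linter.unusedSimpArgs false
set_option linter.unnecessarySeqFocus false
set_option linter.unreachableTactic false
set_option linter.unusedTactic false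

namespace Cfsg.Agent.H18.L34

open Cfsg.Agent.H60 Matrix

universe u

variable {F : Type u} [Field F]

/-- Elements with `p = 0` are conjugate in `SL₃` to the central element `⟨0,0,1⟩`. -/
theorem fus1_aux (g : Heis F) (hp : g.p = 0) (hg : g ≠ 1) :
    ∃ M : Matrix.SpecialLinearGroup (Fin 3) F, M * heisSL (⟨0, 0, 1⟩ : Heis F) = heisSL g * M := by
  by_cases hr : g.r = 0
  · have hs : g.s ≠ 0 := by
      intro hs
      apply hg
      apply Heis.ext
      · exact hp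
      · exact hs
      · exact hr
    refine ⟨⟨!![0, -(g.s)⁻¹, 0; g.s, 0, 0; 0, 0, 1], ?_⟩, ?_⟩
    · rw [Matrix.det_fin_three]
      simp
      field_simp
    · apply Subtype.ext
      show !![0, -(g.s)⁻¹, 0; g.s, 0, 0; 0, 0, 1] * hmat (⟨0, 0, 1⟩ : Heis F) =
        hmat g * !![0, -(g.s)⁻¹, 0; g.s, 0, 0; 0, 0, 1]
      ext i j
      fin_cases i <;> fin_cases j <;>
        simp [hmat, Matrix.mul_apply, Fin.sum_univ_three, hp, hr]
  · refine ⟨⟨!![g.r, 0, 0; g.s, (g.r)⁻¹, 0; 0, 0, 1], ?_⟩, ?_⟩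
    · rw [Matrix.det_fin_three]
      simp
      field_simp
    · apply Subtype.ext
      show !![g.r, 0, 0; g.s, (g.r)⁻¹, 0; 0, 0, 1] * hmat (⟨0, 0, 1⟩ : Heis F) =
        hmat g * !![g.r, 0, 0; g.s, (g.r)⁻¹, 0; 0, 0, 1]
      ext i j
      fin_cases i <;> fin_cases j <;>
        simp [hmat, Matrix.mul_apply, Fin.sum_univ_three, hp, hr]

/-- Elements with `s = 0` are conjugate in `SL₃` to the central element `⟨0,0,1⟩`. -/
theorem fus2_aux (g : Heis F) (hs : g.s = 0) (hg : g ≠ 1) :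
    ∃ M : Matrix.SpecialLinearGroup (Fin 3) F, M * heisSL (⟨0, 0, 1⟩ : Heis F) = heisSL g * M := by
  by_cases hr : g.r = 0
  · have hp : g.p ≠ 0 := by
      intro hp
      apply hg
      apply Heis.ext
      · exact hp
      · exact hs
      · exact hr
    refine ⟨⟨!![1, 0, 0; 0, 0, (g.p)⁻¹; 0, -g.p, 0], ?_⟩, ?_⟩
    · rw [Matrix.det_fin_three]
      simp
      field_simp
    · apply Subtype.ext
      show !![1, 0, 0; 0, 0, (g.p)⁻¹; 0, -g.p, 0] * hmat (⟨0, 0, 1⟩ : Heis F) =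
        hmat g * !![1, 0, 0; 0, 0, (g.p)⁻¹; 0, -g.p, 0]
      ext i j
      fin_cases i <;> fin_cases j <;>
        simp [hmat, Matrix.mul_apply, Fin.sum_univ_three, hs, hr, hp]
  · refine ⟨⟨!![1, 0, 0; 0, g.r, 0; 0, -g.p, (g.r)⁻¹], ?_⟩, ?_⟩
    · rw [Matrix.det_fin_three]
      simp
      field_simp
    · apply Subtype.ext
      show !![1, 0, 0; 0, g.r, 0; 0, -g.p, (g.r)⁻¹] * hmat (⟨0, 0, 1⟩ : Heis F) =
        hmat g * !![1, 0, 0; 0, g.r, 0; 0, -g.p, (g.r)⁻¹]
      ext i j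
      fin_cases i <;> fin_cases j <;>
        simp [hmat, Matrix.mul_apply, Fin.sum_univ_three, hs, hr] <;> ring

/-- From `SL₃`-conjugacy to the common element to `PSL₃`-conjugacy. -/
theorem fus_of_aux (g g' : Heis F)
    (h : ∃ M : Matrix.SpecialLinearGroup (Fin 3) F,
      M * heisSL (⟨0, 0, 1⟩ : Heis F) = heisSL g * M)
    (h' : ∃ M : Matrix.SpecialLinearGroup (Fin 3) F,
      M * heisSL (⟨0, 0, 1⟩ : Heis F) = heisSL g' * M) :
    ∃ c : Matrix.ProjectiveSpecialLinearGroup (Fin 3) F,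
      c * heisPSL g * c⁻¹ = heisPSL g' := by
  obtain ⟨M, hM⟩ := h
  obtain ⟨M', hM'⟩ := h'
  refine ⟨QuotientGroup.mk' (Subgroup.center (Matrix.SpecialLinearGroup (Fin 3) F)) (M' * M⁻¹), ?_⟩
  show QuotientGroup.mk' (Subgroup.center (Matrix.SpecialLinearGroup (Fin 3) F)) (M' * M⁻¹) *
      QuotientGroup.mk' (Subgroup.center (Matrix.SpecialLinearGroup (Fin 3) F)) (heisSL g) *
      (QuotientGroup.mk' (Subgroup.center (Matrix.SpecialLinearGroup (Fin 3) F)) (M' * M⁻¹))⁻¹ =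
    QuotientGroup.mk' (Subgroup.center (Matrix.SpecialLinearGroup (Fin 3) F)) (heisSL g')
  rw [← map_inv, ← map_mul, ← map_mul]
  congr 1
  have e1 : heisSL g = M * heisSL (⟨0, 0, 1⟩ : Heis F) * M⁻¹ := by
    rw [hM]; group
  have e2 : heisSL g' = M' * heisSL (⟨0, 0, 1⟩ : Heis F) * M'⁻¹ := by
    rw [hM']; group
  rw [e1, e2]
  group

/-- Piece FUS1. -/
theorem fus1 : Cfsg.Agent.H91.L34.Fus1Stmt.{u} := by
  intro F _ g g' hp hp' hg hg'
  exact fus_of_aux g g' (fus1_aux g hp hg) (fus1_aux g' hp' hg')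

/-- Piece FUS2. -/
theorem fus2 : Cfsg.Agent.H91.L34.Fus2Stmt.{u} := by
  intro F _ g g' hs hs' hg hg'
  exact fus_of_aux g g' (fus2_aux g hs hg) (fus2_aux g' hs' hg')

end Cfsg.Agent.H18.L34
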