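import Mathlib
import Cfsg.Agent.H83.PCDefs
import Cfsg.Agent.H1.Gaschutz

/-!
# S3366 team project (helper83): piece PC-COMPL (helper18)

The complement `N` of `R` inside `C_X(t)`: `C = C_X(t)` maps onto `SL(2,3)` with central kernel
`K = C ∩ R`; `K` has the complement `⟨y⟩` in the preimage `U` of `⟨f y⟩` (of index 8), so by
Gaschütz's theorem `K` has a complement `H` in `C`; `N` is its image in `X`.
-/

set_option autoImplicit false

namespace Cfsg.Agent.H18.PC

open Cfsg.Agent.H83.PC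

universe u

set_option maxRecDepth 100000 in
theorem card_SL23 : Nat.card SL23 = 24 := by
  rw [Nat.card_eq_fintype_card]
  decide

/-- **PC-COMPL**. -/
theorem compl (hZC : StZC.{u}) (hCR : StCR.{u}) : StCompl.{u} := by
  intro X _ _ R f hyp t y hinv hyt hyR hy3
  have hyp' := hyp
  obtain ⟨hRn, hR27, hR3, hRna, hfs, hker, -, -, -⟩ := hyp'
  obtain ⟨htt, hft, hIZ⟩ := hinv
  have hmemR : ∀ x : X, x ∈ R ↔ f x = 1 := fun x => by rw [← hker, MonoidHom.mem_ker]
  -- `f t = -1` is central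
  have hftc : ∀ g : SL23, f t * g = g * f t := by
    intro g
    apply Subtype.ext
    rw [Matrix.SpecialLinearGroup.coe_mul, Matrix.SpecialLinearGroup.coe_mul, hft, neg_one_mul,
      mul_neg_one]
  have ht1 : t ≠ 1 := by
    intro h
    rw [h, map_one] at hft
    have h1 := congrFun (congrFun hft 0) 0
    simp at h1
    exact absurd h1 (by decide)
  have cube : ∀ r ∈ R, r * r * r = 1 := by
    intro r hr
    rw [← hR3 r hr, pow_succ, pow_two]
  -- elements of `R` commuting with `t` are central in `X`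
  have hcent : ∀ z : X, z ∈ R → t * z = z * t → ∀ x : X, x * z = z * x := by
    intro z hz hzt x
    have h1 := hIZ z hz
    have h2 : t * z * t⁻¹ * z = z * z := by
      rw [hzt, mul_assoc z t, mul_inv_cancel, mul_one]
    rw [h2] at h1
    have h4 : z = (z * z) * (z * z) := by
      calc z = (z * z * z) * z := by rw [cube z hz, one_mul]
        _ = (z * z) * (z * z) := by simp only [mul_assoc]
    have hZ : IsZ R z := by
      refine ⟨hz, fun s hs => ?_⟩
      have h5 := h1.2 s hs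
      calc z * s = (z * z) * (z * z) * s := by rw [← h4]
        _ = (z * z) * ((z * z) * s) := by simp only [mul_assoc]
        _ = (z * z) * (s * (z * z)) := by rw [h5]
        _ = ((z * z) * s) * (z * z) := by simp only [mul_assoc]
        _ = (s * (z * z)) * (z * z) := by rw [h5]
        _ = s * ((z * z) * (z * z)) := by simp only [mul_assoc]
        _ = s * z := by rw [← h4]
    exact hZC X R f hyp x z hZ
  -- the centralizer of `t`
  obtain ⟨C, hCdef⟩ : ∃ C : Subgroup X, C = Subgroup.centralizer ({t} : Set X) := ⟨_, rfl⟩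
  have hC : ∀ c : X, c ∈ C ↔ t * c = c * t := by
    intro c
    rw [hCdef, Subgroup.mem_centralizer_iff]
    simp
  obtain ⟨fC, hfC⟩ : ∃ fC : ↥C →* SL23, ∀ c : ↥C, fC c = f (c : X) :=
    ⟨f.comp C.subtype, fun _ => rfl⟩
  -- `X = R C`: the restriction is onto
  have hfCs : Function.Surjective fC := by
    intro g
    obtain ⟨x, hx⟩ := hfs g
    obtain ⟨r', hr'⟩ : ∃ r' : X, r' = t⁻¹ * (x * t * x⁻¹) := ⟨_, rfl⟩
    have hr'R : r' ∈ R := by
      rw [hmemR, hr', map_mul, map_mul, map_mul, map_inv, map_inv, ← hftc (f x)]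
      group
    have hxt : x * t * x⁻¹ = t * r' := by
      rw [hr']
      group
    have h1 : t * r' * (t * r') = 1 := by
      rw [← hxt]
      calc x * t * x⁻¹ * (x * t * x⁻¹) = x * (t * t) * x⁻¹ := by group
        _ = 1 := by rw [htt]; group
    have h2 : t * r' * t = r'⁻¹ := by
      have h3 : t * r' * t * r' = 1 := by
        rw [← h1]
        group
      exact eq_inv_of_mul_eq_one_left h3
    have h4 : r'⁻¹ * r'⁻¹ = r' := by
      calc r'⁻¹ * r'⁻¹ = r'⁻¹ * r'⁻¹ * (r' * r' * r') := by rw [cube r' hr'R, mul_one]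
        _ = r' := by group
    have h3 : r' * t * r'⁻¹ = t * r' := by
      calc r' * t * r'⁻¹ = (t * t) * r' * t * r'⁻¹ := by rw [htt, one_mul]
        _ = t * (t * r' * t) * r'⁻¹ := by group
        _ = t * r'⁻¹ * r'⁻¹ := by rw [h2]
        _ = t * (r'⁻¹ * r'⁻¹) := by rw [mul_assoc]
        _ = t * r' := by rw [h4]
    have hc : r'⁻¹ * x ∈ C := by
      rw [hC]
      have h5 : x * t * x⁻¹ = r' * t * r'⁻¹ := by rw [hxt, h3]
      calc t * (r'⁻¹ * x) = r'⁻¹ * (r' * t * r'⁻¹) * x := by group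
        _ = r'⁻¹ * (x * t * x⁻¹) * x := by rw [h5]
        _ = r'⁻¹ * x * t := by group
    refine ⟨⟨r'⁻¹ * x, hc⟩, ?_⟩
    rw [hfC]
    show f (r'⁻¹ * x) = g
    rw [map_mul, map_inv, (hmemR r').mp hr'R, inv_one, one_mul, hx]
  -- the kernel is central
  have hKR : ∀ k : ↥C, k ∈ fC.ker → (k : X) ∈ R := by
    intro k hk
    rw [hmemR, ← hfC]
    exact MonoidHom.mem_ker.mp hk
  have hKc : ∀ k : ↥C, k ∈ fC.ker → ∀ x : X, x * (k : X) = (k : X) * x := by
    intro k hk x
    exact hcent k (hKR k hk) ((hC k).mp k.2) x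
  have hKcomm : IsMulCommutative (fC.ker) :=
    ⟨⟨fun a b => Subtype.ext (Subtype.ext (hKc b.1 b.2 (a : ↥C)))⟩⟩
  have hKp : IsPGroup 3 (fC.ker) := by
    intro k
    refine ⟨1, ?_⟩
    rw [pow_one]
    apply Subtype.ext
    apply Subtype.ext
    have h1 := hR3 _ (hKR k.1 k.2)
    simpa using h1
  -- `y` as an element of `C`
  have hyC : y ∈ C := (hC y).mpr hyt.symm
  obtain ⟨yC, hyCdef⟩ : ∃ yC : ↥C, yC = ⟨y, hyC⟩ := ⟨_, rfl⟩
  have hfyC : fC yC = f y := by rw [hfC, hyCdef]
  have hyC3 : yC ^ 3 = 1 := by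
    rw [hyCdef]
    apply Subtype.ext
    simpa using hy3
  have hfy1 : f y ≠ 1 := fun h => hyR ((hmemR y).mpr h)
  have hfy3 : f y ^ 3 = 1 := by rw [← map_pow, hy3, map_one]
  have hord : orderOf (f y) = 3 := orderOf_eq_prime hfy3 hfy1
  -- the subgroup `U`
  obtain ⟨U, hUdef⟩ : ∃ U : Subgroup ↥C, U = (Subgroup.zpowers (f y)).comap fC := ⟨_, rfl⟩
  have hKU : fC.ker ≤ U := by
    rw [hUdef]
    exact MonoidHom.ker_le_comap fC _
  have hUidx : U.index = 8 := by
    rw [hUdef, Subgroup.index_comap_of_surjective _ hfCs]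
    have h1 := Subgroup.card_mul_index (Subgroup.zpowers (f y))
    rw [Nat.card_zpowers, hord, card_SL23] at h1
    omega
  have hcop : (Nat.card (fC.ker)).Coprime U.index := by
    obtain ⟨m, hm⟩ := IsPGroup.iff_card.mp hKp
    rw [hm, hUidx]
    exact Nat.Coprime.pow_left m (by norm_num)
  obtain ⟨A, hAdef⟩ : ∃ A : Subgroup ↥C, A = Subgroup.zpowers yC := ⟨_, rfl⟩
  have hAU : A ≤ U := by
    rw [hAdef, Subgroup.zpowers_le, hUdef, Subgroup.mem_comap, hfyC]
    exact Subgroup.mem_zpowers (f y)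
  have hAK : A ⊓ fC.ker = ⊥ := by
    rw [eq_bot_iff]
    rintro x ⟨hxA, hxK⟩
    rw [hAdef] at hxA
    obtain ⟨i, rfl⟩ := Subgroup.mem_zpowers_iff.mp hxA
    have h1 : fC (yC ^ i) = 1 := MonoidHom.mem_ker.mp hxK
    rw [map_zpow, hfyC] at h1
    have h2 := (orderOf_dvd_iff_zpow_eq_one).mpr h1
    rw [hord] at h2
    obtain ⟨j, hj⟩ := h2
    rw [Subgroup.mem_bot, hj]
    have h3 : yC ^ ((3 : ℕ) : ℤ) = 1 := by
      rw [zpow_natCast]
      exact hyC3
    rw [zpow_mul, h3, one_zpow]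
  have hKA : fC.ker ⊔ A = U := by
    apply le_antisymm (sup_le hKU hAU)
    intro u hu
    rw [hUdef, Subgroup.mem_comap] at hu
    obtain ⟨i, hi⟩ := Subgroup.mem_zpowers_iff.mp hu
    have h1 : u * yC ^ (-i) ∈ fC.ker := by
      rw [MonoidHom.mem_ker, map_mul, map_zpow, hfyC, ← hi, ← zpow_add, add_neg_cancel, zpow_zero]
    have h2 : yC ^ i ∈ A := by
      rw [hAdef]
      exact Subgroup.zpow_mem_zpowers yC i
    have h3 : u = u * yC ^ (-i) * yC ^ i := by
      rw [mul_assoc, ← zpow_add, neg_add_cancel, zpow_zero, mul_one]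
    rw [h3]
    exact Subgroup.mul_mem_sup h1 h2
  -- Gaschütz
  obtain ⟨H, hH⟩ := Cfsg.Agent.H1.gaschutz_exists (fC.ker) U hKU hcop A hAU hAK hKA
  have hHd : ∀ x : ↥C, x ∈ fC.ker → x ∈ H → x = 1 := by
    intro x hxK hxH
    exact Subgroup.disjoint_def.mp hH.disjoint hxK hxH
  have hcardC : Nat.card (fC.ker) * 24 = Nat.card ↥C := by
    have h1 := Subgroup.card_mul_index (fC.ker)
    rw [Subgroup.index_ker, MonoidHom.range_eq_top.mpr hfCs, Subgroup.card_top, card_SL23] at h1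
    exact h1
  have hH24 : Nat.card H = 24 := by
    have h1 := hH.card_mul_card
    rw [← hcardC] at h1
    have hpos : 0 < Nat.card (fC.ker) := Nat.card_pos
    exact Nat.eq_of_mul_eq_mul_left hpos h1
  -- the complement
  obtain ⟨N, hNdef⟩ : ∃ N : Subgroup X, N = H.map C.subtype := ⟨_, rfl⟩
  have hNmem : ∀ n : X, n ∈ N ↔ ∃ h : ↥C, h ∈ H ∧ (h : X) = n := by
    intro n
    rw [hNdef, Subgroup.mem_map]
    rfl
  have hN24 : Nat.card N = 24 := by
    rw [hNdef, Subgroup.card_map_of_injective (Subgroup.subtype_injective C), hH24]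
  have hRN : R ⊓ N = ⊥ := by
    rw [eq_bot_iff]
    rintro x ⟨hxR, hxN⟩
    obtain ⟨h, hh, rfl⟩ := (hNmem x).mp hxN
    have h1 : h ∈ fC.ker := by
      rw [MonoidHom.mem_ker, hfC]
      exact (hmemR _).mp hxR
    rw [hHd h h1 hh]
    exact Subgroup.one_mem _
  have hX : Nat.card X = 648 := by
    have h1 := Subgroup.card_mul_index f.ker
    rw [Subgroup.index_ker, MonoidHom.range_eq_top.mpr hfs, Subgroup.card_top, card_SL23, hker,
      hR27] at h1
    omega
  have htN : t ∈ N := by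
    obtain ⟨tC, htC⟩ : ∃ tC : ↥C, tC = ⟨t, (hC t).mpr rfl⟩ := ⟨_, rfl⟩
    have htop : tC ∈ ((fC.ker ⊔ H : Subgroup ↥C) : Set ↥C) := by
      rw [hH.sup_eq_top]
      trivial
    rw [Subgroup.normal_mul] at htop
    obtain ⟨k, hk, h, hh, hkh⟩ := htop
    have hkh' : k * h = tC := hkh
    have hkc : ∀ c : ↥C, c * k = k * c := fun c => Subtype.ext (hKc k hk c)
    have htC2 : tC * tC = 1 := by
      rw [htC]
      exact Subtype.ext htt
    have h1 : (k * k) * (h * h) = 1 := by
      rw [← htC2, ← hkh']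
      calc k * k * (h * h) = k * (k * h) * h := by simp only [mul_assoc]
        _ = k * (h * k) * h := by rw [hkc h]
        _ = k * h * (k * h) := by simp only [mul_assoc]
    have h2 : k * k = 1 := by
      apply hHd (k * k) (Subgroup.mul_mem _ hk hk)
      have h3 : k * k = (h * h)⁻¹ := eq_inv_of_mul_eq_one_left h1
      rw [h3]
      exact Subgroup.inv_mem _ (Subgroup.mul_mem _ hh hh)
    have h3 : k * k * k = 1 := by
      apply Subtype.ext
      exact cube _ (hKR k hk)
    have hk1 : k = 1 := by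
      rw [h2, one_mul] at h3
      exact h3
    rw [hk1, one_mul] at hkh'
    rw [hNmem]
    refine ⟨tC, ?_, ?_⟩
    · rw [← hkh']
      exact hh
    · rw [htC]
  refine ⟨N, hRn, hR27, hR3, hRna, hN24, hRN, hX, htN, ht1, htt, ?_, hIZ, ?_, ?_⟩
  · intro n hn
    obtain ⟨h, -, rfl⟩ := (hNmem n).mp hn
    exact ((hC h).mp h.2).symm
  · intro n _ z hz
    exact hZC X R f hyp n z hz
  · intro n hn hcen
    have h1 : n ∈ R ⊓ N := ⟨hCR X R f hyp n hcen, hn⟩
    rw [hRN] at h1
    exact (Subgroup.mem_bot).mp h1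

example (hZC : Cfsg.Agent.H83.PC.StZC.{u}) (hCR : Cfsg.Agent.H83.PC.StCR.{u}) :
    Cfsg.Agent.H83.PC.StCompl.{u} := Cfsg.Agent.H18.PC.compl hZC hCR

end Cfsg.Agent.H18.PC
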