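import Mathlib
import Cfsg.Agent.H17.PmDefs

/-!
`S2140-TRDUAL` (helper17's team project): every additive subgroup of prime index of a finite
vector space contains a hyperplane; for `Yc c` the hyperplane is `{y | y w = 0}`.
-/

set_option autoImplicit false

namespace Cfsg.Agent.H18.Pm

open Cfsg Cfsg.Geo Cfsg.Agent.H17.Mn Cfsg.Agent.H17.Pm
open scoped MatrixGroups Matrix

/-- An additive subgroup of prime index of a finite vector space over a finite field contains
the kernel of a nonzero linear functional. -/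
theorem exists_functional_of_prime_index {F : Type*} [Field F] [Fintype F] {Y : Type*}
    [AddCommGroup Y] [Module F Y] [Finite Y] (A : AddSubgroup Y) (hA : A.index.Prime) :
    ∃ f : Y →ₗ[F] F, f ≠ 0 ∧ ∀ y, f y = 0 → y ∈ A := by
  classical
  obtain ⟨p, hp⟩ := CharP.exists F
  have hpr : Fact p.Prime := ⟨CharP.char_is_prime F p⟩
  let _ : Algebra (ZMod p) F := ZMod.algebra F p
  let _ : Fintype Y := Fintype.ofFinite Y
  let W : Submodule F Y :=
    { carrier := {θ | ∀ a : F, a • θ ∈ A}
      add_mem' := by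
        intro x y hx hy a
        rw [smul_add]
        exact A.add_mem (hx a) (hy a)
      zero_mem' := by
        intro a
        rw [smul_zero]
        exact A.zero_mem
      smul_mem' := by
        intro c x hx a
        rw [smul_smul]
        exact hx (a * c) }
  have hWmem : ∀ θ, θ ∈ W ↔ ∀ a : F, a • θ ∈ A := fun θ => Iff.rfl
  have hWA : ∀ θ ∈ W, θ ∈ A := by
    intro θ h
    have := h 1
    rwa [one_smul] at this
  have hWtop : W ≠ ⊤ := by
    intro h
    have h1 : A = ⊤ := by
      rw [eq_top_iff]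
      intro θ _
      exact hWA θ (by rw [h]; exact Submodule.mem_top)
    rw [h1, AddSubgroup.index_top] at hA
    exact Nat.not_prime_one hA
  -- cardinalities
  have hcardF : Fintype.card F = p ^ Module.finrank (ZMod p) F := by
    rw [Module.card_eq_pow_finrank (K := ZMod p) (V := F), ZMod.card]
  have hcardY : Fintype.card Y = Fintype.card F ^ Module.finrank F Y :=
    Module.card_eq_pow_finrank (K := F) (V := Y)
  have hAp : A.index = p := by
    have h1 : A.index ∣ Nat.card Y := A.index_dvd_card
    rw [Nat.card_eq_fintype_card, hcardY, hcardF, ← pow_mul] at h1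
    exact (Nat.prime_dvd_prime_iff_eq hA hpr.out).mp (hA.dvd_of_dvd_pow h1)
  -- the subgroups `{θ | a • θ ∈ A}`
  obtain ⟨Aa, hAa⟩ : ∃ Aa : F → AddSubgroup Y,
      Aa = fun a => A.comap (DistribSMul.toAddMonoidHom Y a) := ⟨_, rfl⟩
  have hAamem : ∀ a θ, θ ∈ Aa a ↔ a • θ ∈ A := by
    intro a θ
    rw [hAa]
    rfl
  have hidx : ∀ a : F, a ≠ 0 → (Aa a).index = p := by
    intro a ha
    rw [hAa, ← hAp]
    apply AddSubgroup.index_comap_of_surjective
    intro y
    refine ⟨a⁻¹ • y, ?_⟩
    show a • a⁻¹ • y = y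
    rw [smul_smul, mul_inv_cancel₀ ha, one_smul]
  obtain ⟨b, hb⟩ : ∃ b : Module.Basis (Fin (Module.finrank (ZMod p) F)) (ZMod p) F,
      b = Module.finBasis (ZMod p) F := ⟨_, rfl⟩
  have hWeq : W.toAddSubgroup = ⨅ i, Aa (b i) := by
    ext θ
    rw [AddSubgroup.mem_iInf]
    constructor
    · intro h i
      rw [hAamem]
      exact h (b i)
    · intro h a
      rw [← b.sum_repr a, Finset.sum_smul]
      apply AddSubgroup.sum_mem
      intro i _
      rw [← ZMod.natCast_zmod_val (b.repr a i), Nat.cast_smul_eq_nsmul, smul_assoc]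
      exact A.nsmul_mem ((hAamem _ _).mp (h i)) _
  have hidxW : W.toAddSubgroup.index ≤ Fintype.card F := by
    rw [hWeq, hcardF]
    refine (AddSubgroup.index_iInf_le _).trans ?_
    rw [Finset.prod_congr rfl (fun i _ => hidx (b i) (b.ne_zero i)), Finset.prod_const,
      Finset.card_univ, Fintype.card_fin]
  -- dimension count
  have hq : 1 < Fintype.card F := Fintype.one_lt_card
  have hcardW : Nat.card ↥W = Fintype.card F ^ Module.finrank F ↥W := by
    rw [Nat.card_eq_fintype_card]
    exact Module.card_eq_pow_finrank (K := F) (V := ↥W)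
  have hmul : Nat.card ↥W * W.toAddSubgroup.index = Nat.card Y :=
    W.toAddSubgroup.card_mul_index
  have hdim : Module.finrank F Y ≤ Module.finrank F ↥W + 1 := by
    rw [← Nat.pow_le_pow_iff_right hq]
    calc Fintype.card F ^ Module.finrank F Y = Nat.card Y := by
          rw [Nat.card_eq_fintype_card, hcardY]
      _ = Nat.card ↥W * W.toAddSubgroup.index := hmul.symm
      _ ≤ Fintype.card F ^ Module.finrank F ↥W * Fintype.card F := by
          rw [hcardW]
          exact Nat.mul_le_mul_left _ hidxW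
      _ = Fintype.card F ^ (Module.finrank F ↥W + 1) := (pow_succ _ _).symm
  obtain ⟨f, hf0, hWf⟩ := Submodule.exists_le_ker_of_lt_top W (lt_top_iff_ne_top.mpr hWtop)
  have hker : W = LinearMap.ker f := by
    apply Submodule.eq_of_le_of_finrank_le hWf
    have h1 := LinearMap.finrank_range_add_finrank_ker f
    have h2 : 0 < Module.finrank F ↥(LinearMap.range f) := by
      rw [Module.finrank_pos_iff]
      by_contra hc
      rw [not_nontrivial_iff_subsingleton, Submodule.subsingleton_iff_eq_bot,
        LinearMap.range_eq_bot] at hc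
      exact hf0 hc
    omega
  refine ⟨f, hf0, fun y hy => hWA y ?_⟩
  rw [hker]
  exact LinearMap.mem_ker.mpr hy

variable {ι : Type} [Fintype ι] [DecidableEq ι] {F : Type*} [Field F]

theorem exists_hyperplane_le [Fintype F] (c : ι → F) (hc : c ≠ 0) (A : AddSubgroup ↥(Yc c))
    (hA : A.index.Prime) :
    ∃ w : ι → F, w ∉ Submodule.span F {c} ∧ ∀ y : ↥(Yc c), y.1 w = 0 → y ∈ A := by
  classical
  have hfin : Finite ((ι → F) →ₗ[F] F) := Module.finite_of_finite F
  have : Finite ↥(Yc c) := Finite.of_injective (fun y : ↥(Yc c) => (y : (ι → F) →ₗ[F] F))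
    Subtype.val_injective
  obtain ⟨f, hf0, hf⟩ := exists_functional_of_prime_index (F := F) A hA
  obtain ⟨g, hg⟩ := LinearMap.exists_extend f
  obtain ⟨w, hw⟩ : ∃ w : ι → F, ∀ φ : (ι → F) →ₗ[F] F, g φ = φ w := by
    refine ⟨(Module.evalEquiv F (ι → F)).symm g, fun φ => ?_⟩
    have h1 : Module.evalEquiv F (ι → F) ((Module.evalEquiv F (ι → F)).symm g) = g :=
      LinearEquiv.apply_symm_apply _ _
    conv_lhs => rw [← h1]
    rfl
  have hfy : ∀ y : ↥(Yc c), f y = y.1 w := by
    intro y
    rw [← hw, ← hg]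
    rfl
  refine ⟨w, ?_, fun y hy => hf y ((hfy y).trans hy)⟩
  intro hmem
  obtain ⟨a, rfl⟩ := Submodule.mem_span_singleton.mp hmem
  apply hf0
  ext y
  rw [hfy, map_smul, (mem_Yc c y.1).mp y.2, smul_zero, LinearMap.zero_apply]

end Cfsg.Agent.H18.Pm
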