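import Cfsg.Agent.H7.PsDefs

/-!
# PS-F2 (helper7, S3664): an involution of `Sp₆(3)` commuting with an element of order 13 is `±1`
-/

set_option autoImplicit false

namespace Cfsg.Agent.H18.Ps

open Cfsg.Agent.H7.Ps Matrix

/-- **PS-F2**. -/
theorem f2 (h1 : StF1) : StF2 := by
  intro B T hB hT hB13 hBne hTB hTT
  have h3 : (3 : Mat) = 0 := by
    have h : ((3 : ℕ) : Mat) = 0 := CharP.cast_eq_zero Mat 3
    exact_mod_cast h
  obtain ⟨J, hJ⟩ : ∃ J : Mat, J = Matrix.J (Fin 3) (ZMod 3) := ⟨_, rfl⟩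
  have hBJ : B * J * Bᵀ = J := by rw [hJ]; exact SymplecticGroup.mem_iff.mp hB
  have hTJ : T * J * Tᵀ = J := by rw [hJ]; exact SymplecticGroup.mem_iff.mp hT
  have hJt : Jᵀ = -J := by rw [hJ]; exact Matrix.J_transpose _ _
  have hTJ' : T * J = J * Tᵀ := by
    have h : T * (T * J * Tᵀ) = T * J := by rw [hTJ]
    rw [← Matrix.mul_assoc, ← Matrix.mul_assoc, hTT, Matrix.one_mul] at h
    exact h.symm
  obtain ⟨P, hP⟩ : ∃ P : Mat, P = -1 - T := ⟨_, rfl⟩
  obtain ⟨Q, hQ⟩ : ∃ Q : Mat, Q = T - 1 := ⟨_, rfl⟩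
  have hPQ1 : P + Q = 1 := by
    have h111 : (1 : Mat) + 1 + 1 = 0 := by
      have h : (3 : Mat) = 1 + 1 + 1 := by norm_num
      rw [← h]; exact h3
    have h : P + Q = 1 - (1 + 1 + 1) := by rw [hP, hQ]; abel
    rw [h, h111, sub_zero]
  have hPQ : P * Q = 0 := by
    rw [hP, hQ]
    have h : (-1 - T) * (T - 1) = 1 - T * T := by noncomm_ring
    rw [h, hTT, sub_self]
  have hQP : Q * P = 0 := by
    rw [hP, hQ]
    have h : (T - 1) * (-1 - T) = 1 - T * T := by noncomm_ring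
    rw [h, hTT, sub_self]
  have hPP : P * P = P := by
    have h := congrArg (fun X => P * X) hPQ1
    simp only [mul_add, mul_one, hPQ, add_zero] at h
    exact h
  have hQQ : Q * Q = Q := by
    have h := congrArg (fun X => Q * X) hPQ1
    simp only [mul_add, mul_one, hQP, zero_add] at h
    exact h
  have hPB : B * P = P * B := by
    rw [hP, sub_mul, mul_sub, neg_one_mul, mul_neg_one, hTB]
  have hQB : B * Q = Q * B := by
    rw [hQ, sub_mul, mul_sub, one_mul, mul_one, hTB]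
  have hPJ : P * J = J * Pᵀ := by
    rw [hP, transpose_sub, transpose_neg, transpose_one, sub_mul, mul_sub, neg_one_mul,
      mul_neg_one, hTJ']
  have hQJ : Q * J = J * Qᵀ := by
    rw [hQ, transpose_sub, transpose_one, sub_mul, mul_sub, one_mul, mul_one, hTJ']
  -- the auxiliary element
  have ht2 : P * B * J * Qᵀ = 0 := by
    rw [Matrix.mul_assoc (P * B) J, ← hQJ, ← Matrix.mul_assoc, Matrix.mul_assoc P B Q, hQB,
      ← Matrix.mul_assoc P Q, hPQ, Matrix.zero_mul, Matrix.zero_mul]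
  have ht3 : Q * J * Bᵀ * Pᵀ = 0 := by
    have h := congrArg transpose ht2
    rw [transpose_mul, transpose_mul, transpose_mul, transpose_transpose, transpose_zero, hJt]
      at h
    have h' : Q * J * Bᵀ * Pᵀ = -(Q * (-J * (Bᵀ * Pᵀ))) := by noncomm_ring
    rw [h', h, neg_zero]
  have hB1 : P * B + Q ∈ Sp := by
    rw [SymplecticGroup.mem_iff, ← hJ, transpose_add, transpose_mul]
    have e : (P * B + Q) * J * (Bᵀ * Pᵀ + Qᵀ) =
        P * (B * J * Bᵀ) * Pᵀ + P * B * J * Qᵀ + Q * J * Bᵀ * Pᵀ + Q * J * Qᵀ := by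
      noncomm_ring
    rw [e, hBJ, ht2, ht3, add_zero, add_zero, Matrix.mul_assoc P J, ← hPJ, ← Matrix.mul_assoc,
      hPP, Matrix.mul_assoc Q J, ← hQJ, ← Matrix.mul_assoc, hQQ, ← Matrix.add_mul, hPQ1,
      Matrix.one_mul]
  have hcP : Commute B P := hPB
  have hcQ : Commute B Q := hQB
  have hpow : ∀ n : ℕ, (P * B + Q) ^ (n + 1) = P * B ^ (n + 1) + Q := by
    intro n
    induction n with
    | zero => simp
    | succ n ih =>
      rw [pow_succ, ih, pow_succ B (n + 1)]
      have hc1 : B ^ (n + 1) * P = P * B ^ (n + 1) := (hcP.pow_left (n + 1)).eq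
      have hc2 : B ^ (n + 1) * Q = Q * B ^ (n + 1) := (hcQ.pow_left (n + 1)).eq
      have e : (P * B ^ (n + 1) + Q) * (P * B + Q) =
          P * (B ^ (n + 1) * P) * B + P * (B ^ (n + 1) * Q) + Q * P * B + Q * Q := by
        noncomm_ring
      rw [e, hc1, hc2, hQP, hQQ, ← Matrix.mul_assoc P P, hPP, ← Matrix.mul_assoc P Q, hPQ,
        Matrix.zero_mul, Matrix.zero_mul, add_zero, add_zero, Matrix.mul_assoc]
  have hB1pow : (P * B + Q) ^ 13 = 1 := by
    rw [hpow 12, hB13, Matrix.mul_one, hPQ1]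
  have hB1Q : (P * B + Q) * Q = Q := by
    rw [Matrix.add_mul, hQQ, Matrix.mul_assoc, hQB, ← Matrix.mul_assoc, hPQ, Matrix.zero_mul,
      zero_add]
  by_cases hQ0 : Q = 0
  · left
    rw [hQ] at hQ0
    exact sub_eq_zero.mp hQ0
  · right
    have hw : ∃ w : Fin 3 ⊕ Fin 3 → ZMod 3, Q.mulVec w ≠ 0 := by
      by_contra hcon
      push Not at hcon
      apply hQ0
      have h : Matrix.toLin' Q = 0 := LinearMap.ext fun w => by
        rw [Matrix.toLin'_apply, hcon w]; rfl
      exact (LinearEquiv.map_eq_zero_iff Matrix.toLin').mp h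
    obtain ⟨w, hw⟩ := hw
    have hB1one : P * B + Q = 1 := by
      by_contra hne
      apply hw
      apply h1 (P * B + Q) hB1 hB1pow hne
      rw [Matrix.mulVec_mulVec, hB1Q]
    have hPB1 : P * (B - 1) = 0 := by
      rw [mul_sub, mul_one, sub_eq_zero]
      have h : P * B + Q = P + Q := by rw [hB1one, hPQ1]
      exact add_right_cancel h
    have hinj : Function.Injective (B - 1).mulVec := by
      intro v v' h
      have h' : (B - 1).mulVec (v - v') = 0 := by rw [Matrix.mulVec_sub, h, sub_self]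
      rw [Matrix.sub_mulVec, Matrix.one_mulVec, sub_eq_zero] at h'
      exact sub_eq_zero.mp (h1 B hB hB13 hBne (v - v') h')
    have hu : IsUnit (B - 1) := Matrix.mulVec_injective_iff_isUnit.mp hinj
    have hP0 : P = 0 := (IsUnit.mul_left_eq_zero hu).mp hPB1
    rw [hP] at hP0
    have h : (-1 : Mat) = T := sub_eq_zero.mp hP0
    exact h.symm

example : Cfsg.Agent.H7.Ps.StF1 → Cfsg.Agent.H7.Ps.StF2 := Cfsg.Agent.H18.Ps.f2

end Cfsg.Agent.H18.Ps
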