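import Cfsg.Agent.H52.SnDefs

/-!
# SN-FINA (helper52, S2942): `O ≤ Q` and `KC` is normal in a normal subgroup `R` of `X`
-/

set_option autoImplicit false

namespace Cfsg.Agent.H18.Sn

open Cfsg.Agent.H52.Sn

open scoped commutatorElement Pointwise

universe u

/-- **SN-FINA**. -/
theorem finA : StFinA.{u} := by
  intro X _ _ T C Q M J K O hT hTodd hCn hQn hMn hTCQ hJM hM hKgen hKJ hOK hO
  have hker : ∀ g : X, QuotientGroup.mk' C g = 1 ↔ g ∈ C := fun g => QuotientGroup.eq_one_iff g
  obtain ⟨π, hπ⟩ : ∃ π : X →* X ⧸ C, π = QuotientGroup.mk' C := ⟨_, rfl⟩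
  rw [← hπ] at hker
  -- K ≤ M
  have hKM : K ≤ M := by
    rw [← hKJ]
    exact (Subgroup.commutator_mono (le_refl K) hJM).trans (Subgroup.commutator_le_right K M)
  -- the odd elements of M
  obtain ⟨S', hS'⟩ : ∃ S' : Set X, S' = {x : X | x ∈ M ∧ Odd (orderOf x)} := ⟨_, rfl⟩
  obtain ⟨D, hD⟩ : ∃ D : Subgroup X, D = Subgroup.closure S' := ⟨_, rfl⟩
  have hgenc : ∀ x ∈ S', ∀ y ∈ S', Commute (π x) (π y) := by
    intro x hx y hy
    rw [hS'] at hx hy
    have h := (hker _).mpr (hM x hx.1 y hy.1 hx.2 hy.2)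
    rw [map_mul, map_mul, map_mul, map_inv, map_inv] at h
    have h5 := mul_inv_eq_one.mp h
    exact mul_inv_eq_iff_eq_mul.mp h5
  have hc1 : ∀ s ∈ S', ∀ d ∈ D, Commute (π s) (π d) := by
    intro s hs d hd
    rw [hD] at hd
    induction hd using Subgroup.closure_induction with
    | mem y hy => exact hgenc s hs y hy
    | one => rw [map_one]; exact Commute.one_right _
    | mul a b _ _ iha ihb => rw [map_mul]; exact iha.mul_right ihb
    | inv a _ iha => rw [map_inv]; exact iha.inv_right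
  have hDcomm : ∀ d₁ ∈ D, ∀ d₂ ∈ D, Commute (π d₁) (π d₂) := by
    intro d₁ hd₁ d₂ hd₂
    rw [hD] at hd₁
    induction hd₁ using Subgroup.closure_induction with
    | mem y hy => exact hc1 y hy d₂ hd₂
    | one => rw [map_one]; exact Commute.one_left _
    | mul a b _ _ iha ihb => rw [map_mul]; exact iha.mul_left ihb
    | inv a _ iha => rw [map_inv]; exact iha.inv_left
  have hodd : ∀ d ∈ D, ∃ m : ℕ, Odd m ∧ π d ^ m = 1 := by
    intro d hd
    have hd' := hd
    rw [hD] at hd'
    induction hd' using Subgroup.closure_induction with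
    | mem y hy =>
      rw [hS'] at hy
      exact ⟨orderOf y, hy.2, by rw [← map_pow, pow_orderOf_eq_one, map_one]⟩
    | one => exact ⟨1, odd_one, by rw [map_one, pow_one]⟩
    | mul a b ha hb iha ihb =>
      have haD : a ∈ D := by rw [hD]; exact ha
      have hbD : b ∈ D := by rw [hD]; exact hb
      obtain ⟨m, hm, e⟩ := iha haD
      obtain ⟨n, hn, f⟩ := ihb hbD
      refine ⟨m * n, hm.mul hn, ?_⟩
      rw [map_mul, (hDcomm a haD b hbD).mul_pow, pow_mul, e, one_pow, mul_comm m n, pow_mul, f,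
        one_pow, one_mul]
    | inv a ha iha =>
      have haD : a ∈ D := by rw [hD]; exact ha
      obtain ⟨m, hm, e⟩ := iha haD
      exact ⟨m, hm, by rw [map_inv, inv_pow, e, inv_one]⟩
  -- K ≤ D
  have hKD : K ≤ D := by
    rw [← hKgen, hD]
    apply Subgroup.closure_mono
    intro g hg
    rw [hS']
    exact ⟨hKM hg.1, hg.2⟩
  -- O ≤ C
  have hOC : O ≤ C := by
    intro o ho
    apply (hker o).mp
    obtain ⟨m, hm, e⟩ := hodd o (hKD (hOK ho))
    obtain ⟨k, hk⟩ := hO ⟨o, ho⟩
    have hk' : o ^ 2 ^ k = 1 := by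
      have h := congrArg Subtype.val hk
      simpa using h
    have h1 : orderOf (π o) ∣ m := orderOf_dvd_of_pow_eq_one e
    have h2 : orderOf (π o) ∣ 2 ^ k := orderOf_dvd_of_pow_eq_one (by rw [← map_pow, hk', map_one])
    obtain ⟨j, _, hj'⟩ := (Nat.dvd_prime_pow Nat.prime_two).mp h2
    rcases j with _ | j
    · rw [pow_zero] at hj'
      exact orderOf_eq_one_iff.mp hj'
    · exfalso
      have h3 : 2 ∣ m := by
        refine dvd_trans ?_ h1
        rw [hj', pow_succ]
        exact dvd_mul_left 2 _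
      exact (Nat.not_even_iff_odd.mpr hm) (even_iff_two_dvd.mpr h3)
  refine ⟨?_, ?_⟩
  · -- O ≤ Q
    have hp2 : Fact (Nat.Prime 2) := ⟨Nat.prime_two⟩
    have hT2 : ¬ 2 ∣ T.index := fun h =>
      (Nat.not_even_iff_odd.mpr hTodd) (even_iff_two_dvd.mpr h)
    obtain ⟨P', hOP'⟩ := hO.exists_le_sylow
    obtain ⟨g, hg⟩ := MulAction.exists_smul_eq X (hT.toSylow hT2) P'
    intro o ho
    have h1 : o ∈ (P' : Subgroup X) := hOP' ho
    rw [← hg, Sylow.coe_subgroup_smul, Subgroup.mem_pointwise_smul_iff_inv_smul_mem,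
      MulAut.smul_def, ← map_inv, MulAut.conj_apply, inv_inv] at h1
    have h2 : g⁻¹ * o * g ∈ T := (IsPGroup.mem_toSylow hT hT2).mp h1
    have h3 : g⁻¹ * o * g ∈ C := by
      have h := hCn.conj_mem o (hOC ho) g⁻¹
      rw [inv_inv] at h
      exact h
    have h4 : g⁻¹ * o * g ∈ Q := hTCQ ⟨h2, h3⟩
    have h5 := hQn.conj_mem _ h4 g
    have e : g * (g⁻¹ * o * g) * g⁻¹ = o := by group
    rw [e] at h5
    exact h5
  · -- the subgroup R
    have hDn : D.Normal := by
      constructor
      intro d hd g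
      have hd' := hd
      rw [hD] at hd'
      induction hd' using Subgroup.closure_induction with
      | mem y hy =>
        rw [hD]
        apply Subgroup.subset_closure
        rw [hS'] at hy ⊢
        refine ⟨hMn.conj_mem y hy.1 g, ?_⟩
        have h : orderOf (g * y * g⁻¹) = orderOf y := by
          have := MulEquiv.orderOf_eq (MulAut.conj g) y
          rwa [MulAut.conj_apply] at this
        rw [h]; exact hy.2
      | one =>
        have e : g * 1 * g⁻¹ = (1 : X) := by group
        rw [e]; exact D.one_mem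
      | mul a b ha hb iha ihb =>
        have haD : a ∈ D := by rw [hD]; exact ha
        have hbD : b ∈ D := by rw [hD]; exact hb
        have e : g * (a * b) * g⁻¹ = (g * a * g⁻¹) * (g * b * g⁻¹) := by group
        rw [e]; exact D.mul_mem (iha haD) (ihb hbD)
      | inv a ha iha =>
        have haD : a ∈ D := by rw [hD]; exact ha
        have e : g * a⁻¹ * g⁻¹ = (g * a * g⁻¹)⁻¹ := by group
        rw [e]; exact D.inv_mem (iha haD)
    have hRn : (C ⊔ D).Normal := inferInstance
    -- every element of R is congruent mod C to an element of D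
    have hR : ∀ r ∈ C ⊔ D, ∃ d ∈ D, π d = π r := by
      have hle : C ⊔ D ≤ (D.map π).comap π := by
        apply sup_le
        · intro c hc
          rw [Subgroup.mem_comap, (hker c).mpr hc]
          exact Subgroup.one_mem _
        · exact Subgroup.le_comap_map π D
      intro r hr
      exact Subgroup.mem_map.mp (Subgroup.mem_comap.mp (hle hr))
    have hRcomm : ∀ r₁ ∈ C ⊔ D, ∀ r₂ ∈ C ⊔ D, Commute (π r₁) (π r₂) := by
      intro r₁ hr₁ r₂ hr₂
      obtain ⟨d₁, hd₁, e₁⟩ := hR r₁ hr₁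
      obtain ⟨d₂, hd₂, e₂⟩ := hR r₂ hr₂
      rw [← e₁, ← e₂]
      exact hDcomm d₁ hd₁ d₂ hd₂
    have hKCR : K ⊔ C ≤ C ⊔ D := sup_le (hKD.trans le_sup_right) le_sup_left
    have hfwd : ∀ r ∈ C ⊔ D, ∀ w ∈ K ⊔ C, r * w * r⁻¹ ∈ K ⊔ C := by
      intro r hr w hw
      have hc : ⁅r, w⁆ ∈ C := by
        apply (hker _).mp
        have h := (hRcomm r hr w (hKCR hw)).eq
        rw [commutatorElement_def, map_mul, map_mul, map_mul, map_inv, map_inv, h]
        group
      have e : r * w * r⁻¹ = ⁅r, w⁆ * w := by rw [commutatorElement_def]; group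
      rw [e]
      exact (K ⊔ C).mul_mem ((le_sup_right : C ≤ K ⊔ C) hc) hw
    refine ⟨C ⊔ D, hRn, hKCR, ?_⟩
    intro r hr
    rw [Subgroup.mem_normalizer_iff]
    intro w
    constructor
    · intro hw
      exact hfwd r hr w hw
    · intro hw
      have h := hfwd r⁻¹ ((C ⊔ D).inv_mem hr) _ hw
      have e : r⁻¹ * (r * w * r⁻¹) * r⁻¹⁻¹ = w := by group
      rw [e] at h
      exact h

example : Cfsg.Agent.H52.Sn.StFinA.{u} := Cfsg.Agent.H18.Sn.finA

end Cfsg.Agent.H18.Sn
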