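import Cfsg.Agent.H52.SnDefs

/-!
# SN-FINB (helper52, S2942): `[K, C] ≤ Q`
-/

set_option autoImplicit false

namespace Cfsg.Agent.H18.Sn

open Cfsg.Agent.H52.Sn

open scoped commutatorElement

universe u

/-- if `a` inverts `x`, `x ^ 3 = 1`, and `a` commutes with `c` and with `x c x⁻¹`, then `x`
commutes with `c`. -/
theorem comm_of_inverted {Y : Type*} [Group Y] (x c a : Y) (h1 : c * a = a * c)
    (h2 : x * c * x⁻¹ * a = a * (x * c * x⁻¹)) (h3 : a * x * a⁻¹ = x⁻¹) (h4 : x ^ 3 = 1) :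
    x * c = c * x := by
  have e1 : a * x = x⁻¹ * a := by
    calc a * x = (a * x * a⁻¹) * a := by group
      _ = x⁻¹ * a := by rw [h3]
  have h3' : a * x⁻¹ * a⁻¹ = x := by
    have h := congrArg (fun z => z⁻¹) h3
    simp only [mul_inv_rev, inv_inv] at h
    rw [mul_assoc]; exact h
  have e2 : a * x⁻¹ = x * a := by
    calc a * x⁻¹ = (a * x⁻¹ * a⁻¹) * a := by group
      _ = x * a := by rw [h3']
  have e3 : x * c * x⁻¹ = x⁻¹ * c * x := by
    have h : x * c * x⁻¹ * a = x⁻¹ * c * x * a := by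
      calc x * c * x⁻¹ * a = a * (x * c * x⁻¹) := h2
        _ = (a * x) * c * x⁻¹ := by group
        _ = x⁻¹ * (a * c) * x⁻¹ := by rw [e1]; group
        _ = x⁻¹ * c * (a * x⁻¹) := by rw [← h1]; group
        _ = x⁻¹ * c * x * a := by rw [e2]; group
    exact mul_right_cancel h
  have hx2 : x⁻¹ = x * x := by
    have h : x * (x * x) = 1 := by rw [← h4]; simp [pow_succ, mul_assoc]
    exact inv_eq_of_mul_eq_one_right h
  have e4 : x * x * c = c * (x * x) := by
    calc x * x * c = x * (x * c * x⁻¹) * x := by group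
      _ = x * (x⁻¹ * c * x) * x := by rw [e3]
      _ = c * (x * x) := by group
  rw [← hx2] at e4
  calc x * c = x * (c * x⁻¹) * x := by group
    _ = x * (x⁻¹ * c) * x := by rw [e4]
    _ = c * x := by group

/-- **SN-FINB**. -/
theorem finB : StFinB.{u} := by
  intro X _ _ T C Q J K O hCn hQn hTCQ hCNT hJT hKJ hOK hOQ hidx
  have hJK : ∀ a ∈ J, ∀ k ∈ K, a * k * a⁻¹ ∈ K := by
    intro a ha k hk
    have h1 : ⁅k⁻¹, a⁆ ∈ ⁅K, J⁆ := Subgroup.commutator_mem_commutator (K.inv_mem hk) ha
    rw [hKJ] at h1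
    have h2 : a * k * a⁻¹ = k * ⁅k⁻¹, a⁆ := by rw [commutatorElement_def]; group
    rw [h2]; exact K.mul_mem hk h1
  have hker : ∀ g : X, QuotientGroup.mk' Q g = 1 ↔ g ∈ Q := fun g => QuotientGroup.eq_one_iff g
  obtain ⟨π, hπ⟩ : ∃ π : X →* X ⧸ Q, π = QuotientGroup.mk' Q := ⟨_, rfl⟩
  rw [← hπ] at hker
  have hπker : π.ker = Q := by rw [hπ]; exact QuotientGroup.ker_mk' Q
  have hCa : ∀ c ∈ C, ∀ a ∈ J, π c * π a = π a * π c := by
    intro c hc a ha
    have hT : c * a * c⁻¹ ∈ T := (Subgroup.mem_normalizer_iff.mp (hCNT hc) a).mp (hJT ha)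
    have h1 : ⁅c, a⁆ ∈ T := by
      rw [commutatorElement_def]; exact T.mul_mem hT (T.inv_mem (hJT ha))
    have h2 : ⁅c, a⁆ ∈ C := by
      rw [commutatorElement_def]
      have e : c * a * c⁻¹ * a⁻¹ = c * (a * c⁻¹ * a⁻¹) := by group
      rw [e]; exact C.mul_mem hc (hCn.conj_mem c⁻¹ (C.inv_mem hc) a)
    have h3 : ⁅c, a⁆ ∈ Q := hTCQ ⟨h1, h2⟩
    have h4 : π ⁅c, a⁆ = 1 := (hker _).mpr h3
    rw [commutatorElement_def, map_mul, map_mul, map_mul, map_inv, map_inv] at h4
    have h5 := mul_inv_eq_one.mp h4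
    exact mul_inv_eq_iff_eq_mul.mp h5
  suffices hmain : ∀ k ∈ K, ∀ c ∈ C, π k * π c = π c * π k by
    rw [Subgroup.commutator_le]
    intro k hk c hc
    apply (hker _).mp
    rw [commutatorElement_def, map_mul, map_mul, map_mul, map_inv, map_inv, hmain k hk c hc]
    group
  by_cases hKQ : K ≤ Q
  · intro k hk c hc
    rw [(hker k).mpr (hKQ hk), one_mul, mul_one]
  · have hcard : Nat.card (K.map π) ∣ 3 := by
      rw [← Subgroup.relIndex_ker K π, hπker, ← hidx]
      exact Subgroup.relIndex_dvd_of_le_left K hOQ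
    have hcard3 : Nat.card (K.map π) = 3 := by
      rcases (Nat.dvd_prime Nat.prime_three).mp hcard with h | h
      · exfalso
        apply hKQ
        have hbot : K.map π = ⊥ := Subgroup.eq_bot_of_card_eq _ h
        intro k hk
        apply (hker k).mp
        have hm : π k ∈ K.map π := Subgroup.mem_map_of_mem π hk
        rw [hbot] at hm
        exact Subgroup.mem_bot.mp hm
      · exact h
    have hex : ∃ x ∈ K, ∃ a ∈ J, ⁅x, a⁆ ∉ Q := by
      by_contra hcon
      push Not at hcon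
      apply hKQ
      rw [← hKJ, Subgroup.commutator_le]
      exact hcon
    obtain ⟨x, hx, a, ha, hxa⟩ := hex
    have hxQ : π x ≠ 1 := by
      intro h
      apply hxa
      have hxQ' := (hker x).mp h
      rw [commutatorElement_def]
      have e : x * a * x⁻¹ * a⁻¹ = x * (a * x⁻¹ * a⁻¹) := by group
      rw [e]; exact Q.mul_mem hxQ' (hQn.conj_mem x⁻¹ (Q.inv_mem hxQ') a)
    have hp3 : Fact (Nat.Prime 3) := ⟨Nat.prime_three⟩
    have hfin : Finite ↥(K.map π) := Nat.finite_of_card_ne_zero (by rw [hcard3]; norm_num)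
    obtain ⟨xb, hxb⟩ : ∃ xb : ↥(K.map π), (xb : X ⧸ Q) = π x :=
      ⟨⟨π x, Subgroup.mem_map_of_mem π hx⟩, rfl⟩
    have hxb1 : xb ≠ 1 := by
      intro h
      apply hxQ
      rw [← hxb, h]; rfl
    have htop := zpowers_eq_top_of_prime_card hcard3 hxb1
    have hgen : ∀ k ∈ K, ∃ n : ℕ, π k = π x ^ n := by
      intro k hk
      have hm : (⟨π k, Subgroup.mem_map_of_mem π hk⟩ : ↥(K.map π)) ∈ Subgroup.zpowers xb := by
        rw [htop]; exact Subgroup.mem_top _
      rw [← mem_powers_iff_mem_zpowers] at hm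
      obtain ⟨n, hn⟩ := hm
      refine ⟨n, ?_⟩
      have h := congrArg Subtype.val hn
      simp only [Subgroup.coe_pow] at h
      rw [hxb] at h
      exact h.symm
    have hx3 : π x ^ 3 = 1 := by
      have h : xb ^ Nat.card ↥(K.map π) = 1 := pow_card_eq_one'
      rw [hcard3] at h
      have h' := congrArg Subtype.val h
      simp only [Subgroup.coe_pow, Subgroup.coe_one] at h'
      rw [hxb] at h'
      exact h'
    have hinv : π a * π x * (π a)⁻¹ = (π x)⁻¹ := by
      obtain ⟨n, hn⟩ := hgen (a * x * a⁻¹) (hJK a ha x hx)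
      rw [map_mul, map_mul, map_inv] at hn
      have hn' : π a * π x * (π a)⁻¹ = π x ^ (n % 3) := by
        rw [hn]
        conv_lhs => rw [← Nat.div_add_mod n 3, pow_add, pow_mul, hx3, one_pow, one_mul]
      have hcases : n % 3 = 0 ∨ n % 3 = 1 ∨ n % 3 = 2 := by omega
      rcases hcases with h | h | h
      · exfalso
        apply hxQ
        rw [h, pow_zero] at hn'
        exact conj_eq_one_iff.mp hn'
      · exfalso
        apply hxa
        apply (hker _).mp
        rw [h, pow_one] at hn'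
        have e : π x * π a = π a * π x := (mul_inv_eq_iff_eq_mul.mp hn').symm
        rw [commutatorElement_def, map_mul, map_mul, map_mul, map_inv, map_inv, e]
        group
      · rw [hn', h]
        apply eq_inv_of_mul_eq_one_left
        rw [← pow_succ]
        exact hx3
    have hxc : ∀ c ∈ C, π x * π c = π c * π x := by
      intro c hc
      have h1 := hCa (x * c * x⁻¹) (hCn.conj_mem c hc x) a ha
      have h2 := hCa c hc a ha
      rw [map_mul, map_mul, map_inv] at h1
      exact comm_of_inverted (π x) (π c) (π a) h2 h1 hinv hx3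
    intro k hk c hc
    obtain ⟨n, hn⟩ := hgen k hk
    rw [hn]
    exact ((Commute.pow_left (hxc c hc) n)).eq

example : Cfsg.Agent.H52.Sn.StFinB.{u} := Cfsg.Agent.H18.Sn.finB

end Cfsg.Agent.H18.Sn
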