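import Mathlib
import Cfsg.Agent.H97.SpRDefs

/-!
# S2281-MOD (helper18, for helper97)

An additive group `K` of `n × n` matrices (`n ≥ 3`) stable under `S ↦ g S gᵀ`, `g ∈ SL_n(F)`,
containing a suitable nonzero symmetric matrix contains all symmetric (resp. alternating)
matrices.
-/

set_option autoImplicit false

namespace Cfsg.Agent.H18.SpR

open Matrix Cfsg.Agent.H97.SpR

variable {F : Type*} [Field F]

/-- Entries of `T Y Tᵀ` for `T = 1 + c E_ij`. -/
theorem conj_transv_apply {n : ℕ} (i j : Fin n) (c : F) (Y : Matrix (Fin n) (Fin n) F)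
    (a b : Fin n) :
    ((1 + Matrix.single i j c : Matrix (Fin n) (Fin n) F) * Y *
        (1 + Matrix.single i j c : Matrix (Fin n) (Fin n) F)ᵀ) a b =
      Y a b + (if a = i then c * Y j b else 0) + (if b = i then c * Y a j else 0) +
        (if a = i ∧ b = i then c * c * Y j j else 0) := by
  have h1 : ∀ (M : Matrix (Fin n) (Fin n) F) (a b : Fin n),
      (Matrix.single i j c * M) a b = if a = i then c * M j b else 0 := by
    intro M a b
    by_cases h : a = i
    · subst h; simp
    · simp [h]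
  have h2 : ∀ (M : Matrix (Fin n) (Fin n) F) (a b : Fin n),
      (M * Matrix.single j i c) a b = if b = i then M a j * c else 0 := by
    intro M a b
    by_cases h : b = i
    · subst h; simp
    · simp [h]
  rw [Matrix.transpose_add, Matrix.transpose_one, Matrix.transpose_single, add_mul, one_mul,
    mul_add, mul_one, Matrix.add_apply, Matrix.add_apply, h2, h1, Matrix.add_apply, h1]
  by_cases ha : a = i <;> by_cases hb : b = i <;> simp [ha, hb] <;> ring

/-- A symmetric matrix is its diagonal plus a sum of `A_ij`'s. -/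
theorem sym_decomp {n : ℕ} (S : Matrix (Fin n) (Fin n) F) (hS : Sᵀ = S) :
    S = Matrix.diagonal (fun i => S i i) +
      ∑ i, ∑ j, (Matrix.single i j (if i < j then S i j else 0) +
        Matrix.single j i (if i < j then S i j else 0)) := by
  have hU : ∑ i, ∑ j, (Matrix.single i j (if i < j then S i j else 0) +
      Matrix.single j i (if i < j then S i j else 0)) =
      (Matrix.of fun i j => if i < j then S i j else 0) +
        (Matrix.of fun i j => if i < j then S i j else 0)ᵀ := by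
    simp only [Finset.sum_add_distrib]
    congr 1
    · exact (Matrix.matrix_eq_sum_single (Matrix.of fun i j => if i < j then S i j else 0)).symm
    · rw [Finset.sum_comm]
      exact (Matrix.matrix_eq_sum_single
        ((Matrix.of fun i j => if i < j then S i j else 0)ᵀ)).symm
  rw [hU]
  ext a b
  have hab : S b a = S a b := congrFun (congrFun hS a) b
  simp only [Matrix.add_apply, Matrix.diagonal_apply, Matrix.of_apply, Matrix.transpose_apply]
  rcases lt_trichotomy a b with h | h | h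
  · simp [h, h.ne, not_lt.mpr h.le]
  · subst h; simp
  · simp [h, h.ne', not_lt.mpr h.le, hab]

section

variable {n : ℕ} (K : AddSubgroup (Matrix (Fin n) (Fin n) F))
  (hK : ∀ (g : Matrix.SpecialLinearGroup (Fin n) F) (S : Matrix (Fin n) (Fin n) F), S ∈ K →
    (g : Matrix (Fin n) (Fin n) F) * S * (g : Matrix (Fin n) (Fin n) F)ᵀ ∈ K)

include hK

/-- `T Y Tᵀ - Y ∈ K` for a transvection `T = 1 + c E_ij`. -/
theorem dlt_mem {i j : Fin n} (hij : i ≠ j) (c : F) (Y : Matrix (Fin n) (Fin n) F) (hY : Y ∈ K) :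
    (Matrix.of fun a b => (if a = i then c * Y j b else 0) + (if b = i then c * Y a j else 0) +
        (if a = i ∧ b = i then c * c * Y j j else 0) : Matrix (Fin n) (Fin n) F) ∈ K := by
  have h := K.sub_mem (hK (Matrix.SpecialLinearGroup.transvection hij c) Y hY) hY
  convert h using 1
  ext a b
  rw [Matrix.sub_apply]
  show _ = ((1 + Matrix.single i j c : Matrix (Fin n) (Fin n) F) * Y *
    (1 + Matrix.single i j c : Matrix (Fin n) (Fin n) F)ᵀ) a b - Y a b
  rw [conj_transv_apply]
  simp only [Matrix.of_apply]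
  ring

/-- From `A_ik(t)` to `A_ij(t)`. -/
theorem pair_move {i j k : Fin n} (hij : i ≠ j) (hik : i ≠ k) (hjk : j ≠ k) (t : F)
    (h : Matrix.single i k t + Matrix.single k i t ∈ K) :
    Matrix.single i j t + Matrix.single j i t ∈ K := by
  have h1 := dlt_mem K hK hjk 1 _ h
  convert h1 using 1
  ext a b
  simp only [Matrix.add_apply, Matrix.single_apply, Matrix.of_apply]
  grind

/-- One pair gives all pairs. -/
theorem all_pairs {p q : Fin n} (hpq : p ≠ q)
    (h : ∀ t : F, Matrix.single p q t + Matrix.single q p t ∈ K) :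
    ∀ (p' q' : Fin n) (t : F), p' ≠ q' → Matrix.single p' q' t + Matrix.single q' p' t ∈ K := by
  have step1 : ∀ (q' : Fin n) (t : F), q' ≠ p →
      Matrix.single p q' t + Matrix.single q' p t ∈ K := by
    intro q' t hq'
    by_cases hq : q' = q
    · subst hq; exact h t
    · exact pair_move K hK (Ne.symm hq') hpq hq t (h t)
  have step2 : ∀ (p' q' : Fin n) (t : F), p' ≠ q' → q' ≠ p →
      Matrix.single p' q' t + Matrix.single q' p' t ∈ K := by
    intro p' q' t hp'q' hq'
    by_cases hp : p' = p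
    · subst hp; exact step1 q' t hq'
    · have h1 : Matrix.single q' p t + Matrix.single p q' t ∈ K := by
        rw [add_comm]; exact step1 q' t hq'
      have h2 := pair_move K hK (Ne.symm hp'q') hq' hp t h1
      rw [add_comm]; exact h2
  intro p' q' t hp'q'
  by_cases hq : q' = p
  · subst hq
    rw [add_comm]
    exact step1 p' t hp'q'
  · exact step2 p' q' t hp'q' hq

omit hK in
/-- Given all `A_pq(t)`, a symmetric matrix is in `K` iff its diagonal part is. -/
theorem sym_mem_iff
    (hA : ∀ (p q : Fin n) (t : F), p ≠ q → Matrix.single p q t + Matrix.single q p t ∈ K)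
    (S : Matrix (Fin n) (Fin n) F) (hS : Sᵀ = S) :
    S ∈ K ↔ Matrix.diagonal (fun i => S i i) ∈ K := by
  have hsum : ∑ i, ∑ j, (Matrix.single i j (if i < j then S i j else 0) +
      Matrix.single j i (if i < j then S i j else 0)) ∈ K := by
    refine K.sum_mem fun i _ => K.sum_mem fun j _ => ?_
    by_cases h : i < j
    · exact hA i j _ h.ne
    · simp [h]
  have e := sym_decomp S hS
  constructor
  · intro h
    have : Matrix.diagonal (fun i => S i i) = S - ∑ i, ∑ j,
        (Matrix.single i j (if i < j then S i j else 0) +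
          Matrix.single j i (if i < j then S i j else 0)) := eq_sub_of_add_eq e.symm
    rw [this]
    exact K.sub_mem h hsum
  · intro h
    rw [e]
    exact K.add_mem h hsum

/-- The diagonal step: `c² X_jj E_ii ∈ K`. -/
theorem diag_step [Fintype F]
    (hA : ∀ (p q : Fin n) (t : F), p ≠ q → Matrix.single p q t + Matrix.single q p t ∈ K)
    (X : Matrix (Fin n) (Fin n) F) (hX : X ∈ K) (hXs : Xᵀ = X) (j : Fin n) (hj : X j j ≠ 0) :
    ∀ (i : Fin n) (t : F), i ≠ j → Matrix.single i i t ∈ K := by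
  intro i t hij
  have hD := (sym_mem_iff K hA X hXs).1 hX
  have key : ∀ c : F, Matrix.single i i (c * c * X j j) ∈ K := by
    intro c
    have h1 := dlt_mem K hK hij c _ hD
    have h2 := K.sub_mem h1 (hA i j (c * X j j) hij)
    convert h2 using 1
    ext a b
    simp only [Matrix.sub_apply, Matrix.add_apply, Matrix.single_apply, Matrix.of_apply,
      Matrix.diagonal_apply]
    grind
  obtain ⟨a, b, hab⟩ := Cfsg.Agent.H45.sum_two_squares (t / X j j)
  have e : t = a * a * X j j + b * b * X j j := by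
    have : t = (a ^ 2 + b ^ 2) * X j j := by rw [hab, div_mul_cancel₀ _ hj]
    rw [this]; ring
  rw [e, Matrix.single_add]
  exact K.add_mem (key a) (key b)

end

theorem exists_third_index (m : ℕ) (i j : Fin (m + 3)) : ∃ k : Fin (m + 3), k ≠ i ∧ k ≠ j := by
  by_cases h0 : (i : ℕ) ≠ 0 ∧ (j : ℕ) ≠ 0
  · exact ⟨⟨0, by omega⟩, fun h => h0.1 (by rw [← h]), fun h => h0.2 (by rw [← h])⟩
  · by_cases h1 : (i : ℕ) ≠ 1 ∧ (j : ℕ) ≠ 1
    · exact ⟨⟨1, by omega⟩, fun h => h1.1 (by rw [← h]), fun h => h1.2 (by rw [← h])⟩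
    · refine ⟨⟨2, by omega⟩, fun h => ?_, fun h => ?_⟩
      · have : (i : ℕ) = 2 := by rw [← h]
        omega
      · have : (j : ℕ) = 2 := by rw [← h]
        omega

/-- S2281-MOD, part 1. -/
theorem sym_full [Fintype F] (m : ℕ) (K : AddSubgroup (Matrix (Fin (m + 3)) (Fin (m + 3)) F))
    (hK : ∀ (g : Matrix.SpecialLinearGroup (Fin (m + 3)) F)
      (S : Matrix (Fin (m + 3)) (Fin (m + 3)) F), S ∈ K →
      (g : Matrix (Fin (m + 3)) (Fin (m + 3)) F) * S *
        (g : Matrix (Fin (m + 3)) (Fin (m + 3)) F)ᵀ ∈ K)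
    (X : Matrix (Fin (m + 3)) (Fin (m + 3)) F) (hX : X ∈ K) (hXs : Xᵀ = X)
    (j : Fin (m + 3)) (hj : X j j ≠ 0) :
    ∀ S : Matrix (Fin (m + 3)) (Fin (m + 3)) F, Sᵀ = S → S ∈ K := by
  obtain ⟨i, hij, -⟩ := exists_third_index m j j
  obtain ⟨k, hki, hkj⟩ := exists_third_index m i j
  -- one pair
  have hpair : ∀ t : F, Matrix.single i k t + Matrix.single k i t ∈ K := by
    intro t
    have h1 := dlt_mem K hK hij 1 X hX
    have h2 := dlt_mem K hK hkj (t / X j j) _ h1
    convert h2 using 1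
    ext a b
    have e : t = t / X j j * X j j := (div_mul_cancel₀ _ hj).symm
    simp only [Matrix.add_apply, Matrix.single_apply, Matrix.of_apply]
    grind
  have hA := all_pairs K hK (Ne.symm hki) hpair
  have hd1 := diag_step K hK hA X hX hXs j hj
  have hXi : Matrix.single i i (1 : F) ∈ K := hd1 i 1 hij
  have hd2 := diag_step K hK hA (Matrix.single i i (1 : F)) hXi (Matrix.transpose_single _ _ _) i
    (by simp)
  have hdiag : ∀ (a : Fin (m + 3)) (t : F), Matrix.single a a t ∈ K := by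
    intro a t
    by_cases h : a = i
    · subst h
      exact hd1 a t hij
    · exact hd2 a t h
  intro S hS
  rw [sym_mem_iff K hA S hS]
  have e : Matrix.diagonal (fun a => S a a) = ∑ a, Matrix.single a a (S a a) := by
    ext a b
    rw [Matrix.sum_apply, Fintype.sum_eq_single a]
    · by_cases h : a = b <;> simp [h]
    · intro x hx
      simp [hx]
  rw [e]
  exact K.sum_mem fun a _ => hdiag a _

/-- A nonzero matrix with zero diagonal has a nonzero off-diagonal entry. -/
theorem exists_offdiag {n : ℕ} (X : Matrix (Fin n) (Fin n) F) (hX0 : X ≠ 0)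
    (hd : ∀ j, X j j = 0) : ∃ i j, i ≠ j ∧ X i j ≠ 0 := by
  by_contra hcon
  push Not at hcon
  apply hX0
  ext a b
  by_cases h : a = b
  · subst h; exact hd a
  · exact hcon a b h

/-- S2281-MOD, part 2. -/
theorem sym_full_odd [Fintype F] (m : ℕ) (h2 : (2 : F) ≠ 0)
    (K : AddSubgroup (Matrix (Fin (m + 3)) (Fin (m + 3)) F))
    (hK : ∀ (g : Matrix.SpecialLinearGroup (Fin (m + 3)) F)
      (S : Matrix (Fin (m + 3)) (Fin (m + 3)) F), S ∈ K →
      (g : Matrix (Fin (m + 3)) (Fin (m + 3)) F) * S *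
        (g : Matrix (Fin (m + 3)) (Fin (m + 3)) F)ᵀ ∈ K)
    (X : Matrix (Fin (m + 3)) (Fin (m + 3)) F) (hX : X ∈ K) (hXs : Xᵀ = X) (hX0 : X ≠ 0) :
    ∀ S : Matrix (Fin (m + 3)) (Fin (m + 3)) F, Sᵀ = S → S ∈ K := by
  by_cases hd : ∃ j, X j j ≠ 0
  · obtain ⟨j, hj⟩ := hd
    exact sym_full m K hK X hX hXs j hj
  · push Not at hd
    obtain ⟨i, j, hij, hXij⟩ := exists_offdiag X hX0 hd
    have hji : X j i = X i j := congrFun (congrFun hXs i) j
    have hX' := hK (Matrix.SpecialLinearGroup.transvection hij 1) X hX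
    refine sym_full m K hK _ hX' ?_ i ?_
    · rw [Matrix.transpose_mul, Matrix.transpose_mul, Matrix.transpose_transpose, hXs, mul_assoc]
    · show ((1 + Matrix.single i j 1 : Matrix (Fin (m + 3)) (Fin (m + 3)) F) * X *
        (1 + Matrix.single i j 1 : Matrix (Fin (m + 3)) (Fin (m + 3)) F)ᵀ) i i ≠ 0
      rw [conj_transv_apply]
      simp only [if_true, and_self, one_mul, hd, hji, add_zero, zero_add]
      intro h
      have : (2 : F) * X i j = 0 := by rw [two_mul]; exact h
      rcases mul_eq_zero.mp this with h' | h'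
      · exact h2 h'
      · exact hXij h'

/-- S2281-MOD, part 3. -/
theorem alt_full [Fintype F] (m : ℕ) (h2 : (2 : F) = 0)
    (K : AddSubgroup (Matrix (Fin (m + 3)) (Fin (m + 3)) F))
    (hK : ∀ (g : Matrix.SpecialLinearGroup (Fin (m + 3)) F)
      (S : Matrix (Fin (m + 3)) (Fin (m + 3)) F), S ∈ K →
      (g : Matrix (Fin (m + 3)) (Fin (m + 3)) F) * S *
        (g : Matrix (Fin (m + 3)) (Fin (m + 3)) F)ᵀ ∈ K)
    (X : Matrix (Fin (m + 3)) (Fin (m + 3)) F) (hX : X ∈ K) (hXs : Xᵀ = X) (hX0 : X ≠ 0) :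
    ∀ (i j : Fin (m + 3)) (c : F), i ≠ j → Matrix.single i j c + Matrix.single j i c ∈ K := by
  by_cases hd : ∃ j, X j j ≠ 0
  · obtain ⟨j, hj⟩ := hd
    intro i' j' c _
    refine sym_full m K hK X hX hXs j hj _ ?_
    rw [Matrix.transpose_add, Matrix.transpose_single, Matrix.transpose_single]
    exact add_comm _ _
  · push Not at hd
    obtain ⟨i, j, hij, hXij⟩ := exists_offdiag X hX0 hd
    have hji : X j i = X i j := congrFun (congrFun hXs i) j
    obtain ⟨k, hki, hkj⟩ := exists_third_index m i j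
    have hpair : ∀ t : F, Matrix.single i k t + Matrix.single k i t ∈ K := by
      intro t
      have h1 := dlt_mem K hK hki 1 X hX
      have h3 := dlt_mem K hK hij (t / X i j) _ h1
      convert h3 using 1
      ext a b
      have e : t = t / X i j * X i j := (div_mul_cancel₀ _ hXij).symm
      simp only [Matrix.add_apply, Matrix.single_apply, Matrix.of_apply]
      grind
    intro i' j' c hne
    exact all_pairs K hK (Ne.symm hki) hpair i' j' c hne

example [Fintype F] (m : ℕ) (K : AddSubgroup (Matrix (Fin (m + 3)) (Fin (m + 3)) F))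
    (hK : ∀ (g : Matrix.SpecialLinearGroup (Fin (m + 3)) F)
      (S : Matrix (Fin (m + 3)) (Fin (m + 3)) F), S ∈ K →
      (g : Matrix (Fin (m + 3)) (Fin (m + 3)) F) * S *
        (g : Matrix (Fin (m + 3)) (Fin (m + 3)) F)ᵀ ∈ K)
    (X : Matrix (Fin (m + 3)) (Fin (m + 3)) F) (hX : X ∈ K) (hXs : Xᵀ = X)
    (j : Fin (m + 3)) (hj : X j j ≠ 0) :
    ∀ S : Matrix (Fin (m + 3)) (Fin (m + 3)) F, Sᵀ = S → S ∈ K :=
  sym_full m K hK X hX hXs j hj

example [Fintype F] (m : ℕ) (h2 : (2 : F) ≠ 0)
    (K : AddSubgroup (Matrix (Fin (m + 3)) (Fin (m + 3)) F))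
    (hK : ∀ (g : Matrix.SpecialLinearGroup (Fin (m + 3)) F)
      (S : Matrix (Fin (m + 3)) (Fin (m + 3)) F), S ∈ K →
      (g : Matrix (Fin (m + 3)) (Fin (m + 3)) F) * S *
        (g : Matrix (Fin (m + 3)) (Fin (m + 3)) F)ᵀ ∈ K)
    (X : Matrix (Fin (m + 3)) (Fin (m + 3)) F) (hX : X ∈ K) (hXs : Xᵀ = X) (hX0 : X ≠ 0) :
    ∀ S : Matrix (Fin (m + 3)) (Fin (m + 3)) F, Sᵀ = S → S ∈ K :=
  sym_full_odd m h2 K hK X hX hXs hX0

example [Fintype F] (m : ℕ) (h2 : (2 : F) = 0)
    (K : AddSubgroup (Matrix (Fin (m + 3)) (Fin (m + 3)) F))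
    (hK : ∀ (g : Matrix.SpecialLinearGroup (Fin (m + 3)) F)
      (S : Matrix (Fin (m + 3)) (Fin (m + 3)) F), S ∈ K →
      (g : Matrix (Fin (m + 3)) (Fin (m + 3)) F) * S *
        (g : Matrix (Fin (m + 3)) (Fin (m + 3)) F)ᵀ ∈ K)
    (X : Matrix (Fin (m + 3)) (Fin (m + 3)) F) (hX : X ∈ K) (hXs : Xᵀ = X) (hX0 : X ≠ 0) :
    ∀ (i j : Fin (m + 3)) (c : F), i ≠ j → Matrix.single i j c + Matrix.single j i c ∈ K :=
  alt_full m h2 K hK X hX hXs hX0

end Cfsg.Agent.H18.SpR
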