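import Mathlib
import Cfsg.Agent.H97.SpRDefs

/-!
# S2281-STAB (helper18, for helper97)

`K = {S | Sᵀ = S ∧ U(S) ∈ H}` is an additive subgroup stable under `S ↦ g S gᵀ`.
-/

set_option autoImplicit false

namespace Cfsg.Agent.H18.SpR

open Matrix Cfsg.Agent.H97.SpR

variable {F : Type*} [Field F]

/-- S2281-STAB. -/
theorem exists_upper_addSubgroup {k : ℕ} (H : Subgroup (Matrix.symplecticGroup (Fin k) F))
    (hd : ∀ g : Matrix.SpecialLinearGroup (Fin k) F, ∃ S : Matrix (Fin k) (Fin k) F, Sᵀ = S ∧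
      ∃ x ∈ H, (x : Matrix (Fin k ⊕ Fin k) (Fin k ⊕ Fin k) F) = dU g S) :
    ∃ K : AddSubgroup (Matrix (Fin k) (Fin k) F),
      (∀ S : Matrix (Fin k) (Fin k) F, S ∈ K ↔ (Sᵀ = S ∧
        ∃ x ∈ H, (x : Matrix (Fin k ⊕ Fin k) (Fin k ⊕ Fin k) F) = Matrix.fromBlocks 1 S 0 1)) ∧
      (∀ (g : Matrix.SpecialLinearGroup (Fin k) F) (S : Matrix (Fin k) (Fin k) F), S ∈ K →
        (g : Matrix (Fin k) (Fin k) F) * S * (g : Matrix (Fin k) (Fin k) F)ᵀ ∈ K) := by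
  let K : AddSubgroup (Matrix (Fin k) (Fin k) F) :=
    { carrier := {S | Sᵀ = S ∧
        ∃ x ∈ H, (x : Matrix (Fin k ⊕ Fin k) (Fin k ⊕ Fin k) F) = Matrix.fromBlocks 1 S 0 1}
      zero_mem' := by
        refine ⟨Matrix.transpose_zero, 1, H.one_mem, ?_⟩
        rw [Matrix.fromBlocks_one]
        rfl
      add_mem' := by
        rintro S S' ⟨hS, x, hx, hxS⟩ ⟨hS', x', hx', hxS'⟩
        refine ⟨by rw [Matrix.transpose_add, hS, hS'], x * x', H.mul_mem hx hx', ?_⟩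
        rw [Submonoid.coe_mul, hxS, hxS', Matrix.fromBlocks_multiply]
        simp [add_comm]
      neg_mem' := by
        rintro S ⟨hS, x, hx, hxS⟩
        have hS' : (-S)ᵀ = -S := by rw [Matrix.transpose_neg, hS]
        refine ⟨hS', ⟨Matrix.fromBlocks 1 (-S) 0 1, Cfsg.Agent.H45.upper_mem_sp (-S) hS'⟩, ?_, rfl⟩
        have e : (⟨Matrix.fromBlocks 1 (-S) 0 1, Cfsg.Agent.H45.upper_mem_sp (-S) hS'⟩ :
            Matrix.symplecticGroup (Fin k) F) = x⁻¹ := by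
          apply eq_inv_of_mul_eq_one_left
          apply Subtype.ext
          rw [Submonoid.coe_mul, hxS]
          show Matrix.fromBlocks 1 (-S) 0 1 * Matrix.fromBlocks 1 S 0 1 = 1
          rw [Matrix.fromBlocks_multiply]
          simp [Matrix.fromBlocks_one]
        rw [e]
        exact H.inv_mem hx }
  refine ⟨K, fun S => Iff.rfl, ?_⟩
  rintro g S ⟨hS, x, hx, hxS⟩
  obtain ⟨S₀, hS₀, x₀, hx₀, hx₀S⟩ := hd g
  have hsym : ((g : Matrix (Fin k) (Fin k) F) * S * (g : Matrix (Fin k) (Fin k) F)ᵀ)ᵀ =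
      (g : Matrix (Fin k) (Fin k) F) * S * (g : Matrix (Fin k) (Fin k) F)ᵀ := by
    rw [Matrix.transpose_mul, Matrix.transpose_mul, Matrix.transpose_transpose, hS, mul_assoc]
  refine ⟨hsym, ⟨Matrix.fromBlocks 1 _ 0 1, Cfsg.Agent.H45.upper_mem_sp _ hsym⟩, ?_, rfl⟩
  have hg : (g : Matrix (Fin k) (Fin k) F)ᵀ *
      ((g⁻¹ : Matrix.SpecialLinearGroup (Fin k) F) : Matrix (Fin k) (Fin k) F)ᵀ = 1 := by
    rw [← Matrix.transpose_mul, ← Matrix.SpecialLinearGroup.coe_mul, inv_mul_cancel,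
      Matrix.SpecialLinearGroup.coe_one, Matrix.transpose_one]
  have e : (⟨Matrix.fromBlocks 1 _ 0 1, Cfsg.Agent.H45.upper_mem_sp _ hsym⟩ :
      Matrix.symplecticGroup (Fin k) F) = x₀ * x * x₀⁻¹ := by
    apply eq_mul_inv_of_mul_eq
    apply Subtype.ext
    rw [Submonoid.coe_mul, Submonoid.coe_mul, hxS, hx₀S]
    show Matrix.fromBlocks 1 ((g : Matrix (Fin k) (Fin k) F) * S *
      (g : Matrix (Fin k) (Fin k) F)ᵀ) 0 1 * dU g S₀ = dU g S₀ * Matrix.fromBlocks 1 S 0 1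
    unfold dU
    rw [Matrix.fromBlocks_multiply, Matrix.fromBlocks_multiply]
    have h1 : (g : Matrix (Fin k) (Fin k) F) * S * (g : Matrix (Fin k) (Fin k) F)ᵀ *
        ((g⁻¹ : Matrix.SpecialLinearGroup (Fin k) F) : Matrix (Fin k) (Fin k) F)ᵀ =
        (g : Matrix (Fin k) (Fin k) F) * S := by
      rw [mul_assoc, hg, mul_one]
    simp only [one_mul, zero_mul, mul_zero, add_zero, zero_add, mul_one, h1]
    rw [add_comm]
  rw [e]
  exact H.mul_mem (H.mul_mem hx₀ hx) (H.inv_mem hx₀)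

example {k : ℕ} (H : Subgroup (Matrix.symplecticGroup (Fin k) F))
    (hd : ∀ g : Matrix.SpecialLinearGroup (Fin k) F, ∃ S : Matrix (Fin k) (Fin k) F, Sᵀ = S ∧
      ∃ x ∈ H, (x : Matrix (Fin k ⊕ Fin k) (Fin k ⊕ Fin k) F) = dU g S) :
    ∃ K : AddSubgroup (Matrix (Fin k) (Fin k) F),
      (∀ S : Matrix (Fin k) (Fin k) F, S ∈ K ↔ (Sᵀ = S ∧
        ∃ x ∈ H, (x : Matrix (Fin k ⊕ Fin k) (Fin k ⊕ Fin k) F) = Matrix.fromBlocks 1 S 0 1)) ∧
      (∀ (g : Matrix.SpecialLinearGroup (Fin k) F) (S : Matrix (Fin k) (Fin k) F), S ∈ K →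
        (g : Matrix (Fin k) (Fin k) F) * S * (g : Matrix (Fin k) (Fin k) F)ᵀ ∈ K) :=
  exists_upper_addSubgroup H hd

end Cfsg.Agent.H18.SpR
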