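import Mathlib
import Cfsg.Agent.H56.SqDefs
import Cfsg.Agent.H18.SqPSL
import Cfsg.Agent.H78.StO1
import Cfsg.Agent.H12.StOOmega
import Cfsg.Agent.H62.StOSylA
import Cfsg.Agent.H62.StOSylB

/-!
# S4625-PLUS: `PΩ⁺_{2m}(F)` (char 2, `m ≥ 4`) is `GoodSyl`

`U` = the unitriangular isometries (H78 `UO`), inside `Ω` (H12), of odd index (H62); every
unitriangular isometry is `levi(A) · siegel(S)`, the Levi factor is a product of images of the
row involutions of `A` (`uni_le_closure`) and the Siegel factor is an involution.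
-/

set_option autoImplicit false

namespace Cfsg.Agent.H18.Sq

open Matrix Cfsg Cfsg.Agent.H56.Sq Cfsg.Agent.H50.AutPSL Cfsg.Agent.H78.StO

variable {F : Type*} [Field F]

/-- Membership in a closure, transported to a subgroup containing the generators. -/
theorem mem_closure_subtype {X : Type*} [Group X] (K : Subgroup X) (S : Set X)
    (hS : ∀ x ∈ S, x ∈ K) (u : K) (hu : (u : X) ∈ Subgroup.closure S) :
    u ∈ Subgroup.closure {t : K | (t : X) ∈ S} := by
  have h1 : Subgroup.closure S = (Subgroup.closure {t : K | (t : X) ∈ S}).map K.subtype := by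
    rw [MonoidHom.map_closure]
    congr 1
    ext x
    constructor
    · intro hx
      exact ⟨⟨x, hS x hx⟩, hx, rfl⟩
    · rintro ⟨t, ht, rfl⟩
      exact ht
  rw [h1] at hu
  obtain ⟨t, ht, htu⟩ := hu
  have h2 : t = u := Subtype.ext htu
  rw [← h2]
  exact ht

/-- The Levi embedding restricted to `SL`. -/
noncomputable def leviSL (m : ℕ) (F : Type*) [Field F] :
    Matrix.SpecialLinearGroup (Fin (m + 1)) F →* OG m F :=
  (Cfsg.Agent.H49.leviO (m + 1) F).comp Matrix.SpecialLinearGroup.toGL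

theorem mat_leviSL (m : ℕ) (s : Matrix.SpecialLinearGroup (Fin (m + 1)) F) :
    mat (leviSL m F s) = fromBlocks s.1 0 0 ((s⁻¹).1)ᵀ := by
  show mat (Cfsg.Agent.H49.leviO (m + 1) F (Matrix.SpecialLinearGroup.toGL s)) = _
  have h := Cfsg.Agent.H49.leviO_coe (m + 1) F (Matrix.SpecialLinearGroup.toGL s)
  rw [← map_inv] at h
  exact h

theorem isUniO_leviSL [Fintype F] (m : ℕ) (s : Matrix.SpecialLinearGroup (Fin (m + 1)) F)
    (hs : s ∈ Uni (m + 1) F) : IsUniO (leviSL m F s) := by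
  have hs' : IsUT (s⁻¹).1 := (Uni (m + 1) F).inv_mem hs
  have hs0 : IsUT s.1 := hs
  refine ⟨?_, ?_, ?_, ?_, ?_⟩
  · intro i j
    rw [mat_leviSL]
    rfl
  · intro i j hji
    rw [mat_leviSL, Matrix.fromBlocks_apply₁₁]
    exact hs0.1 i j hji
  · intro i
    rw [mat_leviSL, Matrix.fromBlocks_apply₁₁]
    exact hs0.2 i
  · intro i j hij
    rw [mat_leviSL, Matrix.fromBlocks_apply₂₂, Matrix.transpose_apply]
    exact hs'.1 j i hij
  · intro i
    rw [mat_leviSL, Matrix.fromBlocks_apply₂₂, Matrix.transpose_apply]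
    exact hs'.2 i

/-- In characteristic 2 every unitriangular isometry of the hyperbolic form is a product of
unitriangular involutions. -/
theorem uniO_mem_closure [Fintype F] [CharP F 2] (m : ℕ) (g : OG m F) (hg : IsUniO g) :
    g ∈ Subgroup.closure {t : OG m F | IsUniO t ∧ t ^ 2 = 1} := by
  obtain ⟨hC, hA1, hA2, -, -⟩ := hg
  obtain ⟨A, hA⟩ : ∃ A : Matrix (Fin (m + 1)) (Fin (m + 1)) F, A = (mat g).toBlocks₁₁ := ⟨_, rfl⟩
  have hAe : ∀ i j, A i j = mat g (Sum.inl i) (Sum.inl j) := by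
    intro i j
    rw [hA]
    rfl
  have hAUT : IsUT A := ⟨fun i j hji => by rw [hAe]; exact hA1 i j hji,
    fun i => by rw [hAe]; exact hA2 i⟩
  obtain ⟨x, hx⟩ : ∃ x : Matrix.SpecialLinearGroup (Fin (m + 1)) F, x = mkSL A hAUT := ⟨_, rfl⟩
  have hxA : x.1 = A := by rw [hx]; rfl
  have hxU : x ∈ Uni (m + 1) F := by rw [hx]; exact hAUT
  obtain ⟨Bm, hBm⟩ : ∃ Bm : Matrix (Fin (m + 1)) (Fin (m + 1)) F, Bm = (mat g).toBlocks₁₂ :=
    ⟨_, rfl⟩
  obtain ⟨Dm, hDm⟩ : ∃ Dm : Matrix (Fin (m + 1)) (Fin (m + 1)) F, Dm = (mat g).toBlocks₂₂ :=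
    ⟨_, rfl⟩
  have hmatg : mat g = fromBlocks A Bm 0 Dm := by
    conv_lhs => rw [← Matrix.fromBlocks_toBlocks (mat g)]
    rw [hA, hBm, hDm]
    congr 1
    ext i j
    exact hC i j
  -- the Levi factor
  have hl : leviSL m F x ∈ Subgroup.closure {t : OG m F | IsUniO t ∧ t ^ 2 = 1} := by
    have h1 : Subgroup.closure
        {t : Matrix.SpecialLinearGroup (Fin (m + 1)) F | t ∈ Uni (m + 1) F ∧ t ^ 2 = 1} ≤
        (Subgroup.closure {t : OG m F | IsUniO t ∧ t ^ 2 = 1}).comap (leviSL m F) := by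
      rw [Subgroup.closure_le]
      rintro t ⟨htU, ht2⟩
      apply Subgroup.subset_closure
      refine ⟨isUniO_leviSL m t htU, ?_⟩
      rw [← map_pow, ht2, map_one]
    exact h1 (uni_le_closure hxU)
  -- the Siegel factor
  have hmatl : mat (leviSL m F x)⁻¹ = fromBlocks (x⁻¹).1 0 0 Aᵀ := by
    rw [← map_inv, mat_leviSL, inv_inv, hxA]
  have hinvA : (x⁻¹).1 * A = 1 := by
    rw [← hxA]
    have h1 : (x⁻¹ * x).1 = (x⁻¹).1 * x.1 := rfl
    rw [← h1, inv_mul_cancel]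
    rfl
  have hs' : mat ((leviSL m F x)⁻¹ * g) = fromBlocks 1 ((x⁻¹).1 * Bm) 0 (Aᵀ * Dm) := by
    rw [mat_mul, hmatl, hmatg, Matrix.fromBlocks_multiply]
    simp only [Matrix.mul_zero, Matrix.zero_mul, add_zero, zero_add, hinvA]
  have hD := Cfsg.Agent.H12.StOP.d_eq_one m ((leviSL m F x)⁻¹ * g) _ _ hs'
  rw [hD] at hs'
  have hsU : IsUniO ((leviSL m F x)⁻¹ * g) := Cfsg.Agent.H12.StOP.uni_siegel m _ _ hs'
  have hs2 : ((leviSL m F x)⁻¹ * g) ^ 2 = 1 := by
    apply mat_injective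
    rw [pow_two, mat_mul, hs', Matrix.fromBlocks_multiply, mat_one]
    simp only [Matrix.mul_zero, Matrix.zero_mul, add_zero, zero_add, Matrix.one_mul,
      Matrix.mul_one]
    have h2 : (x⁻¹).1 * Bm + (x⁻¹).1 * Bm = 0 := by
      ext i j
      exact CharTwo.add_self_eq_zero _
    rw [h2, Matrix.fromBlocks_one]
  have e : g = leviSL m F x * ((leviSL m F x)⁻¹ * g) := by group
  rw [e]
  exact Subgroup.mul_mem _ hl (Subgroup.subset_closure ⟨hsU, hs2⟩)

theorem pplus : Cfsg.Agent.H56.Sq.PPlusStmt := by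
  intro F _ _ _ m hm _
  obtain ⟨m', rfl⟩ : ∃ m', m = m' + 1 := ⟨m - 1, by omega⟩
  have hm' : 1 ≤ m' := by omega
  have h : Fintype.card F ≠ 2 ∨ m' ≠ 1 := Or.inr (by omega)
  obtain ⟨f, hp, hF⟩ := FiniteField.card F 2
  have hfact : Fact (Nat.Prime 2) := ⟨Nat.prime_two⟩
  have hUO : IsPGroup 2 (UO m' F) := by
    have h1 : IsPGroup 2 (Uni ((m' + 1) + (m' + 1)) F) :=
      IsPGroup.of_card (n := f * ∑ j : Fin ((m' + 1) + (m' + 1)), (j : ℕ))
        (by rw [card_Uni, hF, ← pow_mul])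
    exact (h1.map Matrix.SpecialLinearGroup.toGL).comap_of_injective (psiO m' F) psiO_injective
  have hle : UO m' F ≤ Cfsg.Omega F (Cfsg.quadFormPlus (m' + 1) F) := fun g hg =>
    Cfsg.Agent.H12.StOP.oplus_uni_mem_omega m' hm' h g ((mem_UO_iff_isUniO g).mp hg)
  have hU : IsPGroup 2 ((UO m' F).subgroupOf (Cfsg.Omega F (Cfsg.quadFormPlus (m' + 1) F))) :=
    hUO.comap_of_injective _ Subtype.val_injective
  have hcard : Fintype.card F ^ ((m' + 1) * m') ≤
      Nat.card ((UO m' F).subgroupOf (Cfsg.Omega F (Cfsg.quadFormPlus (m' + 1) F))) := by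
    rw [Nat.card_congr (Subgroup.subgroupOfEquivOfLe hle).toEquiv]
    exact Cfsg.Agent.H62.StO62.oplus_uni_card m' (UO m' F)
      (fun g hg => (mem_UO_iff_isUniO g).mpr hg)
  have hidx := Cfsg.Agent.H62.StO62.oplus_sylow 2 m' hm' h _ hU hcard
  have hgen : (UO m' F).subgroupOf (Cfsg.Omega F (Cfsg.quadFormPlus (m' + 1) F)) ≤
      Subgroup.closure {t : ↥(Cfsg.Omega F (Cfsg.quadFormPlus (m' + 1) F)) |
        t ∈ (UO m' F).subgroupOf (Cfsg.Omega F (Cfsg.quadFormPlus (m' + 1) F)) ∧ t ^ 2 = 1} := by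
    intro u hu
    have hg : IsUniO (u : OG m' F) := (mem_UO_iff_isUniO _).mp (Subgroup.mem_subgroupOf.mp hu)
    have h1 := uniO_mem_closure m' (u : OG m' F) hg
    have h2 := mem_closure_subtype (Cfsg.Omega F (Cfsg.quadFormPlus (m' + 1) F))
      {t : OG m' F | IsUniO t ∧ t ^ 2 = 1}
      (fun x hx => Cfsg.Agent.H12.StOP.oplus_uni_mem_omega m' hm' h x hx.1) u h1
    refine Subgroup.closure_mono ?_ h2
    rintro t ⟨ht1, ht2⟩
    refine ⟨Subgroup.mem_subgroupOf.mpr ((mem_UO_iff_isUniO _).mpr ht1), ?_⟩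
    apply Subtype.ext
    rw [Subgroup.coe_pow]
    exact ht2
  have hgood := goodSyl_of_invol _ hU hidx hgen
  exact hgood.quotient (Subgroup.center _)

example : Cfsg.Agent.H56.Sq.PPlusStmt := pplus

end Cfsg.Agent.H18.Sq
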