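import Cfsg.Agent.H52.SrDefs

/-!
# SR-IND (helper52's SR mini-project of JZ = S2951 / S2952)

Independence of a family `W i` when `W j ≤ C(K i)` for `j ≠ i` and `W i ∩ C(K i) = 1`.
-/

set_option autoImplicit false

namespace Cfsg.Agent.H18.Sr

universe u

theorem ind : Cfsg.Agent.H52.Sr.StInd.{u} := by
  intro X _ ι K W hcent hdisj i
  rw [disjoint_iff]
  apply le_antisymm _ bot_le
  rw [← hdisj i]
  apply le_inf inf_le_left
  apply le_trans inf_le_right
  apply iSup_le
  intro j
  apply iSup_le
  intro hji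
  exact hcent j i hji

example : Cfsg.Agent.H52.Sr.StInd.{u} := ind

end Cfsg.Agent.H18.Sr
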