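import Cfsg.Agent.H52.SrDefs

/-!
# SR-SUP (helper52's SR mini-project of JZ = S2951 / S2952)

Simultaneous decomposition of `V` along a finite set of subgroups.
-/

set_option autoImplicit false

namespace Cfsg.Agent.H18.Sr

universe u

theorem sup_aux {X : Type u} [Group X] (V : Subgroup X) (W : Subgroup X → Subgroup X)
    (s : Finset (Subgroup X)) :
    (∀ K ∈ s, ∀ v ∈ V, ∃ c ∈ V, ∃ w ∈ W K, v = c * w ∧
      c ∈ Subgroup.centralizer (K : Set X)) →
    (∀ K₁ ∈ s, ∀ K₂ ∈ s, K₁ ≠ K₂ → W K₁ ≤ Subgroup.centralizer (K₂ : Set X)) →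
    ∀ v ∈ V, ∃ c ∈ V, ∃ w ∈ ⨆ K ∈ s, W K, v = c * w ∧
      ∀ K ∈ s, c ∈ Subgroup.centralizer (K : Set X) := by
  classical
  induction s using Finset.induction_on with
  | empty =>
    intro _ _ v hv
    exact ⟨v, hv, 1, Subgroup.one_mem _, (mul_one v).symm, fun K hK => absurd hK (Finset.notMem_empty K)⟩
  | insert K₀ s' hK₀ ih =>
    intro hdec hcent v hv
    have hdec' : ∀ K ∈ s', ∀ v ∈ V, ∃ c ∈ V, ∃ w ∈ W K, v = c * w ∧
        c ∈ Subgroup.centralizer (K : Set X) :=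
      fun K hK => hdec K (Finset.mem_insert_of_mem hK)
    have hcent' : ∀ K₁ ∈ s', ∀ K₂ ∈ s', K₁ ≠ K₂ → W K₁ ≤ Subgroup.centralizer (K₂ : Set X) :=
      fun K₁ h1 K₂ h2 hne =>
        hcent K₁ (Finset.mem_insert_of_mem h1) K₂ (Finset.mem_insert_of_mem h2) hne
    obtain ⟨c, hcV, u, hu, hvcu, hcK⟩ := ih hdec' hcent' v hv
    obtain ⟨c', hc'V, w, hw, hcw, hc'K₀⟩ := hdec K₀ (Finset.mem_insert_self K₀ s') c hcV
    refine ⟨c', hc'V, w * u, ?_, ?_, ?_⟩
    · apply Subgroup.mul_mem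
      · have hle : W K₀ ≤ ⨆ K ∈ insert K₀ s', W K :=
          le_iSup₂_of_le K₀ (Finset.mem_insert_self K₀ s') le_rfl
        exact hle hw
      · have hle : (⨆ K ∈ s', W K) ≤ ⨆ K ∈ insert K₀ s', W K := by
          apply iSup₂_le
          intro K hK
          exact le_iSup₂_of_le K (Finset.mem_insert_of_mem hK) le_rfl
        exact hle hu
    · rw [hvcu, hcw, mul_assoc]
    · intro K hK
      rcases Finset.mem_insert.mp hK with rfl | hK'
      · exact hc'K₀
      · have hne : K₀ ≠ K := fun h => hK₀ (h ▸ hK')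
        have hwK : w ∈ Subgroup.centralizer (K : Set X) :=
          hcent K₀ (Finset.mem_insert_self K₀ s') K (Finset.mem_insert_of_mem hK') hne hw
        have hc' : c' = c * w⁻¹ := by rw [hcw, mul_inv_cancel_right]
        rw [hc']
        exact Subgroup.mul_mem _ (hcK K hK') (Subgroup.inv_mem _ hwK)

theorem sup : Cfsg.Agent.H52.Sr.StSup.{u} := by
  intro X _ V W s hdec hcent v hv
  exact sup_aux V W s hdec hcent v hv

example : Cfsg.Agent.H52.Sr.StSup.{u} := sup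

end Cfsg.Agent.H18.Sr
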