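import Cfsg.Agent.H19.SxDefs

/-!
# SX-COMPB (helper18, for helper19's EXIST project, S2948 / S2949)

The subgroup `K` generated by the odd-order elements of `⟨x⟩Q`: it is generated by its elements
of odd order, `K = [K, J]`, `|K : K ∩ Q| = 3`, `Q` normalizes `K`, `x ∈ K ≤ ⟨x⟩Q`.
-/

set_option autoImplicit false
open Cfsg
open scoped commutatorElement

namespace Cfsg.Agent.H18.Sx

open Cfsg.Agent.H19.Sx

universe u

/-- `K` normalizes `[K, J]`. -/
theorem conj_mem_commutator_left {X : Type*} [Group X] (K J : Subgroup X) (k' : X)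
    (hk' : k' ∈ K) (y : X) (hy : y ∈ ⁅K, J⁆) : k' * y * k'⁻¹ ∈ ⁅K, J⁆ := by
  have h : ⁅K, J⁆ ≤ (⁅K, J⁆).comap (MulAut.conj k').toMonoidHom := by
    rw [Subgroup.commutator_def]
    apply (Subgroup.closure_le _).mpr
    rintro _ ⟨k, hk, g, hg, rfl⟩
    show (MulAut.conj k') ⁅k, g⁆ ∈ Subgroup.closure _
    rw [← Subgroup.commutator_def]
    have e : (MulAut.conj k') ⁅k, g⁆ = ⁅k' * k, g⁆ * ⁅k', g⁆⁻¹ := by
      rw [MulAut.conj_apply, commutatorElement_def, commutatorElement_def, commutatorElement_def]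
      group
    rw [e]
    exact mul_mem (Subgroup.commutator_mem_commutator (mul_mem hk' hk) hg)
      (inv_mem (Subgroup.commutator_mem_commutator hk' hg))
  have := h hy
  simpa using this

/-- an element of order coprime to `N` lies in every subgroup containing its `N`-th power. -/
theorem mem_of_pow_mem_of_coprime {X : Type*} [Group X] (R : Subgroup X) (s : X) (N : ℕ)
    (hcop : Nat.Coprime N (orderOf s)) (h : s ^ N ∈ R) : s ∈ R := by
  have hb := Nat.gcd_eq_gcd_ab N (orderOf s)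
  rw [hcop.gcd_eq_one] at hb
  have e : s = (s ^ N) ^ (Nat.gcdA N (orderOf s)) * (s ^ orderOf s) ^ (Nat.gcdB N (orderOf s)) := by
    rw [← zpow_natCast s N, ← zpow_natCast s (orderOf s), ← zpow_mul, ← zpow_mul, ← zpow_add,
      ← hb]
    simp
  rw [e, pow_orderOf_eq_one, one_zpow, mul_one]
  exact zpow_mem h _

theorem compB : StCompB.{u} := by
  intro X _ _ Q J a x hQn hQ2 haJ hxodd hxQ hx3 hax hJx
  have := hQn
  obtain ⟨M, hM⟩ : ∃ M : Subgroup X, M = Subgroup.zpowers x ⊔ Q := ⟨_, rfl⟩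
  obtain ⟨K, hK⟩ : ∃ K : Subgroup X,
      K = Subgroup.closure {g : X | g ∈ M ∧ Odd (orderOf g)} := ⟨_, rfl⟩
  have hxM : x ∈ M := by rw [hM]; exact Subgroup.mem_sup_left (Subgroup.mem_zpowers x)
  have hQM : Q ≤ M := by rw [hM]; exact le_sup_right
  have hSK : ∀ g : X, g ∈ M → Odd (orderOf g) → g ∈ K := by
    intro g h1 h2
    rw [hK]
    exact Subgroup.subset_closure ⟨h1, h2⟩
  have hxK : x ∈ K := hSK x hxM hxodd
  have hKM : K ≤ M := by
    rw [hK]
    exact (Subgroup.closure_le M).mpr (fun g hg => hg.1)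
  -- elements normalizing M normalize K
  have hnorm : ∀ n : X, (∀ m ∈ M, n * m * n⁻¹ ∈ M) → ∀ g ∈ K, n * g * n⁻¹ ∈ K := by
    intro n hn g hg
    have h : K ≤ K.comap (MulAut.conj n).toMonoidHom := by
      conv_lhs => rw [hK]
      apply (Subgroup.closure_le _).mpr
      intro s hs
      show (MulAut.conj n) s ∈ K
      apply hSK
      · rw [MulAut.conj_apply]; exact hn s hs.1
      · rw [(MulAut.conj n).orderOf_eq s]; exact hs.2
    have := h hg
    simpa using this
  have hMM : ∀ n ∈ M, ∀ m ∈ M, n * m * n⁻¹ ∈ M := fun n hn m hm =>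
    mul_mem (mul_mem hn hm) (inv_mem hn)
  have hJM : ∀ g ∈ J, ∀ m ∈ M, g * m * g⁻¹ ∈ M := by
    intro g hg m hm
    have h : M ≤ M.comap (MulAut.conj g).toMonoidHom := by
      conv_lhs => rw [hM]
      apply sup_le
      · rw [Subgroup.zpowers_le]
        show (MulAut.conj g) x ∈ M
        rw [MulAut.conj_apply, hM]
        exact hJx g hg
      · intro q hq
        show (MulAut.conj g) q ∈ M
        rw [MulAut.conj_apply]
        exact hQM (hQn.conj_mem q hq g)
    have := h hm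
    simpa using this
  -- decomposition of elements of K
  have hdec : ∀ g ∈ K, ∃ y ∈ Subgroup.zpowers x, ∃ q ∈ Q, q ∈ K ∧ g = y * q := by
    intro g hg
    have h1 : g ∈ ((Subgroup.zpowers x ⊔ Q : Subgroup X) : Set X) := by
      have := hKM hg
      rw [hM] at this
      exact this
    rw [Subgroup.mul_normal] at h1
    obtain ⟨y, hy, q, hq, rfl⟩ := Set.mem_mul.mp h1
    have hyK : y ∈ K := by
      have : Subgroup.zpowers x ≤ K := (Subgroup.zpowers_le).mpr hxK
      exact this hy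
    refine ⟨y, hy, q, hq, ?_, rfl⟩
    have : q = y⁻¹ * (y * q) := by group
    rw [this]
    exact mul_mem (inv_mem hyK) hg
  -- R := ⁅K, J⁆
  have hRK : ⁅K, J⁆ ≤ K := by
    rw [Subgroup.commutator_le]
    intro k hk g hg
    rw [commutatorElement_def]
    have h1 : g * k⁻¹ * g⁻¹ ∈ K := hnorm g (hJM g hg) k⁻¹ (inv_mem hk)
    have : k * g * k⁻¹ * g⁻¹ = k * (g * k⁻¹ * g⁻¹) := by group
    rw [this]
    exact mul_mem hk h1
  have hxxR : x * x ∈ ⁅K, J⁆ := by
    have h1 : ⁅x, a⁆ ∈ ⁅K, J⁆ := Subgroup.commutator_mem_commutator hxK haJ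
    have e : ⁅x, a⁆ = x * x := by
      rw [commutatorElement_def]
      have : x * a * x⁻¹ * a⁻¹ = x * (a * x * a⁻¹)⁻¹ := by group
      rw [this, hax, inv_inv]
    rwa [e] at h1
  have hxR : x ∈ ⁅K, J⁆ := by
    apply mem_of_pow_mem_of_coprime _ x 2
    · exact Nat.coprime_two_left.mpr hxodd
    · rw [pow_two]; exact hxxR
  have hKR : K ≤ ⁅K, J⁆ := by
    conv_lhs => rw [hK]
    apply (Subgroup.closure_le _).mpr
    intro s hs
    have hsK : s ∈ K := hSK s hs.1 hs.2
    obtain ⟨y, hy, q, hq, hqK, rfl⟩ := hdec s hsK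
    have hyR : y ∈ ⁅K, J⁆ := by
      have : Subgroup.zpowers x ≤ ⁅K, J⁆ := (Subgroup.zpowers_le).mpr hxR
      exact this hy
    obtain ⟨n, hn⟩ := hQ2 ⟨q, hq⟩
    have hn' : q ^ 2 ^ n = 1 := by
      have := congrArg Subtype.val hn
      simpa using this
    have hind : ∀ N : ℕ, (y * q) ^ N * (q ^ N)⁻¹ ∈ ⁅K, J⁆ := by
      intro N
      induction N with
      | zero => simp
      | succ N ih =>
        have e : (y * q) ^ (N + 1) * (q ^ (N + 1))⁻¹ =
            ((y * q) ^ N * (q ^ N)⁻¹) * (q ^ N * y * (q ^ N)⁻¹) := by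
          rw [pow_succ, pow_succ]
          group
        rw [e]
        exact mul_mem ih (conj_mem_commutator_left K J (q ^ N) (pow_mem hqK N) y hyR)
    have h2 := hind (2 ^ n)
    rw [hn', inv_one, mul_one] at h2
    apply mem_of_pow_mem_of_coprime _ (y * q) (2 ^ n) _ h2
    apply Nat.Coprime.pow_left
    exact Nat.coprime_two_left.mpr hs.2
  -- index
  have hidx : (K ⊓ Q).relIndex K = 3 := by
    rw [Subgroup.inf_relIndex_left]
    have hker : Q = (QuotientGroup.mk' Q).ker := (QuotientGroup.ker_mk' Q).symm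
    conv_lhs => rw [hker]
    rw [Subgroup.relIndex_ker]
    have hmap : K.map (QuotientGroup.mk' Q) = Subgroup.zpowers ((QuotientGroup.mk' Q) x) := by
      apply le_antisymm
      · rintro _ ⟨g, hg, rfl⟩
        obtain ⟨y, hy, q, hq, -, rfl⟩ := hdec g hg
        obtain ⟨i, rfl⟩ := Subgroup.mem_zpowers_iff.mp hy
        have hq1 : (QuotientGroup.mk' Q) q = 1 := (QuotientGroup.eq_one_iff q).mpr hq
        rw [map_mul, hq1, mul_one, map_zpow]
        exact Subgroup.zpow_mem_zpowers _ i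
      · rw [Subgroup.zpowers_le]
        exact Subgroup.mem_map_of_mem _ hxK
    rw [hmap, Nat.card_zpowers]
    have : Fact (Nat.Prime 3) := ⟨by norm_num⟩
    apply orderOf_eq_prime
    · rw [← map_pow]
      exact (QuotientGroup.eq_one_iff _).mpr hx3
    · intro h
      exact hxQ ((QuotientGroup.eq_one_iff x).mp h)
  refine ⟨K, ?_, le_antisymm hRK hKR, hidx, ?_, hxK, ?_⟩
  · apply le_antisymm
    · exact (Subgroup.closure_le K).mpr (fun g hg => hg.1)
    · conv_lhs => rw [hK]
      apply Subgroup.closure_mono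
      intro g hg
      exact ⟨hSK g hg.1 hg.2, hg.2⟩
  · intro q hq
    rw [Subgroup.mem_normalizer_iff]
    intro h
    constructor
    · intro hh
      exact hnorm q (hMM q (hQM hq)) h hh
    · intro hh
      have := hnorm q⁻¹ (hMM q⁻¹ (inv_mem (hQM hq))) _ hh
      have e : q⁻¹ * (q * h * q⁻¹) * q⁻¹⁻¹ = h := by group
      rwa [e] at this
  · rw [← hM]; exact hKM

example : Cfsg.Agent.H19.Sx.StCompB.{u} := Cfsg.Agent.H18.Sx.compB.{u}

end Cfsg.Agent.H18.Sx
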