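import Cfsg.Agent.H51.SyDefs

/-!
# SY-GEND (helper18, for helper51's S2949 project)

An element `k` whose coset modulo the normal subgroup `C` is centralized or inverted by each
element of `J` (generated by the largest elementary abelian subgroups inside it) is either
inverted modulo `C` by an element of one of these subgroups, or normalizes `JC`.
-/

set_option autoImplicit false
open Cfsg

namespace Cfsg.Agent.H18.Sy

open Cfsg.Agent.H51.Sy

universe u

theorem genD : StGenD.{u} := by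
  intro X _ _ C J k hCn hJ hJk
  by_cases hex : ∃ A : Subgroup X, A ∈ maxElementaryAbelianSubgroups 2 X ∧ A ≤ J ∧
      ∃ a ∈ A, a * k * a⁻¹ * k ∈ C
  · exact Or.inl hex
  right
  -- every element of J centralizes k modulo C
  have key : ∀ g ∈ Subgroup.closure {a : X | ∃ A : Subgroup X,
      A ∈ maxElementaryAbelianSubgroups 2 X ∧ A ≤ J ∧ a ∈ A}, g * k * g⁻¹ * k⁻¹ ∈ C := by
    intro g hg
    induction hg using Subgroup.closure_induction with
    | mem a ha =>
      obtain ⟨A, hA, hAJ, haA⟩ := ha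
      rcases hJk a (hAJ haA) with h | h
      · exact h
      · exact absurd ⟨A, hA, hAJ, a, haA, h⟩ hex
    | one => simp
    | mul x y _ _ ihx ihy =>
      have e : x * y * k * (x * y)⁻¹ * k⁻¹ = (x * (y * k * y⁻¹ * k⁻¹) * x⁻¹) * (x * k * x⁻¹ * k⁻¹) := by
        group
      rw [e]
      exact mul_mem (hCn.conj_mem _ ihy x) ihx
    | inv x _ ih =>
      have e : x⁻¹ * k * x⁻¹⁻¹ * k⁻¹ = x⁻¹ * (x * k * x⁻¹ * k⁻¹)⁻¹ * x⁻¹⁻¹ := by group
      rw [e]
      exact hCn.conj_mem _ (inv_mem ih) x⁻¹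
  have hJc : ∀ g ∈ J, g * k * g⁻¹ * k⁻¹ ∈ C := by
    intro g hg
    apply key
    rw [← hJ]
    exact hg
  -- conjugation by k and by k⁻¹ preserve J ⊔ C
  have h1 : ∀ h ∈ J ⊔ C, k * h * k⁻¹ ∈ J ⊔ C := by
    intro h hh
    have hle : J ⊔ C ≤ (J ⊔ C).comap (MulAut.conj k).toMonoidHom := by
      apply sup_le
      · intro g hg
        show (MulAut.conj k) g ∈ J ⊔ C
        rw [MulAut.conj_apply]
        have e : k * g * k⁻¹ = (g * k * g⁻¹ * k⁻¹)⁻¹ * g := by group
        rw [e]
        exact mul_mem (Subgroup.mem_sup_right (inv_mem (hJc g hg))) (Subgroup.mem_sup_left hg)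
      · intro c hc
        show (MulAut.conj k) c ∈ J ⊔ C
        rw [MulAut.conj_apply]
        exact Subgroup.mem_sup_right (hCn.conj_mem c hc k)
    have := hle hh
    simpa using this
  have h2 : ∀ h ∈ J ⊔ C, k⁻¹ * h * k ∈ J ⊔ C := by
    intro h hh
    have hle : J ⊔ C ≤ (J ⊔ C).comap (MulAut.conj k⁻¹).toMonoidHom := by
      apply sup_le
      · intro g hg
        show (MulAut.conj k⁻¹) g ∈ J ⊔ C
        rw [MulAut.conj_apply]
        have e : k⁻¹ * g * k⁻¹⁻¹ = g * (k⁻¹ * (g⁻¹ * k * g⁻¹⁻¹ * k⁻¹) * k⁻¹⁻¹)⁻¹ := by group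
        rw [e]
        exact mul_mem (Subgroup.mem_sup_left hg)
          (Subgroup.mem_sup_right (inv_mem (hCn.conj_mem _ (hJc g⁻¹ (inv_mem hg)) k⁻¹)))
      · intro c hc
        show (MulAut.conj k⁻¹) c ∈ J ⊔ C
        rw [MulAut.conj_apply]
        exact Subgroup.mem_sup_right (hCn.conj_mem c hc k⁻¹)
    have := hle hh
    simpa using this
  rw [Subgroup.mem_normalizer_iff]
  intro h
  constructor
  · intro hh
    exact h1 h hh
  · intro hh
    have := h2 _ hh
    have e : k⁻¹ * (k * h * k⁻¹) * k = h := by group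
    rwa [e] at this

example : Cfsg.Agent.H51.Sy.StGenD.{u} := Cfsg.Agent.H18.Sy.genD.{u}

end Cfsg.Agent.H18.Sy
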