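import Cfsg.Agent.H51.SyDefs
import Cfsg.Agent.H14.Thompson

/-!
# SY-GENF2 (helper18, for helper51's S2949 project)

Frattini in `J(X)`: a subgroup `M'` containing `N_X(J)` and the elements of odd order of the
Thompson subgroup `J(X)` is everything (`T` a Sylow 2-subgroup, `J ≤ T ⊓ J(X)`, and `N_X(S) ≤ N_X(J)`
for all `J ≤ S ≤ T`).
-/

set_option autoImplicit false
open Cfsg

namespace Cfsg.Agent.H18.Sy

open Cfsg.Agent.H51.Sy

universe u

/-- The Thompson subgroup is normal (as in helper14's `H14.Holo.thompsonSubgroup_normal`,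
restated here to keep the import closure light). -/
theorem thompson_normal_light (p : ℕ) (G : Type u) [Group G] :
    (thompsonSubgroup p G).Normal := by
  constructor
  intro n hn g
  have h1 : (thompsonSubgroup p G).map (MulAut.conj g).toMonoidHom ≤ thompsonSubgroup p G := by
    unfold Cfsg.thompsonSubgroup
    rw [Subgroup.map_le_iff_le_comap]
    apply sSup_le
    intro A hA
    rw [← Subgroup.map_le_iff_le_comap]
    exact le_sSup (Cfsg.Agent.H14.maxElAb_conj g hA)
  exact h1 ⟨n, hn, rfl⟩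

theorem genF2 : StGenF2.{u} := by
  intro X _ _ T J M' hT hTodd hJT hJMx hchar hNJ hodd
  have : Fact (Nat.Prime 2) := ⟨Nat.prime_two⟩
  have hnd : ¬ 2 ∣ T.index := by
    intro hd
    exact (Nat.not_even_iff_odd.mpr hTodd) (even_iff_two_dvd.mpr hd)
  obtain ⟨Mx, hMx⟩ : ∃ Mx : Subgroup X, Mx = thompsonSubgroup 2 X := ⟨_, rfl⟩
  have hMxn : Mx.Normal := by rw [hMx]; exact thompson_normal_light 2 X
  have hJMx' : J ≤ Mx := by rw [hMx]; exact hJMx
  -- O := the subgroup generated by the odd-order elements of Mx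
  obtain ⟨O, hO⟩ : ∃ O : Subgroup X,
      O = Subgroup.closure {y : X | y ∈ Mx ∧ Odd (orderOf y)} := ⟨_, rfl⟩
  have hOM' : O ≤ M' := by
    rw [hO]
    refine (Subgroup.closure_le M').mpr (fun y hy => hodd y ?_ hy.2)
    rw [← hMx]; exact hy.1
  have hOn : O.Normal := by
    constructor
    intro n hn g
    have h : O ≤ O.comap (MulAut.conj g).toMonoidHom := by
      conv_lhs => rw [hO]
      apply (Subgroup.closure_le _).mpr
      intro s hs
      show (MulAut.conj g) s ∈ O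
      rw [hO]
      apply Subgroup.subset_closure
      refine ⟨?_, ?_⟩
      · rw [MulAut.conj_apply]; exact hMxn.conj_mem s hs.1 g
      · rw [(MulAut.conj g).orderOf_eq s]; exact hs.2
    have := h hn
    simpa using this
  -- T ≤ M'
  have hTM' : T ≤ M' := fun t ht => hNJ (hchar T hJT le_rfl (Subgroup.le_normalizer ht))
  -- Mx ≤ M'
  have hMxM' : Mx ≤ M' := by
    intro g hg
    have hπs : Function.Surjective (QuotientGroup.mk' O) := QuotientGroup.mk'_surjective O
    have hN : (Mx.map (QuotientGroup.mk' O)).Normal := hMxn.map _ hπs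
    have hP : IsPGroup 2 ↥(Mx.map (QuotientGroup.mk' O)) := by
      intro ⟨z, hz⟩
      obtain ⟨y, hy, rfl⟩ := Subgroup.mem_map.mp hz
      obtain ⟨e, r, hr, hor⟩ := Nat.exists_eq_two_pow_mul_odd (orderOf_pos y).ne'
      refine ⟨e, Subtype.ext ?_⟩
      rw [Subgroup.coe_pow, Subgroup.coe_one]
      show (QuotientGroup.mk' O) y ^ 2 ^ e = 1
      rw [← map_pow]
      apply (QuotientGroup.eq_one_iff _).mpr
      rw [hO]
      apply Subgroup.subset_closure
      refine ⟨pow_mem hy _, ?_⟩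
      have h1 : (y ^ 2 ^ e) ^ r = 1 := by rw [← pow_mul, ← hor, pow_orderOf_eq_one]
      exact Odd.of_dvd_nat hr (orderOf_dvd_of_pow_eq_one h1)
    have hle : Mx.map (QuotientGroup.mk' O) ≤
        (((hT.toSylow hnd).mapSurjective hπs : Sylow 2 (X ⧸ O)) : Subgroup (X ⧸ O)) :=
      hP.le_sylow_of_normal _
    have h1 := hle (Subgroup.mem_map_of_mem (QuotientGroup.mk' O) hg)
    rw [Sylow.coe_mapSurjective] at h1
    obtain ⟨t, ht, htg⟩ := h1
    have ht' : t ∈ T := (IsPGroup.mem_toSylow hT hnd).mp ht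
    have h3 : t⁻¹ * g ∈ O := QuotientGroup.eq.mp htg
    have e : g = t * (t⁻¹ * g) := by group
    rw [e]
    exact mul_mem (hTM' ht') (hOM' h3)
  -- Frattini
  obtain ⟨P⟩ : Nonempty (Sylow 2 ↥Mx) := inferInstance
  obtain ⟨Q, hQ⟩ := Sylow.exists_comap_subtype_eq P
  obtain ⟨g, hg⟩ := MulAction.exists_smul_eq X (hT.toSylow hnd) Q
  have hfr := Sylow.normalizer_sup_eq_top P
  have hPmap : ((P : Subgroup ↥Mx).map Mx.subtype) = (Q : Subgroup X) ⊓ Mx := by
    rw [← hQ]
    exact Subgroup.subgroupOf_map_subtype _ _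
  rw [hPmap] at hfr
  have hS' : ∀ z : X, z ∈ (Q : Subgroup X) ⊓ Mx ↔ g⁻¹ * z * g ∈ T ⊓ Mx := by
    intro z
    rw [Subgroup.mem_inf, Subgroup.mem_inf]
    have hz1 : z ∈ (Q : Subgroup X) ↔ g⁻¹ * z * g ∈ T := by
      rw [← hg, Sylow.coe_subgroup_smul, Subgroup.mem_pointwise_smul_iff_inv_smul_mem,
        MulAut.smul_def, ← map_inv, MulAut.conj_apply, inv_inv]
      exact IsPGroup.mem_toSylow hT hnd
    have hz2 : z ∈ Mx ↔ g⁻¹ * z * g ∈ Mx := by
      constructor
      · intro h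
        have := hMxn.conj_mem z h g⁻¹
        simpa using this
      · intro h
        have := hMxn.conj_mem _ h g
        have e : g * (g⁻¹ * z * g) * g⁻¹ = z := by group
        rwa [e] at this
    rw [hz1, hz2]
  have hNS : Subgroup.normalizer ((T ⊓ Mx : Subgroup X) : Set X) ≤ M' :=
    (hchar (T ⊓ Mx) (le_inf hJT hJMx') inf_le_left).trans hNJ
  rw [eq_top_iff]
  intro x _
  have hy : g * x * g⁻¹ ∈
      ((Subgroup.normalizer (((Q : Subgroup X) ⊓ Mx : Subgroup X) : Set X) ⊔ Mx : Subgroup X) : Set X) := by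
    rw [hfr]; trivial
  rw [Subgroup.mul_normal] at hy
  obtain ⟨n, hn, m, hm, hnm⟩ := Set.mem_mul.mp hy
  have e : x = (g⁻¹ * n * g) * (g⁻¹ * m * g) := by
    have : x = g⁻¹ * (g * x * g⁻¹) * g := by group
    rw [this, ← hnm]; group
  rw [e]
  refine mul_mem (hNS ?_) (hMxM' ?_)
  · rw [Subgroup.mem_normalizer_iff]
    intro s
    have hn' := Subgroup.mem_normalizer_iff.mp hn (g * s * g⁻¹)
    have e1 : g⁻¹ * (g * s * g⁻¹) * g = s := by group
    have e2 : g⁻¹ * (n * (g * s * g⁻¹) * n⁻¹) * g = g⁻¹ * n * g * s * (g⁻¹ * n * g)⁻¹ := by group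
    have h1 := hS' (g * s * g⁻¹)
    have h2 := hS' (n * (g * s * g⁻¹) * n⁻¹)
    rw [e1] at h1
    rw [e2] at h2
    exact h1.symm.trans (hn'.trans h2)
  · have := hMxn.conj_mem m hm g⁻¹
    simpa using this

example : Cfsg.Agent.H51.Sy.StGenF2.{u} := Cfsg.Agent.H18.Sy.genF2.{u}

end Cfsg.Agent.H18.Sy
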