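import Cfsg.Agent.H4.TnDefs
import Cfsg.Agent.H4.Exceptional

/-!
# TN-NORM3 (helper4, S3805): a generalized character of norm 3 containing the trivial character
once and vanishing at 1 is `1 + χ₁ - χ₂`.
-/

set_option autoImplicit false

namespace Cfsg.Agent.H18.Tn

open Cfsg.Agent.H4.Tn Cfsg.Agent.H4 Cfsg

universe u

/-- An integer vector of squared norm `3`, orthogonal to a positive vector `d`, with entry `1` at
an index `t` where `d t = 1`, has exactly one more entry `1`, one entry `-1`, zeros elsewhere. -/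
theorem pm_of_sum_sq_three {ι : Type*} [Fintype ι] [DecidableEq ι] (f d : ι → ℤ)
    (hd : ∀ i, 0 < d i) (t : ι) (hft : f t = 1) (hdt : d t = 1)
    (h3 : ∑ i, f i ^ 2 = 3) (h0 : ∑ i, f i * d i = 0) :
    ∃ x y, x ≠ t ∧ y ≠ t ∧ x ≠ y ∧ f x = 1 ∧ f y = -1 ∧
      ∀ z, z ≠ t → z ≠ x → z ≠ y → f z = 0 := by
  have hs0 : f t * d t + ∑ i ∈ Finset.univ.erase t, f i * d i = 0 := by
    rw [Finset.add_sum_erase _ (fun i => f i * d i) (Finset.mem_univ t)]; exact h0
  have hs3 : f t ^ 2 + ∑ i ∈ Finset.univ.erase t, f i ^ 2 = 3 := by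
    rw [Finset.add_sum_erase _ (fun i => f i ^ 2) (Finset.mem_univ t)]; exact h3
  rw [hft, hdt] at hs0
  rw [hft] at hs3
  have hy : ∃ y ∈ Finset.univ.erase t, f y < 0 := by
    by_contra hcon
    push Not at hcon
    have : 0 ≤ ∑ i ∈ Finset.univ.erase t, f i * d i :=
      Finset.sum_nonneg fun i hi => mul_nonneg (hcon i hi) (hd i).le
    linarith
  obtain ⟨y, hyS, hy⟩ := hy
  have hyt : y ≠ t := Finset.ne_of_mem_erase hyS
  have hs3' : f y ^ 2 + ∑ i ∈ (Finset.univ.erase t).erase y, f i ^ 2 = 2 := by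
    rw [Finset.add_sum_erase _ (fun i => f i ^ 2) hyS]; linarith
  have hs0' : f y * d y + ∑ i ∈ (Finset.univ.erase t).erase y, f i * d i = -1 := by
    rw [Finset.add_sum_erase _ (fun i => f i * d i) hyS]; linarith
  have hrest : 0 ≤ ∑ i ∈ (Finset.univ.erase t).erase y, f i ^ 2 :=
    Finset.sum_nonneg fun i _ => sq_nonneg _
  have hy1 : f y = -1 := by
    have hge : -1 ≤ f y := by
      by_contra h
      push Not at h
      have h2 : f y ≤ -2 := by omega
      nlinarith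
    omega
  rw [hy1] at hs3' hs0'
  have hR : ∑ i ∈ (Finset.univ.erase t).erase y, f i ^ 2 = 1 := by linarith
  have hx : ∃ x ∈ (Finset.univ.erase t).erase y, f x ≠ 0 := by
    by_contra hcon
    push Not at hcon
    have : ∑ i ∈ (Finset.univ.erase t).erase y, f i ^ 2 = 0 :=
      Finset.sum_eq_zero fun i hi => by rw [hcon i hi]; ring
    omega
  obtain ⟨x, hxS, hx⟩ := hx
  have hxy : x ≠ y := Finset.ne_of_mem_erase hxS
  have hxt : x ≠ t := Finset.ne_of_mem_erase (Finset.mem_of_mem_erase hxS)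
  have hR' : f x ^ 2 + ∑ i ∈ ((Finset.univ.erase t).erase y).erase x, f i ^ 2 = 1 := by
    rw [Finset.add_sum_erase _ (fun i => f i ^ 2) hxS]; exact hR
  have hrest2 : 0 ≤ ∑ i ∈ ((Finset.univ.erase t).erase y).erase x, f i ^ 2 :=
    Finset.sum_nonneg fun i _ => sq_nonneg _
  have hx2 : 1 ≤ f x ^ 2 := by
    have : f x ≤ -1 ∨ 1 ≤ f x := by omega
    rcases this with h | h <;> nlinarith
  have hx21 : f x ^ 2 = 1 := by linarith
  have hrest0 : ∑ i ∈ ((Finset.univ.erase t).erase y).erase x, f i ^ 2 = 0 := by linarith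
  have hz : ∀ z, z ≠ t → z ≠ x → z ≠ y → f z = 0 := by
    intro z hzt hzx hzy
    have := (Finset.sum_eq_zero_iff_of_nonneg (fun i _ => sq_nonneg (f i))).mp hrest0 z
      (Finset.mem_erase.mpr ⟨hzx, Finset.mem_erase.mpr ⟨hzy,
        Finset.mem_erase.mpr ⟨hzt, Finset.mem_univ _⟩⟩⟩)
    exact (pow_eq_zero_iff two_ne_zero).mp this
  have hS0 : f x * d x + ∑ i ∈ ((Finset.univ.erase t).erase y).erase x, f i * d i
      = -1 + d y := by
    rw [Finset.add_sum_erase _ (fun i => f i * d i) hxS]; linarith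
  have hrest3 : ∑ i ∈ ((Finset.univ.erase t).erase y).erase x, f i * d i = 0 :=
    Finset.sum_eq_zero fun i hi => by
      have hi1 := Finset.ne_of_mem_erase hi
      have hi2 := Finset.ne_of_mem_erase (Finset.mem_of_mem_erase hi)
      have hi3 := Finset.ne_of_mem_erase (Finset.mem_of_mem_erase (Finset.mem_of_mem_erase hi))
      rw [hz i hi3 hi1 hi2]; ring
  have hx1 : f x = 1 := by
    have hcases : f x = 1 ∨ f x = -1 := by
      have : (f x - 1) * (f x + 1) = 0 := by nlinarith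
      rcases mul_eq_zero.mp this with h | h
      · left; omega
      · right; omega
    rcases hcases with h | h
    · exact h
    · exfalso
      rw [h, hrest3] at hS0
      have h1 := hd x
      have h2 := hd y
      omega
  exact ⟨x, y, hxt, hyt, hxy, hx1, hy1, hz⟩

/-- **TN-NORM3**. -/
theorem norm3 : StNorm3.{u} := by
  intro G _ _ Φ Ψ hΦ hΨ hnorm htriv h1
  classical
  let _ := fintypeIrr G
  obtain ⟨m, hm⟩ := isCharacter_iff.mp hΦ
  obtain ⟨m', hm'⟩ := isCharacter_iff.mp hΨ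
  set f : IrrCharacter G → ℤ := fun ψ => (m ψ : ℤ) - m' ψ with hf
  have hdiff : Φ - Ψ = ∑ᶠ ψ : IrrCharacter G, ((f ψ : ℤ) : ℂ) • ψ.1 := by
    rw [hm, hm', finsum_irr_eq_sum, finsum_irr_eq_sum, finsum_irr_eq_sum,
      ← Finset.sum_sub_distrib]
    refine Finset.sum_congr rfl fun ψ _ => ?_
    rw [hf]; push_cast; rw [sub_smul]
  choose d hd0 hd using fun ψ : IrrCharacter G => irr_one_eq_natCast ψ
  have hd2 : Φ - Ψ = ∑ ψ : IrrCharacter G, ((f ψ : ℤ) : ℂ) • ψ.1 := by
    rw [hdiff, finsum_irr_eq_sum]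
  have h3 : ∑ ψ : IrrCharacter G, f ψ ^ 2 = 3 := by
    have : ((∑ ψ : IrrCharacter G, f ψ ^ 2 : ℤ) : ℂ) = 3 := by
      rw [← hnorm]
      conv_rhs => rw [hd2]
      rw [classInner_sum_right]
      push_cast
      refine Finset.sum_congr rfl fun ψ _ => ?_
      rw [classInner_smul_right, ← hd2, hdiff, classInner_finsum_irr]
      simp [sq]
    exact_mod_cast this
  have h0 : ∑ ψ : IrrCharacter G, f ψ * (d ψ : ℤ) = 0 := by
    have : ((∑ ψ : IrrCharacter G, f ψ * (d ψ : ℤ) : ℤ) : ℂ) = 0 := by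
      have h := congrFun hdiff 1
      rw [Pi.sub_apply, h1, sub_self, finsum_irr_eq_sum, Finset.sum_apply] at h
      rw [h]; push_cast
      refine Finset.sum_congr rfl fun ψ _ => ?_
      rw [Pi.smul_apply, smul_eq_mul, hd]
    exact_mod_cast this
  have ht : f (trivialIrr G) = 1 := by
    have : ((f (trivialIrr G) : ℤ) : ℂ) = 1 := by
      rw [← htriv, hdiff]
      exact (classInner_finsum_irr (fun ψ => ((f ψ : ℤ) : ℂ)) (trivialIrr G)).symm
    exact_mod_cast this
  have hdt : (d (trivialIrr G) : ℤ) = 1 := by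
    have h := hd (trivialIrr G)
    have h1' : ((trivialIrr G : IrrCharacter G) : G → ℂ) 1 = 1 := rfl
    rw [h1'] at h
    exact_mod_cast h.symm
  obtain ⟨x, y, hxt, hyt, hxy, hx1, hy1, hz⟩ :=
    pm_of_sum_sq_three f (fun ψ => (d ψ : ℤ)) (fun ψ => by exact_mod_cast hd0 ψ)
      (trivialIrr G) ht hdt h3 h0
  refine ⟨x, y, fun g => ?_⟩
  have hsum : ∑ ψ : IrrCharacter G, ((f ψ : ℤ) : ℂ) • ψ.1 =
      ∑ ψ ∈ ({trivialIrr G, x, y} : Finset (IrrCharacter G)), ((f ψ : ℤ) : ℂ) • ψ.1 := by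
    symm
    apply Finset.sum_subset (Finset.subset_univ _)
    intro z _ hz'
    simp only [Finset.mem_insert, Finset.mem_singleton, not_or] at hz'
    rw [hz z hz'.1 hz'.2.1 hz'.2.2]
    simp
  have hg := congrFun hd2 g
  rw [hsum, Finset.sum_insert (by simp [hxt.symm, hyt.symm]), Finset.sum_pair hxy, ht, hx1, hy1]
    at hg
  have htg : ((trivialIrr G : IrrCharacter G) : G → ℂ) g = 1 := rfl
  simp only [Pi.sub_apply, Pi.add_apply, Pi.smul_apply, smul_eq_mul, htg] at hg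
  rw [hg]
  push_cast
  ring

example : Cfsg.Agent.H4.Tn.StNorm3.{u} := Cfsg.Agent.H18.Tn.norm3

end Cfsg.Agent.H18.Tn
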