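import Cfsg.Agent.H58.UqDefs
import Cfsg.Agent.H12.SpConjG

/-!
# UQ-K0CONJ (helper18, for helper58's S2950 project)

`𝒦₀` is compatible with conjugation: `K ∈ 𝒦₀(T)` implies `K^g ∈ 𝒦₀(T^g)`.
-/

set_option autoImplicit false
open Cfsg

namespace Cfsg.Agent.H18.Uq

open Cfsg.Agent.H58.Uq

universe u

theorem k0conj : StK0Conj.{u} := by
  intro G _ _ T K g hK
  obtain ⟨hJ, hS⟩ := hK
  have hinj' : Function.Injective (MulAut.conj g⁻¹).toMonoidHom := (MulAut.conj g⁻¹).injective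
  have hJmap : (thompsonSubgroupOf 2 T).map (MulAut.conj g).toMonoidHom =
      thompsonSubgroupOf 2 (T.map (MulAut.conj g).toMonoidHom) :=
    Cfsg.Agent.H14.thompsonSubgroupOf_conj 2 g T
  have hJmap' : (thompsonSubgroupOf 2 (T.map (MulAut.conj g).toMonoidHom)).map
      (MulAut.conj g⁻¹).toMonoidHom = thompsonSubgroupOf 2 T := by
    rw [← hJmap, Cfsg.Agent.H12.Sp.map_conj_conj_inv]
  refine ⟨Cfsg.Agent.H12.Sp.isJComponent_conj T K g hJ, ?_⟩
  intro S hJS hSyl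
  obtain ⟨hS1, hS2, hS3⟩ := hSyl
  have hN : (Subgroup.normalizer (wOf (K.map (MulAut.conj g).toMonoidHom) : Set G)).map
      (MulAut.conj g⁻¹).toMonoidHom = Subgroup.normalizer (wOf K : Set G) := by
    rw [Subgroup.map_equiv_normalizer_eq, Cfsg.Agent.H12.Sp.wOf_conj_map,
      Cfsg.Agent.H12.Sp.map_conj_conj_inv]
  have hS' : IsSylowTwoIn (S.map (MulAut.conj g⁻¹).toMonoidHom)
      (Subgroup.normalizer (wOf K : Set G)) := by
    refine ⟨?_, hS2.map _, ?_⟩
    · rw [← hN]; exact Subgroup.map_mono hS1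
    · rw [← hN, Subgroup.relIndex_map_map_of_injective _ _ hinj']; exact hS3
  have hJS' : thompsonSubgroupOf 2 T ≤ S.map (MulAut.conj g⁻¹).toMonoidHom := by
    conv_lhs => rw [← hJmap']
    exact Subgroup.map_mono hJS
  have h7 := hS _ hJS' hS'
  rw [← Cfsg.Agent.H14.thompsonSubgroupOf_conj 2 g⁻¹ S] at h7
  conv_rhs at h7 => rw [← hJmap']
  exact Subgroup.map_injective hinj' h7

example : Cfsg.Agent.H58.Uq.StK0Conj.{u} := Cfsg.Agent.H18.Uq.k0conj.{u}

end Cfsg.Agent.H18.Uq
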