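import Cfsg.Agent.H58.UqDefs
import Cfsg.Agent.H51.JcNORM
import Cfsg.Agent.H63.SnIfV
import Cfsg.Agent.H53.POf

/-!
# UQ-KEYC (helper18, for helper58's S2950 project)

A subgroup `Y` normalizing all `L`-conjugates of `W_K` (`K` subnormal in the maximal 2-local
`L`, `W_K` a nontrivial 2-group) lies in `L`: the join `U` of these conjugates is a nontrivial
subgroup of `O₂(L)` normalized by `L`, so `N_G(U) = L` by maximality.
-/

set_option autoImplicit false
open Cfsg

namespace Cfsg.Agent.H18.Uq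

open Cfsg.Agent.H58.Uq

universe u

theorem keyC (hO : StO2SN.{u}) : StKeyC.{u} := by
  intro G _ _ L K Y hL hKL hsn hW2 hW1 hY
  obtain ⟨hL2, hLmax⟩ := hL
  obtain ⟨U, hU⟩ : ∃ U : Subgroup G,
      U = ⨆ x : ↥L, (wOf K).map (MulAut.conj (x : G)).toMonoidHom := ⟨_, rfl⟩
  have hWle : ∀ x : G, x ∈ L → (wOf K).map (MulAut.conj x).toMonoidHom ≤ U := by
    intro x hx
    rw [hU]
    exact le_iSup (fun x : ↥L => (wOf K).map (MulAut.conj (x : G)).toMonoidHom) ⟨x, hx⟩
  have hWO : wOf K ≤ pCoreOf 2 L := (Cfsg.Agent.H51.Jc.wOf_le K).trans (hO K L hKL hsn)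
  have hUO : U ≤ pCoreOf 2 L := by
    rw [hU]
    apply iSup_le
    rintro ⟨x, hx⟩ _ ⟨w, hw, rfl⟩
    show (MulAut.conj x) w ∈ pCoreOf 2 L
    rw [MulAut.conj_apply]
    exact Cfsg.Agent.H63.Sn.pCoreOf_conj L hx (hWO hw)
  have hU2 : IsPGroup 2 ↥U := (Cfsg.Agent.H53.pCoreOf_isPGroup 2 L).to_le hUO
  have hU1 : U ≠ ⊥ := by
    intro h
    apply hW1
    rw [eq_bot_iff]
    intro w hw
    have h1 : (MulAut.conj (1 : G)).toMonoidHom w ∈ U := hWle 1 (one_mem L) ⟨w, hw, rfl⟩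
    rw [h] at h1
    simpa using h1
  have keyL : ∀ l ∈ L, ∀ u ∈ U, l * u * l⁻¹ ∈ U := by
    intro l hl u hu
    have h : U ≤ U.comap (MulAut.conj l).toMonoidHom := by
      conv_lhs => rw [hU]
      apply iSup_le
      rintro ⟨x, hx⟩ _ ⟨w, hw, rfl⟩
      show (MulAut.conj l) ((MulAut.conj x) w) ∈ U
      have e : (MulAut.conj l) ((MulAut.conj x) w) = (MulAut.conj (l * x)).toMonoidHom w := by
        simp only [MulAut.conj_apply, MulEquiv.coe_toMonoidHom]
        group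
      rw [e]
      exact hWle (l * x) (mul_mem hl hx) ⟨w, hw, rfl⟩
    have := h hu
    simpa using this
  have hLN : L ≤ Subgroup.normalizer (U : Set G) := by
    intro l hl
    rw [Subgroup.mem_normalizer_iff]
    intro u
    constructor
    · exact keyL l hl u
    · intro h
      have := keyL l⁻¹ (inv_mem hl) _ h
      have e : l⁻¹ * (l * u * l⁻¹) * l⁻¹⁻¹ = u := by group
      rwa [e] at this
  have hNU : Subgroup.normalizer (U : Set G) = L := hLmax _ ⟨U, hU2, hU1, rfl⟩ hLN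
  have keyY : ∀ y ∈ Y, ∀ u ∈ U, y * u * y⁻¹ ∈ U := by
    intro y hy u hu
    have h : U ≤ U.comap (MulAut.conj y).toMonoidHom := by
      conv_lhs => rw [hU]
      apply iSup_le
      rintro ⟨x, hx⟩ w' hw'
      show (MulAut.conj y) w' ∈ U
      rw [MulAut.conj_apply]
      have hyN := hY x hx hy
      exact hWle x hx ((Subgroup.mem_normalizer_iff.mp hyN w').mp hw')
    have := h hu
    simpa using this
  rw [← hNU]
  intro y hy
  rw [Subgroup.mem_normalizer_iff]
  intro u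
  constructor
  · exact keyY y hy u
  · intro h
    have := keyY y⁻¹ (inv_mem hy) _ h
    have e : y⁻¹ * (y * u * y⁻¹) * y⁻¹⁻¹ = u := by group
    rwa [e] at this

example (hO : Cfsg.Agent.H58.Uq.StO2SN.{u}) : Cfsg.Agent.H58.Uq.StKeyC.{u} :=
  Cfsg.Agent.H18.Uq.keyC.{u} hO

end Cfsg.Agent.H18.Uq
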